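import Groth.Agent.BigCellLib.Extend

/-!
# Homomorphisms out of a group from an open neighbourhood of the unit

A smooth group with connected fibres is generated by any open subscheme containing the unit, and a map of the
subscheme which is multiplicative where defined extends to a homomorphism.
-/

set_option autoImplicit false
set_option linter.style.haveILetI false
set_option backward.isDefEq.respectTransparency false
set_option maxHeartbeats 1000000

universe u

open CategoryTheory CategoryTheory.Limits MonoidalCategory CartesianMonoidalCategory AlgebraicGeometry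
open Groth.Agent.BigCell (Conn fieldPt exists_geomPt epi_of_flat isMonHom_of_mul')
open scoped MonObj

noncomputable section

namespace SplitCell

variable {S : Scheme.{u}} {G H Ω : Over S} [GrpObj G] [GrpObj H]

/-- An open subscheme containing the unit. -/
structure IsGerm (c : Ω ⟶ G) : Prop where
  open_imm : IsOpenImmersion c.left
  one : ∃ o : 𝟙_ (Over S) ⟶ Ω, o ≫ c = 1
  conn : Conn G

/-- The point lies in the subscheme. -/
def InGerm (c : Ω ⟶ G) {X : Over S} (g : X ⟶ G) : Prop := ∃ z : X ⟶ Ω, z ≫ c = g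

variable {c : Ω ⟶ G}

theorem inGerm_iff (hc : IsGerm c) {X : Over S} (g : X ⟶ G) :
    InGerm c g ↔ Set.range g.left ⊆ Set.range c.left := by
  constructor
  · rintro ⟨z, rfl⟩ _ ⟨x, rfl⟩
    exact ⟨z.left x, (Scheme.Hom.comp_apply _ _ _).symm⟩
  · intro h
    haveI := hc.open_imm
    exact ⟨Over.homMk (IsOpenImmersion.lift c.left g.left h) (by
        rw [← Over.w c, ← Category.assoc, IsOpenImmersion.lift_fac, Over.w]),
      Over.OverMorphism.ext (IsOpenImmersion.lift_fac _ _ _)⟩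

theorem mono_germ (hc : IsGerm c) : Mono c := by
  haveI := hc.open_imm
  exact (Over.forget S).mono_of_mono_map (show Mono c.left from inferInstance)

theorem inGerm_one (hc : IsGerm c) {X : Over S} : InGerm c (1 : X ⟶ G) := by
  obtain ⟨o, ho⟩ := hc.one
  exact ⟨toUnit X ≫ o, by rw [Category.assoc, ho, MonObj.comp_one]⟩

theorem exists_translate (hc : IsGerm c) {X : Over S} {J : Type} [Fintype J] (g : J → (X ⟶ G)) :
    ∃ (X' : Over S) (π : X' ⟶ X) (_ : Flat π.left) (_ : LocallyOfFinitePresentation π.left) (_ : Surjective π.left)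
      (e : X' ⟶ G), InGerm c e ∧ ∀ j, InGerm c ((π ≫ g j) * e) := by
  classical
  haveI := hc.conn.smooth
  haveI := hc.open_imm
  let P : Over S := X ⊗ G
  let m : Option J → (P ⟶ G) := fun o => o.elim (snd X G) fun j => (fst X G ≫ g j) * snd X G
  let V : G.left.Opens := c.left.opensRange
  let U : P.left.Opens := Finset.univ.inf fun o => (m o).left ⁻¹ᵁ V
  let X' : Over S := Over.mk (U.ι ≫ P.hom)
  let jU : X' ⟶ P := Over.homMk U.ι rfl
  have hmem : ∀ o, InGerm c (jU ≫ m o) := fun o => by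
    refine (inGerm_iff hc _).2 ?_
    rintro _ ⟨z, rfl⟩
    have hle : U ≤ (m o).left ⁻¹ᵁ V := Finset.inf_le (Finset.mem_univ o)
    have : (m o).left (jU.left z) ∈ V := hle z.2
    exact (Scheme.Hom.comp_apply jU.left (m o).left z).symm ▸ this
  refine ⟨X', jU ≫ fst _ _, ?_, ?_, ⟨fun x => ?_⟩, jU ≫ snd _ _, hmem none, fun j => ?_⟩
  · show Flat (U.ι ≫ pullback.fst X.hom G.hom)
    infer_instance
  · show LocallyOfFinitePresentation (U.ι ≫ pullback.fst X.hom G.hom)
    infer_instance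
  · obtain ⟨K, _, _, a, p, hp⟩ := exists_geomPt X x
    haveI := hc.conn.irreducible a
    let Q : Over S := Over.mk ((Red.bc a G).hom ≫ a)
    let pr : Q ⟶ fieldPt K a := Over.homMk (Red.bc a G).hom rfl
    let w : Q ⟶ G := Over.homMk (pullback.fst G.hom a) pullback.condition
    let κ : Q ⟶ P := lift (pr ≫ p) w
    have hne : ∀ o, ((κ ≫ m o).left ⁻¹ᵁ V : Set Q.left).Nonempty := by
      intro o
      let e : fieldPt K a ⟶ G := o.elim 1 fun j => (p ≫ g j)⁻¹
      let σ : fieldPt K a ⟶ Q := Over.homMk (pullback.lift e.left (𝟙 _) ((Over.w e).trans (Category.id_comp _).symm))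
        (by
          show _ ≫ pullback.snd G.hom a ≫ a = a
          rw [← Category.assoc, pullback.lift_snd]
          exact Category.id_comp a)
      have h1 : σ ≫ pr = 𝟙 _ := Over.OverMorphism.ext (pullback.lift_snd _ _ _)
      have h2 : σ ≫ w = e := Over.OverMorphism.ext (pullback.lift_fst _ _ _)
      have h3 : σ ≫ κ ≫ m o = 1 := by
        have hk : σ ≫ κ = lift p e := by
          rw [comp_lift, ← Category.assoc, h1, Category.id_comp, h2]
        rw [← Category.assoc, hk]
        cases o with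
        | none => exact (lift_snd _ _)
        | some j =>
          show lift p e ≫ ((fst X G ≫ g j) * snd X G) = 1
          rw [MonObj.comp_mul, ← Category.assoc, lift_fst, lift_snd]
          exact mul_inv_cancel _
      let z₀ : (fieldPt K a).left := (IsLocalRing.closedPoint K : PrimeSpectrum K)
      refine ⟨σ.left z₀, ?_⟩
      have h4 : (σ ≫ κ ≫ m o).left z₀ ∈ V := by
        rw [h3]
        exact (inGerm_iff hc _).1 (inGerm_one hc) ⟨z₀, rfl⟩
      change (κ ≫ m o).left (σ.left z₀) ∈ V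
      exact (Scheme.Hom.comp_apply σ.left (κ ≫ m o).left z₀) ▸ h4
    have key : ∀ s : Finset (Option J),
        ((κ.left ⁻¹ᵁ s.inf fun o => (m o).left ⁻¹ᵁ V : Q.left.Opens) : Set Q.left).Nonempty := by
      intro s
      haveI : IrreducibleSpace Q.left := hc.conn.irreducible a
      induction s using Finset.induction with
      | empty => exact ⟨(hne none).choose, trivial⟩
      | insert o s _ ih =>
        rw [Finset.inf_insert]
        refine nonempty_preirreducible_inter (s := ((κ.left ⁻¹ᵁ ((m o).left ⁻¹ᵁ V) : Q.left.Opens) : Set Q.left))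
          (t := ((κ.left ⁻¹ᵁ (s.inf fun o => (m o).left ⁻¹ᵁ V) : Q.left.Opens) : Set Q.left))
          (TopologicalSpace.Opens.isOpen _) (TopologicalSpace.Opens.isOpen _) ?_ ih
        obtain ⟨z, hz⟩ := hne o
        exact ⟨z, hz⟩
    obtain ⟨q, hqU⟩ := key Finset.univ
    refine ⟨⟨κ.left q, hqU⟩, ?_⟩
    show (jU ≫ fst X G).left ⟨κ.left q, hqU⟩ = x
    refine (Scheme.Hom.comp_apply jU.left (fst X G).left _).trans ?_
    show (fst X G).left (κ.left q) = x
    refine (Scheme.Hom.comp_apply κ.left (fst X G).left q).symm.trans ?_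
    rw [← Over.comp_left, lift_fst]
    exact (Scheme.Hom.comp_apply pr.left p.left q).trans (hp _)
  · have := hmem (some j)
    simpa only [m, Option.elim, MonObj.comp_mul, Category.assoc] using this

/-- Every point is, after a flat surjection, a quotient of two points of the germ. -/
theorem exists_div (hc : IsGerm c) {X : Over S} (g : X ⟶ G) :
    ∃ (X' : Over S) (π : X' ⟶ X) (_ : Flat π.left) (_ : LocallyOfFinitePresentation π.left) (_ : Surjective π.left)
      (z w : X' ⟶ Ω), π ≫ g = (z ≫ c) * (w ≫ c)⁻¹ := by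
  obtain ⟨X', π, h1, h2, h3, e, ⟨w, hw⟩, hj⟩ := exists_translate hc fun _ : PUnit.{1} => g
  obtain ⟨z, hz⟩ := hj ⟨⟩
  exact ⟨X', π, h1, h2, h3, z, w, by rw [hz, hw, mul_inv_cancel_right]⟩

/-- Homomorphisms are determined on a germ. -/
theorem hom_ext_germ (hc : IsGerm c) {f f' : G ⟶ H} [IsMonHom f] [IsMonHom f'] (h : c ≫ f = c ≫ f') : f = f' := by
  obtain ⟨X', π, _, _, _, z, w, he⟩ := exists_div hc (𝟙 G)
  haveI := epi_of_flat π
  rw [Category.comp_id] at he
  rw [← cancel_epi π, he, MonObj.mul_comp, MonObj.mul_comp, GrpObj.inv_comp, GrpObj.inv_comp]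
  simp only [Category.assoc, h]

variable (c) in
/-- `g` is in the germ and `v` is its image. -/
def GRel (f : Ω ⟶ H) {X : Over S} (g : X ⟶ G) (v : X ⟶ H) : Prop := ∃ z : X ⟶ Ω, z ≫ c = g ∧ z ≫ f = v

variable {f : Ω ⟶ H}

theorem exists_grel {X : Over S} {g : X ⟶ G} (h : InGerm c g) : ∃ v, GRel c f g v := by
  obtain ⟨z, rfl⟩ := h
  exact ⟨_, z, rfl, rfl⟩

theorem GRel.inGerm {X : Over S} {g : X ⟶ G} {v : X ⟶ H} (h : GRel c f g v) : InGerm c g := by
  obtain ⟨z, h, -⟩ := h
  exact ⟨z, h⟩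

theorem GRel.comp {X X' : Over S} {g : X ⟶ G} {v : X ⟶ H} (h : GRel c f g v) (π : X' ⟶ X) :
    GRel c f (π ≫ g) (π ≫ v) := by
  obtain ⟨z, rfl, rfl⟩ := h
  exact ⟨π ≫ z, Category.assoc _ _ _, Category.assoc _ _ _⟩

theorem grel_unique (hc : IsGerm c) {X : Over S} {g : X ⟶ G} {v v' : X ⟶ H} (h : GRel c f g v)
    (h' : GRel c f g v') : v = v' := by
  obtain ⟨z, hz, rfl⟩ := h
  obtain ⟨z', hz', rfl⟩ := h'
  haveI := mono_germ hc
  rw [(cancel_mono c).1 (hz.trans hz'.symm)]

variable (hf : ∀ (X : Over S) (x y z : X ⟶ Ω), z ≫ c = (x ≫ c) * (y ≫ c) → z ≫ f = (x ≫ f) * (y ≫ f))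
include hf

theorem grel_mul {X : Over S} {g g' : X ⟶ G} {v v' : X ⟶ H} (h : GRel c f g v) (h' : GRel c f g' v')
    (hm : InGerm c (g * g')) : GRel c f (g * g') (v * v') := by
  obtain ⟨x, rfl, rfl⟩ := h
  obtain ⟨y, rfl, rfl⟩ := h'
  obtain ⟨z, hz⟩ := hm
  exact ⟨z, hz, hf X x y z hz⟩

theorem grel_one (hc : IsGerm c) {X : Over S} : GRel c f (1 : X ⟶ G) 1 := by
  obtain ⟨z, hz⟩ := inGerm_one hc (X := X)
  refine ⟨z, hz, ?_⟩
  have := hf X z z z (by rw [hz, _root_.one_mul])
  exact left_eq_mul.1 this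

theorem grel_indep (hc : IsGerm c) {X : Over S} {g e₁ e₂ : X ⟶ G} {a₁ b₁ a₂ b₂ : X ⟶ H}
    (h₁ : GRel c f e₁ a₁) (k₁ : GRel c f (g * e₁) b₁) (h₂ : GRel c f e₂ a₂) (k₂ : GRel c f (g * e₂) b₂) :
    b₁ * a₁⁻¹ = b₂ * a₂⁻¹ := by
  obtain ⟨X', π, _, _, _, η', hη, hj⟩ := exists_translate hc ![e₁⁻¹, e₂⁻¹, g]
  have key : ∀ {e : X ⟶ G} {a b : X ⟶ H}, GRel c f e a → GRel c f (g * e) b →
      InGerm c ((π ≫ e⁻¹) * η') → ∀ {n m : X' ⟶ H}, GRel c f η' n →
        GRel c f ((π ≫ g) * η') m → π ≫ (b * a⁻¹) = m * n⁻¹ := by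
    intro e a b ha hb he n m hn hm
    obtain ⟨d, hd⟩ := exists_grel (f := f) he
    have e1 : (π ≫ e) * ((π ≫ e⁻¹) * η') = η' := by rw [GrpObj.comp_inv, mul_inv_cancel_left]
    have e2 : (π ≫ (g * e)) * ((π ≫ e⁻¹) * η') = (π ≫ g) * η' := by
      rw [MonObj.comp_mul, GrpObj.comp_inv, _root_.mul_assoc, mul_inv_cancel_left]
    have r1 := grel_mul hf (ha.comp π) hd (e1.symm ▸ hn.inGerm)
    have r2 := grel_mul hf (hb.comp π) hd (e2.symm ▸ hm.inGerm)
    rw [e1] at r1
    rw [e2] at r2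
    rw [grel_unique hc hn r1, grel_unique hc hm r2, MonObj.comp_mul, GrpObj.comp_inv]
    group
  haveI := epi_of_flat π
  obtain ⟨n, hn⟩ := exists_grel (f := f) hη
  obtain ⟨m, hm⟩ := exists_grel (f := f) (hj 2)
  rw [← cancel_epi π, key h₁ k₁ (hj 0) hn hm, key h₂ k₂ (hj 1) hn hm]

/-- **A local homomorphism on a germ extends uniquely.** -/
theorem existsUnique_extend (hc : IsGerm c) : ∃! g : G ⟶ H, IsMonHom g ∧ c ≫ g = f := by
  obtain ⟨X₀, π₀, _, _, _, e₀, he₀, hge₀⟩ := exists_translate hc fun _ : PUnit.{1} => 𝟙 G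
  have hge₀' : InGerm c (π₀ * e₀) := by simpa only [Category.comp_id] using hge₀ ⟨⟩
  obtain ⟨a₀, ha₀⟩ := exists_grel (f := f) he₀
  obtain ⟨b₀, hb₀⟩ := exists_grel (f := f) hge₀'
  let φ : X₀ ⟶ H := b₀ * a₀⁻¹
  have heq : ∀ {Z : Over S} (a b : Z ⟶ X₀), a ≫ π₀ = b ≫ π₀ → a ≫ φ = b ≫ φ := by
    intro Z a b hab
    have h1 := hb₀.comp a
    have h2 := hb₀.comp b
    rw [MonObj.comp_mul] at h1 h2
    rw [← hab] at h2
    simp only [φ, MonObj.comp_mul, GrpObj.comp_inv]
    exact grel_indep hf hc (ha₀.comp a) h1 (ha₀.comp b) h2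
  let fl : G.left ⟶ H.left := EffectiveEpi.desc π₀.left φ.left fun {W} a b hab => by
    let Z : Over S := Over.mk (a ≫ X₀.hom)
    let a' : Z ⟶ X₀ := Over.homMk a rfl
    let b' : Z ⟶ X₀ := Over.homMk b (by
      show b ≫ X₀.hom = a ≫ X₀.hom
      rw [← Over.w π₀, ← Category.assoc, ← hab, Category.assoc])
    exact congrArg CommaMorphism.left (heq a' b' (Over.OverMorphism.ext hab))
  have hfl : π₀.left ≫ fl = φ.left := EffectiveEpi.fac _ _ _
  let F : G ⟶ H := Over.homMk fl (by
    haveI := Flat.epi_of_flat_of_surjective π₀.left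
    rw [← cancel_epi π₀.left, ← Category.assoc, hfl, Over.w φ, Over.w π₀])
  have hF : π₀ ≫ F = φ := Over.OverMorphism.ext hfl
  have spec : ∀ {X : Over S} (g e : X ⟶ G) (a b : X ⟶ H), GRel c f e a →
      GRel c f (g * e) b → g ≫ F = b * a⁻¹ := by
    intro X g e a b ha hb
    let X' : Over S := Over.mk (pullback.fst g.left π₀.left ≫ X.hom)
    let p : X' ⟶ X := Over.homMk (pullback.fst g.left π₀.left) rfl
    let q : X' ⟶ X₀ := Over.homMk (pullback.snd g.left π₀.left) (by
      show _ ≫ X₀.hom = _ ≫ X.hom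
      rw [← Over.w π₀, ← Category.assoc, ← pullback.condition, Category.assoc, Over.w g])
    have hpq : p ≫ g = q ≫ π₀ := Over.OverMorphism.ext pullback.condition
    haveI : Flat p.left := inferInstanceAs (Flat (pullback.fst g.left π₀.left))
    haveI : Surjective p.left := inferInstanceAs (Surjective (pullback.fst g.left π₀.left))
    haveI := epi_of_flat p
    rw [← cancel_epi p, ← Category.assoc, hpq, Category.assoc, hF]
    have h1 := hb₀.comp q
    rw [MonObj.comp_mul, ← hpq] at h1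
    have h2 := hb.comp p
    rw [MonObj.comp_mul] at h2
    simp only [φ, MonObj.comp_mul, GrpObj.comp_inv]
    exact grel_indep hf hc (ha₀.comp q) h1 (ha.comp p) h2
  have hcell : c ≫ F = f := by
    have hv : GRel c f c f := ⟨𝟙 _, Category.id_comp _, Category.id_comp _⟩
    have h1 : GRel c f (c * 1) f := by rwa [_root_.mul_one]
    rw [spec c 1 1 f (grel_one hf hc) h1, inv_one, _root_.mul_one]
  have hmon : IsMonHom F := isMonHom_of_mul' F fun X g g' => by
    obtain ⟨X', π, _, _, _, η', hη, hj⟩ := exists_translate hc ![g', g * g']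
    haveI := epi_of_flat π
    obtain ⟨n, hn⟩ := exists_grel (f := f) hη
    obtain ⟨m, hm⟩ := exists_grel (f := f) (hj 0)
    obtain ⟨l, hl⟩ := exists_grel (f := f) (hj 1)
    change GRel c f ((π ≫ g') * η') m at hm
    change GRel c f ((π ≫ (g * g')) * η') l at hl
    have hl' := hl
    rw [MonObj.comp_mul, _root_.mul_assoc] at hl'
    rw [← cancel_epi π, MonObj.comp_mul, ← Category.assoc, spec _ _ _ _ hn hl, ← Category.assoc π g F,
      spec (π ≫ g) _ _ _ hm hl', ← Category.assoc π g' F, spec (π ≫ g') _ _ _ hn hm]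
    group
  refine ⟨F, ⟨hmon, hcell⟩, ?_⟩
  rintro g ⟨hg, hg'⟩
  haveI := hg
  haveI := hmon
  exact hom_ext_germ hc (hg'.trans hcell.symm)

end SplitCell

end
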