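import Groth.Agent.SplitCellLib.Normal
import Groth.Agent.SplitCellLib.Germ
import Groth.Agent.RCentreLib.SelfCent
import Groth.Agent.RCentreLib.Torus
import Groth.Agent.S3917
import Groth.Agent.BorelLib.RedClosed

/-!
# The centre of a split reductive group
-/

set_option autoImplicit false
set_option linter.style.haveILetI false
set_option backward.isDefEq.respectTransparency false
set_option maxHeartbeats 1000000

universe u

open CategoryTheory CategoryTheory.Limits MonoidalCategory CartesianMonoidalCategory AlgebraicGeometry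
open Groth.Agent.GaPts
open scoped MonObj

noncomputable section

namespace SplitCell

open Groth.Agent.BigCell (rt rt_eq comp_rt)

variable {S : Scheme.{u}} {G : Over S} [GrpObj G] (D : Red.SplitRed G)

/-- Some base of the roots with enumerations. -/
theorem exists_enum (b : Sides D.P) : ∃ (n m : ℕ) (eneg : Fin n → D.idx) (epos : Fin m → D.idx),
    RedSub.Enumerates b.neg eneg ∧ RedSub.Enumerates b.pos epos := by
  classical
  have h : ∀ s : Set D.idx, ∃ (n : ℕ) (e : Fin n → D.idx), RedSub.Enumerates s e := fun s =>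
    ⟨Fintype.card s, fun k => ((Fintype.equivFin s).symm k).1,
      fun k l h => (Fintype.equivFin s).symm.injective (Subtype.ext h), by
        ext x
        exact ⟨fun ⟨k, hk⟩ => hk ▸ ((Fintype.equivFin s).symm k).2,
          fun hx => ⟨Fintype.equivFin s ⟨x, hx⟩, by simp⟩⟩⟩
  obtain ⟨n, eneg, h1⟩ := h b.neg
  obtain ⟨m, epos, h2⟩ := h b.pos
  exact ⟨n, m, eneg, epos, h1, h2⟩

theorem isGerm_cell (b : Sides D.P) {n m : ℕ} {eneg : Fin n → D.idx} {epos : Fin m → D.idx}
    (hneg : RedSub.Enumerates b.neg eneg) (hpos : RedSub.Enumerates b.pos epos) :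
    IsGerm (RedSub.cellMap D eneg epos) := by
  refine ⟨isOpenImmersion_cellMap D b hneg hpos, ?_, Groth.Agent.BigCell.conn_of_isReductive D.reductive⟩
  haveI := isMonHom_i D
  let z : ∀ l : ℕ, 𝟙_ (Over S) ⟶ RedSub.pow (Red.Ga S) l := fun l =>
    Nat.rec (motive := fun l => 𝟙_ (Over S) ⟶ RedSub.pow (Red.Ga S) l) (toUnit _) (fun _ ih => lift (ptOf 0) ih) l
  have hz : ∀ (l : ℕ) (e : Fin l → D.idx), z l ≫ RedSub.prodMap (Red.Ga S) l (fun k => D.u (e k)) = 1 := by
    intro l
    induction l with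
    | zero => exact fun _ => MonObj.comp_one _
    | succ l ih =>
      intro e
      haveI := isMonHom_u D (e 0)
      show lift (ptOf (0 : Γ((𝟙_ (Over S)).left, ⊤))) (z l) ≫ RedSub.prodMap (Red.Ga S) (l + 1) _ = 1
      rw [RedSub.prodMap, MonObj.comp_mul, lift_fst_assoc, lift_snd_assoc, ih fun k => e k.succ]
      rw [show (ptOf (0 : Γ((𝟙_ (Over S)).left, ⊤)) : _ ⟶ Red.Ga S) ≫ D.u (e 0) = 1 from
        Groth.Agent.BigCell.rt_zero _, _root_.one_mul]
  refine ⟨lift (z n) (lift 1 (z m)), ?_⟩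
  rw [RedSub.cellMap, MonObj.comp_mul, MonObj.comp_mul, lift_fst_assoc, lift_snd_assoc, lift_fst_assoc,
    lift_snd_assoc, lift_snd_assoc, hz, hz, MonObj.one_comp, _root_.one_mul, _root_.one_mul]

/-- A torus point killed by the roots commutes with every cell point. -/
theorem commute_cell {n m : ℕ} {eneg : Fin n → D.idx} {epos : Fin m → D.idx} {X : Over S}
    (t : X ⟶ D.T) (ht : ∀ k, t ≫ D.split.hom.hom.hom ≫ Red.chi S (D.P.root k) = 1)
    (z : X ⟶ RedSub.pow (Red.Ga S) n ⊗ (D.T ⊗ RedSub.pow (Red.Ga S) m)) :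
    (t ≫ D.i) * (z ≫ RedSub.cellMap D eneg epos) = (z ≫ RedSub.cellMap D eneg epos) * (t ≫ D.i) := by
  haveI := isMonHom_i D
  have hcomm : ∀ (l : ℕ) (e : Fin l → D.idx) (v : X ⟶ RedSub.pow (Red.Ga S) l),
      Commute (t ≫ D.i) (v ≫ RedSub.prodMap (Red.Ga S) l (fun k => D.u (e k))) := by
    intro l
    induction l with
    | zero => intro e v; rw [RedSub.prodMap, MonObj.comp_one]; exact Commute.one_right _
    | succ l ih =>
      intro e v
      rw [RedSub.prodMap, MonObj.comp_mul]
      refine Commute.mul_right ?_ ((Category.assoc v _ _) ▸ ih (fun k => e k.succ) (v ≫ snd _ _))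
      have h := conj_torus D (e 0) t (Red.gaFn (v ≫ fst _ _))
      rw [ht, GmPts.gmFn_one, _root_.one_mul, ← rt_eq _ (v ≫ fst _ _) rfl, mul_inv_eq_iff_eq_mul] at h
      rw [← Category.assoc]
      exact h
  have hT : Commute (t ≫ D.i) (z ≫ snd _ _ ≫ fst _ _ ≫ D.i) := by
    rw [← Category.assoc (f := snd _ _), ← Category.assoc z]
    exact (MonObj.mul_comp _ _ _).symm.trans ((congrArg (· ≫ D.i) (torus_comm D _ _)).trans (MonObj.mul_comp _ _ _))
  rw [RedSub.cellMap, MonObj.comp_mul, MonObj.comp_mul]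
  refine Commute.mul_right ?_ (Commute.mul_right hT ?_)
  · rw [← Category.assoc]; exact hcomm _ _ _
  · rw [← Category.assoc (f := snd _ _), ← Category.assoc z]; exact hcomm _ _ _

/-- A torus point killed by the roots is central. -/
theorem central_of_roots (b : Sides D.P) {X : Over S} (t : X ⟶ D.T)
    (ht : ∀ k, t ≫ D.split.hom.hom.hom ≫ Red.chi S (D.P.root k) = 1) (h : X ⟶ G) :
    (t ≫ D.i) * h = h * (t ≫ D.i) := by
  obtain ⟨n, m, eneg, epos, hneg, hpos⟩ := exists_enum D b
  obtain ⟨X', π, _, _, _, z, w, he⟩ := exists_div (isGerm_cell D b hneg hpos) h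
  haveI := Groth.Agent.BigCell.epi_of_flat π
  rw [← cancel_epi π, MonObj.comp_mul, MonObj.comp_mul, he]
  have ht' : ∀ k, (π ≫ t) ≫ D.split.hom.hom.hom ≫ Red.chi S (D.P.root k) = 1 := fun k => by
    rw [Category.assoc, ht, MonObj.comp_one]
  have h1 := commute_cell D (eneg := eneg) (epos := epos) (π ≫ t) ht' z
  have h2 : Commute (π ≫ t ≫ D.i) (w ≫ RedSub.cellMap D eneg epos) := by
    rw [← Category.assoc]; exact commute_cell D (eneg := eneg) (epos := epos) (π ≫ t) ht' w
  rw [Category.assoc] at h1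
  exact Commute.mul_right h1 h2.inv_right

/-- A point commuting with the torus lies in it. -/
theorem exists_factor_of_commute {X : Over S} (x : X ⟶ G)
    (hx : ∀ (X' : Over S) (y : X' ⟶ X) (t : X' ⟶ D.T), (y ≫ x) * (t ≫ D.i) = (t ≫ D.i) * (y ≫ x)) :
    ∃ t : X ⟶ D.T, t ≫ D.i = x := by
  haveI := isAffineHom_hom D
  haveI : Smooth G.hom := D.reductive.2.1
  haveI := isMonHom_i D
  haveI := mono_i D
  refine Groth.Agent.RCentre.exists_factor_of_selfCent G (i := D.i) D.maximalTorus.2.2.1 (fun s Y y hy => ?_) x hx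
  have hmax := Groth.Agent.RCentre.isMaximalTorus_bc D.maximalTorus (Red.geomPt s)
  haveI := hmax.1
  haveI := hmax.2.1
  have hred := Groth.Agent.BorelLib.isReductive_of_isReductiveOver (D.reductive.2.2 s)
  have hc := (Groth.Agent.S3917.result _ (Red.geomFibre s G) hred (Red.geomFibre s D.T)
    ((Over.pullback (Red.geomPt s)).map D.i) hmax.2.2.1).1 hmax
  exact (hc.2.2 Y y).2 fun X' z t => hy X' z t

/-- **The centre is the intersection of the kernels of the roots.** -/
theorem central_iff (X : Over S) (g : X ⟶ G) :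
    (∀ (X' : Over S) (x : X' ⟶ X) (h : X' ⟶ G), (x ≫ g) * h = h * (x ≫ g)) ↔
      ∃ t : X ⟶ D.T, t ≫ D.i = g ∧ ∀ a : D.idx, t ≫ D.split.hom.hom.hom ≫ Red.chi S (D.P.root a) = 1 := by
  obtain ⟨b⟩ := exists_sides D.P
  refine ⟨fun hg => ?_, ?_⟩
  · obtain ⟨t, ht⟩ := exists_factor_of_commute D g fun X' y t => hg X' y _
    refine ⟨t, ht, fun k => GmPts.gmFn_injective ?_⟩
    show Red.gmFn _ = Red.gmFn _
    rw [GmPts.gmFn_one]
    have h1 := conj_torus D k t 1
    rw [ht, show g * rt (D.u k) (1 : Γ(X.left, ⊤)) = rt (D.u k) 1 * g by simpa using hg X (𝟙 X) _,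
      mul_inv_cancel_right, _root_.mul_one] at h1
    haveI := mono_u D k
    have h2 := congrArg Red.gaFn ((cancel_mono (D.u k)).1 h1)
    rw [gaFn_ptOf, gaFn_ptOf] at h2
    exact h2.symm
  · rintro ⟨t, rfl, ht⟩ X' x h
    rw [← Category.assoc]
    exact central_of_roots D b (x ≫ t) (fun k => by rw [Category.assoc, ht, MonObj.comp_one]) h

end SplitCell

end
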