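import Groth.Agent.SplitCellLib.Germ

/-!
# Extension from a germ of a map which is multiplicative on translated germs

It is enough to know that for each point of the germ finitely many translates of the germ cut out points
on which left multiplication by it is compatible with the map.
-/

set_option autoImplicit false
set_option linter.style.haveILetI false
set_option backward.isDefEq.respectTransparency false
set_option maxHeartbeats 1000000

universe u

open CategoryTheory CategoryTheory.Limits MonoidalCategory CartesianMonoidalCategory AlgebraicGeometry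
open Groth.Agent.BigCell (Conn fieldPt exists_geomPt epi_of_flat isMonHom_of_mul')
open scoped MonObj

noncomputable section

namespace SplitCell

variable {S : Scheme.{u}} {G H Ω : Over S} [GrpObj G] [GrpObj H] {c : Ω ⟶ G} {f : Ω ⟶ H}

variable (c f) in
/-- Left multiplication by the pair is compatible with the map on finitely many translates. -/
def GoodPt {X : Over S} (g : X ⟶ G) (v : X ⟶ H) : Prop :=
  ∃ L : List (X ⟶ G), ∀ (X' : Over S) (π : X' ⟶ X) (h : X' ⟶ G) (w : X' ⟶ H), GRel c f h w →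
    (∀ a ∈ L, InGerm c ((π ≫ a) * h)) → GRel c f ((π ≫ g) * h) ((π ≫ v) * w)

theorem GoodPt.mul {X : Over S} {g g' : X ⟶ G} {v v' : X ⟶ H} (hg : GoodPt c f g v) (hg' : GoodPt c f g' v') :
    GoodPt c f (g * g') (v * v') := by
  obtain ⟨L, hL⟩ := hg
  obtain ⟨L', hL'⟩ := hg'
  refine ⟨L' ++ L.map (· * g'), fun X' π h w hh hcond => ?_⟩
  have h1 := hL' X' π h w hh fun a ha => hcond a (List.mem_append_left _ ha)
  have h2 := hL X' π _ _ h1 fun a ha => by
    have := hcond (a * g') (List.mem_append_right _ (List.mem_map_of_mem ha))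
    rwa [MonObj.comp_mul, _root_.mul_assoc] at this
  rwa [MonObj.comp_mul, MonObj.comp_mul, _root_.mul_assoc, _root_.mul_assoc]

theorem goodPt_one {X : Over S} : GoodPt c f (1 : X ⟶ G) (1 : X ⟶ H) :=
  ⟨[], fun X' π h w hh _ => by rwa [MonObj.comp_one, MonObj.comp_one, _root_.one_mul, _root_.one_mul]⟩

/-- Translate a list of points into the germ. -/
theorem exists_translate_list (hc : IsGerm c) {X : Over S} (L : List (X ⟶ G)) :
    ∃ (X' : Over S) (π : X' ⟶ X) (_ : Flat π.left) (_ : LocallyOfFinitePresentation π.left) (_ : Surjective π.left)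
      (e : X' ⟶ G), InGerm c e ∧ ∀ g ∈ L, InGerm c ((π ≫ g) * e) := by
  obtain ⟨X', π, h1, h2, h3, e, he, hj⟩ := exists_translate hc fun i : Fin L.length => L.get i
  refine ⟨X', π, h1, h2, h3, e, he, fun g hg => ?_⟩
  obtain ⟨i, rfl⟩ := List.mem_iff_get.1 hg
  exact hj i

variable (hgood : ∀ (X : Over S) (g : X ⟶ G) (v : X ⟶ H), GRel c f g v → GoodPt c f g v)
include hgood

theorem grel_one' (hc : IsGerm c) {X : Over S} : GRel c f (1 : X ⟶ G) 1 := by
  obtain ⟨v, hv⟩ := exists_grel (f := f) (inGerm_one hc (X := X))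
  obtain ⟨L, hL⟩ := hgood _ _ _ hv
  obtain ⟨X', π, _, _, _, e, hη, hj⟩ := exists_translate_list hc L
  haveI := epi_of_flat π
  obtain ⟨w, hw⟩ := exists_grel (f := f) hη
  have h1 := hL X' π e w hw hj
  rw [MonObj.comp_one, _root_.one_mul] at h1
  have h2 := grel_unique hc hw h1
  have h3 : v = 1 := by
    rw [← cancel_epi π, MonObj.comp_one]
    exact (right_eq_mul.1 h2)
  rwa [← h3]

theorem grel_indep' (hc : IsGerm c) {X : Over S} {g e₁ e₂ : X ⟶ G} {a₁ b₁ a₂ b₂ : X ⟶ H}
    (h₁ : GRel c f e₁ a₁) (k₁ : GRel c f (g * e₁) b₁) (h₂ : GRel c f e₂ a₂) (k₂ : GRel c f (g * e₂) b₂) :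
    b₁ * a₁⁻¹ = b₂ * a₂⁻¹ := by
  obtain ⟨A₁, hA₁⟩ := hgood _ _ _ h₁
  obtain ⟨B₁, hB₁⟩ := hgood _ _ _ k₁
  obtain ⟨A₂, hA₂⟩ := hgood _ _ _ h₂
  obtain ⟨B₂, hB₂⟩ := hgood _ _ _ k₂
  obtain ⟨X', π, _, _, _, η', hη, hj⟩ := exists_translate_list hc
    ([e₁⁻¹, e₂⁻¹, g] ++ (A₁ ++ B₁).map (· * e₁⁻¹) ++ (A₂ ++ B₂).map (· * e₂⁻¹))
  have key : ∀ {e : X ⟶ G} {a b : X ⟶ H} {A B : List (X ⟶ G)},
      (∀ (X' : Over S) (π : X' ⟶ X) (h : X' ⟶ G) (w : X' ⟶ H), GRel c f h w →
        (∀ x ∈ A, InGerm c ((π ≫ x) * h)) → GRel c f ((π ≫ e) * h) ((π ≫ a) * w)) →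
      (∀ (X' : Over S) (π : X' ⟶ X) (h : X' ⟶ G) (w : X' ⟶ H), GRel c f h w →
        (∀ x ∈ B, InGerm c ((π ≫ x) * h)) → GRel c f ((π ≫ (g * e)) * h) ((π ≫ b) * w)) →
      InGerm c ((π ≫ e⁻¹) * η') → (∀ x ∈ (A ++ B).map (· * e⁻¹), InGerm c ((π ≫ x) * η')) →
      ∀ {n m : X' ⟶ H}, GRel c f η' n → GRel c f ((π ≫ g) * η') m → π ≫ (b * a⁻¹) = m * n⁻¹ := by
    intro e a b A B ha hb he hxs n m hn hm
    obtain ⟨d, hd⟩ := exists_grel (f := f) he
    have hx : ∀ x ∈ A ++ B, InGerm c ((π ≫ x) * ((π ≫ e⁻¹) * η')) := fun x hx => by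
      have := hxs _ (List.mem_map_of_mem hx)
      rwa [MonObj.comp_mul, _root_.mul_assoc] at this
    have r1 := ha X' π _ d hd fun x hx' => hx x (List.mem_append_left _ hx')
    have r2 := hb X' π _ d hd fun x hx' => hx x (List.mem_append_right _ hx')
    rw [GrpObj.comp_inv, mul_inv_cancel_left] at r1
    rw [MonObj.comp_mul, GrpObj.comp_inv, _root_.mul_assoc, mul_inv_cancel_left] at r2
    rw [grel_unique hc hn r1, grel_unique hc hm r2, MonObj.comp_mul, GrpObj.comp_inv]
    group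
  haveI := epi_of_flat π
  obtain ⟨n, hn⟩ := exists_grel (f := f) hη
  obtain ⟨m, hm⟩ := exists_grel (f := f) (hj g (by simp))
  rw [← cancel_epi π,
    key hA₁ hB₁ (hj _ (by simp)) (fun x hx => hj x (List.mem_append_left _ (List.mem_append_right _ hx))) hn hm,
    key hA₂ hB₂ (hj _ (by simp)) (fun x hx => hj x (List.mem_append_right _ hx)) hn hm]

/-- **A map of a germ compatible with translates extends uniquely to a homomorphism.** -/
theorem existsUnique_extend' (hc : IsGerm c) : ∃! g : G ⟶ H, IsMonHom g ∧ c ≫ g = f := by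
  obtain ⟨X₀, π₀, _, _, _, e₀, he₀, hge₀⟩ := exists_translate hc fun _ : PUnit.{1} => 𝟙 G
  have hge₀' : InGerm c (π₀ * e₀) := by simpa only [Category.comp_id] using hge₀ ⟨⟩
  obtain ⟨a₀, ha₀⟩ := exists_grel (f := f) he₀
  obtain ⟨b₀, hb₀⟩ := exists_grel (f := f) hge₀'
  let φ : X₀ ⟶ H := b₀ * a₀⁻¹
  have heq : ∀ {Z : Over S} (a b : Z ⟶ X₀), a ≫ π₀ = b ≫ π₀ → a ≫ φ = b ≫ φ := by
    intro Z a b hab
    have h1 := hb₀.comp a
    have h2 := hb₀.comp b
    rw [MonObj.comp_mul] at h1 h2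
    rw [← hab] at h2
    simp only [φ, MonObj.comp_mul, GrpObj.comp_inv]
    exact grel_indep' hgood hc (ha₀.comp a) h1 (ha₀.comp b) h2
  let fl : G.left ⟶ H.left := EffectiveEpi.desc π₀.left φ.left fun {W} a b hab => by
    let Z : Over S := Over.mk (a ≫ X₀.hom)
    let a' : Z ⟶ X₀ := Over.homMk a rfl
    let b' : Z ⟶ X₀ := Over.homMk b (by
      show b ≫ X₀.hom = a ≫ X₀.hom
      rw [← Over.w π₀, ← Category.assoc, ← hab, Category.assoc])
    exact congrArg CommaMorphism.left (heq a' b' (Over.OverMorphism.ext hab))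
  have hfl : π₀.left ≫ fl = φ.left := EffectiveEpi.fac _ _ _
  let F : G ⟶ H := Over.homMk fl (by
    haveI := Flat.epi_of_flat_of_surjective π₀.left
    rw [← cancel_epi π₀.left, ← Category.assoc, hfl, Over.w φ, Over.w π₀])
  have hF : π₀ ≫ F = φ := Over.OverMorphism.ext hfl
  have spec : ∀ {X : Over S} (g e : X ⟶ G) (a b : X ⟶ H), GRel c f e a →
      GRel c f (g * e) b → g ≫ F = b * a⁻¹ := by
    intro X g e a b ha hb
    let X' : Over S := Over.mk (pullback.fst g.left π₀.left ≫ X.hom)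
    let p : X' ⟶ X := Over.homMk (pullback.fst g.left π₀.left) rfl
    let q : X' ⟶ X₀ := Over.homMk (pullback.snd g.left π₀.left) (by
      show _ ≫ X₀.hom = _ ≫ X.hom
      rw [← Over.w π₀, ← Category.assoc, ← pullback.condition, Category.assoc, Over.w g])
    have hpq : p ≫ g = q ≫ π₀ := Over.OverMorphism.ext pullback.condition
    haveI : Flat p.left := inferInstanceAs (Flat (pullback.fst g.left π₀.left))
    haveI : Surjective p.left := inferInstanceAs (Surjective (pullback.fst g.left π₀.left))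
    haveI := epi_of_flat p
    rw [← cancel_epi p, ← Category.assoc, hpq, Category.assoc, hF]
    have h1 := hb₀.comp q
    rw [MonObj.comp_mul, ← hpq] at h1
    have h2 := hb.comp p
    rw [MonObj.comp_mul] at h2
    simp only [φ, MonObj.comp_mul, GrpObj.comp_inv]
    exact grel_indep' hgood hc (ha₀.comp q) h1 (ha.comp p) h2
  have hcell : c ≫ F = f := by
    have hv : GRel c f c f := ⟨𝟙 _, Category.id_comp _, Category.id_comp _⟩
    have h1 : GRel c f (c * 1) f := by rwa [_root_.mul_one]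
    rw [spec c 1 1 f (grel_one' hgood hc) h1, inv_one, _root_.mul_one]
  have hmon : IsMonHom F := isMonHom_of_mul' F fun X g g' => by
    obtain ⟨X', π, _, _, _, η', hη, hj⟩ := exists_translate hc ![g', g * g']
    haveI := epi_of_flat π
    obtain ⟨n, hn⟩ := exists_grel (f := f) hη
    obtain ⟨m, hm⟩ := exists_grel (f := f) (hj 0)
    obtain ⟨l, hl⟩ := exists_grel (f := f) (hj 1)
    change GRel c f ((π ≫ g') * η') m at hm
    change GRel c f ((π ≫ (g * g')) * η') l at hl
    have hl' := hl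
    rw [MonObj.comp_mul, _root_.mul_assoc] at hl'
    rw [← cancel_epi π, MonObj.comp_mul, ← Category.assoc, spec _ _ _ _ hn hl, ← Category.assoc π g F,
      spec (π ≫ g) _ _ _ hm hl', ← Category.assoc π g' F, spec (π ≫ g') _ _ _ hn hm]
    group
  refine ⟨F, ⟨hmon, hcell⟩, ?_⟩
  rintro g ⟨hg, hg'⟩
  haveI := hg
  haveI := hmon
  exact hom_ext_germ hc (hg'.trans hcell.symm)

end SplitCell

end
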