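import Groth.Agent.SplitCellLib.Roots
import Groth.Agent.RootSys.Simple
import Groth.Prelude

/-!
# Closed sets of roots without opposite pairs are contained in systems of positive roots
-/

set_option autoImplicit false
set_option linter.style.haveILetI false
set_option maxHeartbeats 800000

open RootSysLib RootBasicLib

namespace SplitCell

variable {idx M N : Type} [AddCommGroup M] [Module.Free ℤ M] [Module.Finite ℤ M] [AddCommGroup N] [Finite idx]
  {P : RootPairing idx ℤ M N}

theorem exists_isPosSys_superset {Ψ : Set idx} (hcl : RootD.IsClosedSub P Ψ)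
    (hP1 : ∀ i ∈ Ψ, P.reflectionPerm i i ∉ Ψ) : ∃ S : Set idx, Ψ ⊆ S ∧ RootD.IsPosSys P S := by
  classical
  haveI := Fintype.ofFinite idx
  let C : Set (Set idx) := {S | Ψ ⊆ S ∧ RootD.IsClosedSub P S ∧ ∀ i ∈ S, P.reflectionPerm i i ∉ S}
  obtain ⟨S, ⟨hΨS, hScl, hS1⟩, hmax⟩ := (Set.toFinite C).exists_maximal ⟨Ψ, subset_rfl, hcl, hP1⟩
  refine ⟨S, hΨS, isPosSys_of_closed hS1 (fun k => ?_) hScl⟩
  by_contra hk
  push_neg at hk
  let T : idx → Set idx := fun k => {i | P.root i ∈ RootD.natSpan P (insert k S)}
  have key : ∀ x : idx, x ∉ S → ∃ (n : ℕ) (y : M), 0 < n ∧ y ∈ RootD.natSpan P S ∧ n • P.root x + y = 0 := by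
    intro x hx
    by_contra hno
    push_neg at hno
    have hTS : S ⊆ T x := fun i hi => root_mem_natSpan (Set.mem_insert_of_mem _ hi)
    have hdec : ∀ z ∈ RootD.natSpan P (insert x S), ∃ (n : ℕ) (y : M), y ∈ RootD.natSpan P S ∧ z = n • P.root x + y := by
      intro z hz
      induction hz using AddSubmonoid.closure_induction with
      | mem z hz =>
        obtain ⟨i, hi, rfl⟩ := hz
        rcases Set.mem_insert_iff.1 hi with rfl | hi
        · exact ⟨1, 0, zero_mem _, by simp⟩
        · exact ⟨0, _, root_mem_natSpan hi, by simp⟩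
      | zero => exact ⟨0, 0, zero_mem _, by simp⟩
      | add z w _ _ hz hw =>
        obtain ⟨n, y, hy, rfl⟩ := hz
        obtain ⟨n', y', hy', rfl⟩ := hw
        exact ⟨n + n', y + y', add_mem hy hy', by rw [add_smul]; abel⟩
    have hT : T x ∈ C := by
      refine ⟨hΨS.trans hTS, fun i j l hi hj he => ?_, fun i hi hi' => ?_⟩
      · show P.root l ∈ RootD.natSpan P (insert x S)
        rw [he]
        exact add_mem hi hj
      · obtain ⟨n, y, hy, h1⟩ := hdec _ hi
        obtain ⟨n', y', hy', h2⟩ := hdec _ hi'
        rw [root_neg] at h2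
        have h0 : (n + n') • P.root x + (y + y') = 0 := by
          calc (n + n') • P.root x + (y + y') = (n • P.root x + y) + (n' • P.root x + y') := by rw [add_smul]; abel
            _ = 0 := by rw [← h1, ← h2, add_neg_cancel]
        rcases Nat.eq_zero_or_pos (n + n') with hn | hn
        · obtain ⟨L, hL, hsum⟩ := exists_list_of_mem_natSpan P hy
          have hn0 : n = 0 := by omega
          have hn0' : n' = 0 := by omega
          rw [hn0, zero_smul, zero_add] at h1
          rw [hn0', zero_smul, zero_add] at h2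
          have hiS : i ∈ S := (isClosedSub_iff_natSpan P S).1 hScl i (h1 ▸ hy)
          have hiS' : P.reflectionPerm i i ∈ S := (isClosedSub_iff_natSpan P S).1 hScl _ (by rw [root_neg, h2]; exact hy')
          exact hS1 i hiS hiS'
        · exact hno (n + n') (y + y') hn (add_mem hy hy') h0
    exact hx ((hmax hT hTS) (root_mem_natSpan (Set.mem_insert _ _)))
  obtain ⟨n, y, hn, hy, h⟩ := key k hk.1
  obtain ⟨n', y', hn', hy', h'⟩ := key _ hk.2
  rw [root_neg] at h'
  have h0 : n' • y + n • y' = 0 := by
    calc n' • y + n • y' = n' • (n • P.root k + y) + n • (n' • (-P.root k) + y') := by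
          rw [smul_add, smul_add, smul_neg, smul_neg, smul_comm n n' (P.root k)]; abel
      _ = 0 := by rw [h, h', smul_zero, smul_zero, add_zero]
  obtain ⟨L, hL, hsum⟩ := exists_list_of_mem_natSpan P (add_mem (nsmul_mem hy n') (nsmul_mem hy' n))
  by_cases hLe : L = []
  · subst hLe
    obtain ⟨Ly, hLy, hsy⟩ := exists_list_of_mem_natSpan P hy
    obtain ⟨Ly', hLy', hsy'⟩ := exists_list_of_mem_natSpan P hy'
    have hne : Ly ≠ [] := fun he => by
      subst he
      rw [List.map_nil, List.sum_nil] at hsy
      rw [← hsy, add_zero] at h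
      exact P.ne_zero k (RootSysLib.nsmul_right_cancel P hn (h.trans (smul_zero n).symm))
    refine sum_ne_zero hS1 hScl ((List.replicate n' Ly).flatten ++ (List.replicate n Ly').flatten) ?_ ?_ ?_
    · intro r hr
      simp only [List.mem_append, List.mem_flatten, List.mem_replicate] at hr
      rcases hr with ⟨l, ⟨-, rfl⟩, hr⟩ | ⟨l, ⟨-, rfl⟩, hr⟩
      · exact hLy r hr
      · exact hLy' r hr
    · simp [List.flatten_eq_nil_iff, hne, hn'.ne']
    · rw [List.map_append, List.sum_append, List.map_flatten, List.map_flatten, List.map_replicate, List.map_replicate,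
        List.sum_flatten, List.sum_flatten, List.map_replicate, List.map_replicate, List.sum_replicate,
        List.sum_replicate, hsy, hsy', h0]
  · exact sum_ne_zero hS1 hScl L hL hLe (hsum.trans h0)

/-- A closed set without opposite pairs lies on the positive side for some division of the roots. -/
theorem exists_sides_superset {Ψ : Set idx} (hcl : RootD.IsClosedSub P Ψ)
    (hP1 : ∀ i ∈ Ψ, P.reflectionPerm i i ∉ Ψ) : ∃ σ : Sides P, Ψ ⊆ σ.pos := by
  classical
  obtain ⟨S, hΨS, hS⟩ := exists_isPosSys_superset hcl hP1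
  obtain ⟨g, hg⟩ := exists_pos_functional (fun j : indec P S => P.root j) (isSimpleSys_indec hS).linInd
  have key : ∀ x ∈ RootD.natSpan P (indec P S), x = 0 ∨ 0 < g x := by
    intro x hx
    induction hx using AddSubmonoid.closure_induction with
    | mem x hx => obtain ⟨j, hj, rfl⟩ := hx; exact Or.inr (hg ⟨j, hj⟩)
    | zero => exact Or.inl rfl
    | add x y _ _ hx hy =>
      rcases hx with rfl | hx
      · simpa using hy
      rcases hy with rfl | hy
      · simpa using Or.inr hx
      exact Or.inr (by rw [map_add]; omega)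
  have hpos : ∀ i ∈ S, 0 < g (P.root i) := fun i hi => (key _ (mem_natSpan_indec hS hi)).resolve_left (P.ne_zero i)
  refine ⟨⟨S, {i | P.reflectionPerm i i ∈ S}, ⟨g, hpos, fun i hi => ?_⟩, fun i => hS.cover i⟩, hΨS⟩
  have h1 := hpos _ hi
  rw [root_neg, map_neg] at h1
  omega

end SplitCell
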