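import Groth.Agent.SplitCellLib.Order

/-!
# The normaliser of the torus meets the big cell in the torus
-/

set_option autoImplicit false
set_option linter.style.haveILetI false
set_option backward.isDefEq.respectTransparency false
set_option maxHeartbeats 1000000

universe u

open CategoryTheory CategoryTheory.Limits MonoidalCategory CartesianMonoidalCategory AlgebraicGeometry
open Groth.Agent.GaPts
open scoped MonObj LaurentPolynomial

noncomputable section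

namespace SplitCell

variable {S : Scheme.{u}} {G : Over S} [GrpObj G] (D : Red.SplitRed G) (b : Sides D.P)
  {R : Type u} [CommRing R] (a : Spec (CommRingCat.of R) ⟶ S) {A : Type u} [CommRing A] [Algebra R A]

/-- The affine point given by the functions. -/
def affIso (Y : Over S) [IsAffine Y.left] :
    aP (Y.left.isoSpec.inv ≫ Y.hom) Γ(Y.left, ⊤) ≅ Y :=
  Over.isoMk Y.left.isoSpec.symm (by
    show Y.left.isoSpec.inv ≫ Y.hom = Spec.map (CommRingCat.ofHom (algebraMap Γ(Y.left, ⊤) Γ(Y.left, ⊤))) ≫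
      Y.left.isoSpec.inv ≫ Y.hom
    rw [Algebra.algebraMap_self, CommRingCat.ofHom_id, Spec.map_id, Category.id_comp])

/-- A function fixed by a non-trivial power of the variable vanishes. -/
theorem eq_zero_of_weight {w : ℤ} (hw : w ≠ 0) (c : A)
    (h : ((unitT A ^ w : (A[T;T⁻¹])ˣ) : A[T;T⁻¹]) * toT R A (cC R A c) = toT R A (cC R A c)) : c = 0 := by
  have hT : ∀ k : ℤ, ((unitT A ^ k : (A[T;T⁻¹])ˣ) : A[T;T⁻¹]) = LaurentPolynomial.T k := by
    intro k
    induction k using Int.induction_on with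
    | zero => simp
    | succ i hi => rw [zpow_add_one, Units.val_mul, hi, unitT_val, ← LaurentPolynomial.T_add]
    | pred i hi =>
      have e : (unitT A)⁻¹.val = LaurentPolynomial.T (-1) := by
        refine Units.inv_eq_of_mul_eq_one_right ?_
        rw [unitT_val, ← LaurentPolynomial.T_add]; simp
      rw [zpow_sub_one, Units.val_mul, hi, e, ← LaurentPolynomial.T_add, sub_eq_add_neg]
  have hc : toT R A (cC R A c) = AddMonoidAlgebra.single 0 c := by
    show Polynomial.toLaurent (Polynomial.C c) = _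
    rw [Polynomial.toLaurent_C]; rfl
  rw [hT, hc, LaurentPolynomial.T, AddMonoidAlgebra.single_mul_single, _root_.one_mul, add_zero] at h
  have h' := congrArg (fun F : A[T;T⁻¹] => F.coeff 0) h
  simpa only [AddMonoidAlgebra.coeff_single, Finsupp.single_apply, hw, if_false, if_true] using h'.symm

/-- Evaluation of a character at the value of a cocharacter. -/
theorem gmFn_unitT (f : D.M →ₗ[ℤ] ℤ) (z : Aˣ) (k : D.M) :
    Red.gmFn (cochT D f (GmPts.ptOfUnit (Units.map (cst a A).toMonoidHom z)) ≫ D.split.hom.hom.hom ≫ Red.chi S k) =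
      cst a A ((z ^ f k : Aˣ) : A) := by
  rw [gmFn_cochT, GmPts.unitOfPt_ptOfUnit, ← map_zpow]
  rfl

/-- A point of the cell normalising the torus lies in the torus. -/
theorem eq_zero_of_normalize {n m : ℕ} {eneg : Fin n → D.idx} {epos : Fin m → D.idx}
    (hneg : RedSub.Enumerates b.neg eneg) (hpos : RedSub.Enumerates b.pos epos)
    {y : Fin n → A} {τ : aP a A ⟶ D.T} {x : Fin m → A}
    (h : ∀ (t : aP a A[T;T⁻¹] ⟶ D.T), ∃ t' : aP a A[T;T⁻¹] ⟶ D.T,
      (aM a ((toT R A).comp (cC R A)) ≫ (pe a (fun k => D.u (eneg k)) y * ((τ ≫ D.i) * pe a (fun k => D.u (epos k)) x))) *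
        (t ≫ D.i) *
      (aM a ((toT R A).comp (cC R A)) ≫ (pe a (fun k => D.u (eneg k)) y * ((τ ≫ D.i) * pe a (fun k => D.u (epos k)) x)))⁻¹ =
        t' ≫ D.i) : y = 0 ∧ x = 0 := by
  haveI := isMonHom_i D
  obtain ⟨f, hf₁, hf₂⟩ := b.regular
  let z : (A[T;T⁻¹])ˣ := unitT A
  let ρ : A →ₐ[R] A[T;T⁻¹] := (toT R A).comp (cC R A)
  let t : aP a A[T;T⁻¹] ⟶ D.T := cochT D f (GmPts.ptOfUnit (Units.map (cst a A[T;T⁻¹]).toMonoidHom z))
  obtain ⟨t', ht⟩ := h t
  rw [MonObj.comp_mul, MonObj.comp_mul, aM_pe, aM_pe, ← Category.assoc, mul_inv_eq_iff_eq_mul] at ht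
  have hgel : t ≫ D.i = gel a (coch D f) z := cochT_comp D f _
  let τ' := aM a ρ ≫ τ
  let Q : (Fin n → A[T;T⁻¹]) → (aP a A[T;T⁻¹] ⟶ G) := pe a fun k => D.u (eneg k)
  let P : (Fin m → A[T;T⁻¹]) → (aP a A[T;T⁻¹] ⟶ G) := pe a fun k => D.u (epos k)
  let c : Fin n → A[T;T⁻¹] := fun k => ((GmPts.unitOfPt (t' ≫ D.split.hom.hom.hom ≫ Red.chi S (D.P.root (eneg k))) :
    (Γ((aP a A[T;T⁻¹]).left, ⊤))ˣ) : Γ((aP a A[T;T⁻¹]).left, ⊤)) |> (Scheme.ΓSpecIso (CommRingCat.of A[T;T⁻¹])).hom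
  have hcst : ∀ s, cst a A[T;T⁻¹] ((Scheme.ΓSpecIso (CommRingCat.of A[T;T⁻¹])).hom s) = s := fun s =>
    (Scheme.ΓSpecIso (CommRingCat.of A[T;T⁻¹])).hom_inv_id_apply s
  have hQ : (t' ≫ D.i) * Q (fun k => ρ (y k)) * (t' ≫ D.i)⁻¹ = Q fun k => c k * ρ (y k) := by
    have key : ∀ {l : ℕ} (e : Fin l → D.idx) (v : Fin l → A[T;T⁻¹]),
        (t' ≫ D.i) * pe a (fun k => D.u (e k)) v * (t' ≫ D.i)⁻¹ = pe a (fun k => D.u (e k)) (fun k =>
          (Scheme.ΓSpecIso (CommRingCat.of A[T;T⁻¹])).hom (Red.gmFn (t' ≫ D.split.hom.hom.hom ≫ Red.chi S (D.P.root (e k)))) * v k) := by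
      intro l e v
      induction l with
      | zero => simp [pe_zero_len]
      | succ l ih =>
        rw [pe_succ, pe_succ a (fun k => D.u (e k))]
        rw [← ih (fun k => e k.succ) (fun k => v k.succ)]
        rw [show el a (D.u (e 0)) ((Scheme.ΓSpecIso (CommRingCat.of A[T;T⁻¹])).hom
            (Red.gmFn (t' ≫ D.split.hom.hom.hom ≫ Red.chi S (D.P.root (e 0)))) * v 0) =
            (t' ≫ D.i) * el a (D.u (e 0)) (v 0) * (t' ≫ D.i)⁻¹ by
          rw [el, el, conj_torus, map_mul, hcst]]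
        group
    exact key eneg _
  have hP : gel a (coch D f) z * P (fun k => (((z ^ f (D.P.root (epos k)))⁻¹ : (A[T;T⁻¹])ˣ) : A[T;T⁻¹]) * ρ (x k)) *
      (gel a (coch D f) z)⁻¹ = P fun k => ρ (x k) := by
    show gel a (coch D f) z * pe a (fun k => D.u (epos k)) _ * _ = _
    rw [conj_pe a (hasWeights_coch D f epos)]
    congr 1
    funext k
    rw [← _root_.mul_assoc, Units.mul_inv, _root_.one_mul]
  have e : Q (fun k => ρ (y k)) * (((τ' * t) ≫ D.i) *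
        P (fun k => (((z ^ f (D.P.root (epos k)))⁻¹ : (A[T;T⁻¹])ˣ) : A[T;T⁻¹]) * ρ (x k))) =
      Q (fun k => c k * ρ (y k)) * (((t' * τ') ≫ D.i) * P fun k => ρ (x k)) := by
    rw [← hQ, MonObj.mul_comp, MonObj.mul_comp]
    have h1 : P (fun k => ρ (x k)) * (t ≫ D.i) =
        (t ≫ D.i) * P (fun k => (((z ^ f (D.P.root (epos k)))⁻¹ : (A[T;T⁻¹])ˣ) : A[T;T⁻¹]) * ρ (x k)) := by
      rw [hgel, ← hP, inv_mul_cancel_right]
    calc _ = Q (fun k => ρ (y k)) * ((τ' ≫ D.i) * P (fun k => ρ (x k))) * (t ≫ D.i) := by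
          simp only [_root_.mul_assoc, h1]
      _ = (t' ≫ D.i) * (Q (fun k => ρ (y k)) * ((τ' ≫ D.i) * P (fun k => ρ (x k)))) := ht
      _ = _ := by group
  obtain ⟨ey, et, ex⟩ := cell_inj D b a hneg hpos e
  have ett : t' = t := mul_right_cancel (et.symm.trans (torus_comm D τ' t))
  refine ⟨funext fun k => eq_zero_of_weight (R := R) (hf₂ (eneg k) (hneg.2 ▸ ⟨k, rfl⟩)).ne (y k) ?_,
    funext fun k => eq_zero_of_weight (R := R) (hf₁ (epos k) (hpos.2 ▸ ⟨k, rfl⟩)).ne' (x k) ?_⟩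
  · refine Eq.trans ?_ (congrFun ey k).symm
    show _ = c k * _
    congr 1
    simp only [c, ett, GmPts.val_unitOfPt, t]
    rw [gmFn_unitT]
    exact ((Scheme.ΓSpecIso (CommRingCat.of A[T;T⁻¹])).inv_hom_id_apply _).symm
  · have h2 := congrFun ex k
    calc _ = ((z ^ f (D.P.root (epos k)) : (A[T;T⁻¹])ˣ) : A[T;T⁻¹]) *
          ((((z ^ f (D.P.root (epos k)))⁻¹ : (A[T;T⁻¹])ˣ) : A[T;T⁻¹]) * ρ (x k)) := by rw [h2]; rfl
      _ = _ := by rw [← _root_.mul_assoc, Units.mul_inv, _root_.one_mul]; rfl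

theorem factors_torus {n m : ℕ} {eneg : Fin n → D.idx} {epos : Fin m → D.idx}
    (hneg : RedSub.Enumerates b.neg eneg) (hpos : RedSub.Enumerates b.pos epos)
    (X : Over S) (x : X ⟶ RedSub.pow (Red.Ga S) n ⊗ (D.T ⊗ RedSub.pow (Red.Ga S) m))
    (hnorm : ∀ (X' : Over S) (y : X' ⟶ X) (t : X' ⟶ D.T), ∃ t' : X' ⟶ D.T,
      (y ≫ x ≫ RedSub.cellMap D eneg epos) * (t ≫ D.i) * (y ≫ x ≫ RedSub.cellMap D eneg epos)⁻¹ = t' ≫ D.i) :
    x ≫ RedSub.cellMap D eneg epos = (x ≫ snd _ _ ≫ fst _ _) ≫ D.i := by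
  refine Groth.Agent.BigCell.eq_of_affine fun Y π hY => ?_
  haveI := hY
  refine (cancel_epi (affIso Y).hom).1 ?_
  let a₀ : Spec (CommRingCat.of Γ(Y.left, ⊤)) ⟶ S := Y.left.isoSpec.inv ≫ Y.hom
  let j : aP a₀ Γ(Y.left, ⊤) ⟶ X := (affIso Y).hom ≫ π
  obtain ⟨y, τ, v, hv⟩ := exists_cpt D a₀ (j ≫ x)
  have hg : j ≫ x ≫ RedSub.cellMap D eneg epos =
      pe a₀ (fun k => D.u (eneg k)) y * ((τ ≫ D.i) * pe a₀ (fun k => D.u (epos k)) v) := by
    rw [← Category.assoc, ← hv, cpt_cellMap]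
  obtain ⟨rfl, rfl⟩ : y = 0 ∧ v = 0 := by
    refine eq_zero_of_normalize D b a₀ hneg hpos (τ := τ) fun t => ?_
    obtain ⟨t', ht'⟩ := hnorm _ (aM a₀ ((toT _ _).comp (cC _ _)) ≫ j) t
    refine ⟨t', ?_⟩
    rw [← hg]
    simpa only [Category.assoc] using ht'
  haveI : ∀ k, IsMonHom ((fun k => D.u (eneg k)) k) := fun k => isMonHom_u D _
  haveI : ∀ k, IsMonHom ((fun k => D.u (epos k)) k) := fun k => isMonHom_u D _
  show j ≫ x ≫ RedSub.cellMap D eneg epos = j ≫ (x ≫ snd _ _ ≫ fst _ _) ≫ D.i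
  rw [hg, ← Category.assoc, ← Category.assoc j, ← hv, cpt, lift_snd_assoc, lift_fst]
  rw [show (0 : Fin n → Γ(Y.left, ⊤)) = fun _ => 0 from rfl, show (0 : Fin m → Γ(Y.left, ⊤)) = fun _ => 0 from rfl,
    pe_zero, pe_zero, _root_.one_mul, _root_.mul_one]

end SplitCell

end
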