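import Groth.Agent.SplitCellLib.Chevalley
import Groth.Agent.SplitCellLib.Center

/-!
# Global coefficients of the commutation formula
-/

set_option autoImplicit false
set_option linter.style.haveILetI false
set_option backward.isDefEq.respectTransparency false
set_option maxHeartbeats 1000000

universe u

open CategoryTheory CategoryTheory.Limits MonoidalCategory CartesianMonoidalCategory AlgebraicGeometry
open Groth.Agent.GaPts
open Groth.Agent.RankOne (eq_ptOf comp_ptOf)
open scoped MonObj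

noncomputable section

namespace SplitCell

open Groth.Agent.BigCell (rt rt_eq comp_rt)

variable {S : Scheme.{u}} {G : Over S} [GrpObj G]

theorem comp_list_prod {X Y : Over S} (g : Y ⟶ X) {n : ℕ} (p : Fin n → (X ⟶ G)) :
    g ≫ (List.ofFn p).prod = (List.ofFn fun k => g ≫ p k).prod := by
  induction n with
  | zero => simp [MonObj.comp_one]
  | succ n ih => rw [List.ofFn_succ, List.prod_cons, MonObj.comp_mul, ih, List.ofFn_succ, List.prod_cons]

variable (D : Red.SplitRed G) (b : Sides D.P)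

/-- Every point of an affine scheme is given by a function. -/
theorem exists_coord {R : Type u} [CommRing R] (a : Spec (CommRingCat.of R) ⟶ S) {A : Type u} [CommRing A] [Algebra R A]
    (x : aP a A ⟶ Red.Ga S) : ∃ r : A, ptOf (cst a A r) = x ∧ Red.gaFn x = cst a A r := by
  obtain ⟨r, hr⟩ := (cst_bijective a).2 (Red.gaFn x)
  exact ⟨r, (eq_ptOf x hr.symm).symm, hr.symm⟩

/-- Independence of root elements of positive roots over any base. -/
theorem prod_injective {X : Over S} {n : ℕ} {e : Fin n → D.idx} (he : Function.Injective e) (hp : ∀ k, e k ∈ b.pos)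
    {z z' : Fin n → (X ⟶ Red.Ga S)}
    (h : (List.ofFn fun k => z k ≫ D.u (e k)).prod = (List.ofFn fun k => z' k ≫ D.u (e k)).prod) : z = z' := by
  haveI := isAffineHom_hom D
  haveI : ∀ k, IsMonHom ((fun k => D.u (e k)) k) := fun k => isMonHom_u D _
  haveI : ∀ k, Mono ((fun k => D.u (e k)) k) := fun k => mono_u D _
  obtain ⟨f, hf₁, -⟩ := b.regular
  obtain ⟨g, hg⟩ := exists_injective_functional (fun k => D.P.root k) D.P.root.injective
  refine funext fun k => Groth.Agent.BigCell.eq_of_affine fun Y π hY => ?_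
  haveI := hY
  let j := affIso Y
  refine (cancel_epi j.hom).1 ?_
  let a := Y.left.isoSpec.inv ≫ Y.hom
  choose r hr _ using fun l => exists_coord a (A := Γ(Y.left, ⊤)) (j.hom ≫ π ≫ z l)
  choose r' hr' _ using fun l => exists_coord a (A := Γ(Y.left, ⊤)) (j.hom ≫ π ≫ z' l)
  have h' := congrArg (fun F => (j.hom ≫ π) ≫ F) h
  simp only [comp_list_prod, Category.assoc] at h'
  have hrr : r = r' := by
    refine pe_injective a (hasWeights_coch D f e) (fun l => hf₁ _ (hp l)) (hasWeights_coch D g e) (hg.comp he) ?_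
    refine Eq.trans ?_ (h'.trans ?_)
    · rw [pe]; congr 2; funext l
      show ptOf (cst a Γ(Y.left, ⊤) (r l)) ≫ _ = _
      rw [hr l]; simp only [Category.assoc]
    · rw [pe]; congr 2; funext l
      show _ = ptOf (cst a Γ(Y.left, ⊤) (r' l)) ≫ _
      rw [hr' l]; simp only [Category.assoc]
  rw [← hr k, ← hr' k, hrr]

theorem gaFn_comp' {X X' : Over S} (g : X' ⟶ X) (z : X ⟶ Red.Ga S) :
    Red.gaFn (g ≫ z) = g.left.appTop (Red.gaFn z) := by
  conv_lhs => rw [eq_ptOf z rfl]
  rw [comp_ptOf, gaFn_ptOf]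

/-- The commutator of root elements. -/
def gcm (α β : D.idx) {X : Over S} (x y : X ⟶ Red.Ga S) : X ⟶ G :=
  (y ≫ D.u β)⁻¹ * ((x ≫ D.u α) * ((y ≫ D.u β) * (x ≫ D.u α)⁻¹))

theorem comp_gcm (α β : D.idx) {X X' : Over S} (g : X' ⟶ X) (x y : X ⟶ Red.Ga S) :
    g ≫ gcm D α β x y = gcm D α β (g ≫ x) (g ≫ y) := by
  simp only [gcm, MonObj.comp_mul, GrpObj.comp_inv, Category.assoc]

theorem gcm_ptOf {R : Type u} [CommRing R] (a : Spec (CommRingCat.of R) ⟶ S) {A : Type u} [CommRing A] [Algebra R A]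
    (α β : D.idx) (r s : A) : gcm D α β (ptOf (cst a A r)) (ptOf (cst a A s)) = cm D a α β r s := by
  haveI := isMonHom_u D α
  haveI := isMonHom_u D β
  rw [cm, el_neg, el_neg]
  rfl

theorem comp_gcm_one {R : Type u} [CommRing R] (a : Spec (CommRingCat.of R) ⟶ S) (φ : aP a R ⟶ 𝟙_ (Over S))
    {α β : D.idx} {n l' nn : ℕ} (e : Fin n → D.idx) (e' : Fin l' → D.idx) (eneg : Fin nn → D.idx) (i j : Fin n → ℕ)
    (C' : Fin n → R)
    (hC' : ∀ (A : Type u) [CommRing A] [Algebra R A] (x y : A),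
        cm D a α β x y = pe a (fun k => D.u (e k)) (fun k => algebraMap R A (C' k) * x ^ i k * y ^ j k)) :
    φ ≫ gcm D α β (ptOf 1) (ptOf 1) = cpt D a (fun _ : Fin nn => (0 : R)) 1 (Fin.append C' fun _ => 0) ≫
      RedSub.cellMap D eneg (Fin.append e e') := by
  haveI : ∀ k, IsMonHom ((fun k => D.u (eneg k)) k) := fun k => isMonHom_u D _
  haveI : ∀ k, IsMonHom ((fun k => D.u (e' k)) k) := fun k => isMonHom_u D _
  haveI := isMonHom_i D
  rw [cpt_cellMap, pe_zero, _root_.one_mul, MonObj.one_comp, _root_.one_mul,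
    show (fun k => D.u (Fin.append e e' k)) = Fin.append (fun k => D.u (e k)) (fun k => D.u (e' k)) from
      funext fun k => Fin.addCases (fun s => by simp) (fun s => by simp) k,
    pe_append, pe_zero, _root_.mul_one]
  rw [comp_gcm, comp_ptOf, map_one, ← map_one (cst a R), gcm_ptOf, hC']
  congr 1
  funext k
  simp

/-- **The commutation formula.** -/
theorem existsUnique_coefficients {α β : D.idx} (hα : α ∈ b.pos) (hβ : β ∈ b.pos)
    {n : ℕ} (e : Fin n → D.idx) (i j : Fin n → ℕ) (he : Function.Injective e)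
    (hij : ∀ k, 1 ≤ i k ∧ 1 ≤ j k ∧ D.P.root (e k) = (i k : ℤ) • D.P.root α + (j k : ℤ) • D.P.root β)
    (hall : ∀ (c : D.idx) (p q : ℕ), 1 ≤ p → 1 ≤ q → D.P.root c = (p : ℤ) • D.P.root α + (q : ℤ) • D.P.root β →
      c ∈ Set.range e) :
    ∃! C : Fin n → Γ(S, ⊤), ∀ (X : Over S) (x y : X ⟶ Red.Ga S) (z : Fin n → (X ⟶ Red.Ga S)),
      (∀ k, Red.gaFn (z k) = X.hom.appTop (C k) * Red.gaFn x ^ (i k) * Red.gaFn y ^ (j k)) →
        gcm D α β x y = (List.ofFn (fun k => z k ≫ D.u (e k))).prod := by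
  classical
  haveI := isAffineHom_hom D
  haveI : ∀ k, IsMonHom ((fun k => D.u (e k)) k) := fun k => isMonHom_u D _
  obtain ⟨f, hf₁, hf₂⟩ := b.regular
  have hek : ∀ k, e k ∈ b.pos := fun k => (b.total (e k)).resolve_right fun h => by
    have h1 := hf₂ _ h
    obtain ⟨h2, h3, h4⟩ := hij k
    rw [h4, map_add, map_zsmul, map_zsmul, smul_eq_mul, smul_eq_mul] at h1
    nlinarith [hf₁ α hα, hf₁ β hβ]
  obtain ⟨l', e', hpos, -⟩ := exists_append_enum e he hek
  obtain ⟨nn, mm, eneg, epos₀, hneg, -⟩ := exists_enum D b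
  haveI : ∀ k, IsMonHom ((fun k => D.u (eneg k)) k) := fun k => isMonHom_u D _
  haveI : ∀ k, IsMonHom ((fun k => D.u (e' k)) k) := fun k => isMonHom_u D _
  haveI := isMonHom_i D
  have hg := isGerm_cell D b hneg hpos
  haveI := mono_germ hg
  let O : Over S := 𝟙_ (Over S)
  let one' : O ⟶ Red.Ga S := ptOf 1
  let q : O ⟶ G := gcm D α β one' one'
  obtain ⟨zq, hzq⟩ : InGerm (RedSub.cellMap D eneg (Fin.append e e')) q := by
    refine (inGerm_iff hg q).2 ?_
    rintro _ ⟨s, rfl⟩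
    obtain ⟨_, ⟨U, hU, rfl⟩, hsU, -⟩ := S.isBasis_affineOpens.exists_subset_of_mem_open (Set.mem_univ s) isOpen_univ
    haveI : IsAffine (Scheme.Opens.toScheme U) := hU
    let Y : Over S := Over.mk (Scheme.Opens.ι U)
    let π : Y ⟶ O := Over.homMk (Scheme.Opens.ι U) (Category.comp_id _)
    haveI : IsAffine Y.left := hU
    let j₀ := affIso Y
    obtain ⟨C', hC'⟩ := exists_coefficients D b (Y.left.isoSpec.inv ≫ Y.hom) e i j hα hβ he hij hall
    have h := comp_gcm_one D (Y.left.isoSpec.inv ≫ Y.hom) (j₀.hom ≫ π) e e' eneg i j C' hC'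
    obtain ⟨w, hw⟩ : ∃ w : Y ⟶ _, w ≫ RedSub.cellMap D eneg (Fin.append e e') = π ≫ q := by
      refine ⟨j₀.inv ≫ cpt D _ (fun _ : Fin nn => (0 : Γ(Y.left, ⊤))) 1 (Fin.append C' fun _ => 0), ?_⟩
      rw [Category.assoc, ← h, Category.assoc, Iso.inv_hom_id_assoc]
    refine ⟨w.left ⟨s, hsU⟩, ?_⟩
    exact ((Scheme.Hom.comp_apply _ _ _).symm.trans
      (congrArg (fun g : Y ⟶ G => g.left ⟨s, hsU⟩) hw)).trans (Scheme.Hom.comp_apply π.left q.left _)
  let C : Fin n → Γ(S, ⊤) := fun k => Red.gaFn (zq ≫ snd _ _ ≫ snd _ _ ≫ prj S (Fin.castAdd l' k))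
  have key : ∀ (X : Over S) (x y : X ⟶ Red.Ga S) (z : Fin n → (X ⟶ Red.Ga S)),
      (∀ k, Red.gaFn (z k) = X.hom.appTop (C k) * Red.gaFn x ^ (i k) * Red.gaFn y ^ (j k)) →
        gcm D α β x y = (List.ofFn (fun k => z k ≫ D.u (e k))).prod := by
    intro X x y z hz
    refine Groth.Agent.BigCell.eq_of_affine fun Y π hY => ?_
    haveI := hY
    let j₀ := affIso Y
    refine (cancel_epi j₀.hom).1 ?_
    let a := Y.left.isoSpec.inv ≫ Y.hom
    obtain ⟨C', hC'⟩ := exists_coefficients D b a e i j hα hβ he hij hall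
    obtain ⟨x', hx', hx''⟩ := exists_coord a (j₀.hom ≫ π ≫ x)
    obtain ⟨y', hy', hy''⟩ := exists_coord a (j₀.hom ≫ π ≫ y)
    let φ : aP a Γ(Y.left, ⊤) ⟶ O := toUnit _
    have hφ : φ ≫ zq = cpt D a (fun _ : Fin nn => (0 : Γ(Y.left, ⊤))) 1 (Fin.append C' fun _ => 0) := by
      refine (cancel_mono (RedSub.cellMap D eneg (Fin.append e e'))).1 ?_
      rw [Category.assoc, hzq]
      exact comp_gcm_one D a φ e e' eneg i j C' hC'
    have hC : ∀ k, cst a Γ(Y.left, ⊤) (C' k) = (aP a Γ(Y.left, ⊤)).hom.appTop (C k) := fun k => by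
      have h1 := congrArg (fun F => F ≫ snd _ _ ≫ snd _ _ ≫ prj S (Fin.castAdd l' k)) hφ
      simp only [cpt, lift_snd_assoc, pw_prj, Fin.append_left, Category.assoc] at h1
      have h2 := congrArg Red.gaFn h1
      rw [gaFn_comp', gaFn_ptOf] at h2
      exact ((congrArg (fun t => Scheme.Hom.appTop t _) (show φ.left = (aP a Γ(Y.left, ⊤)).hom from (Category.comp_id _).symm.trans (Over.w φ))).symm.trans h2).symm
    let g := j₀.hom ≫ π
    have hzk : ∀ k, g ≫ z k = ptOf (cst a Γ(Y.left, ⊤) (C' k * x' ^ i k * y' ^ j k)) := fun k => by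
      refine eq_ptOf _ ?_
      rw [gaFn_comp', hz, map_mul, map_mul, map_pow, map_pow, map_mul, map_mul, map_pow, map_pow, hC, ← hx'', ← hy'',
        ← gaFn_comp', ← gaFn_comp', Category.assoc, Category.assoc]
      congr 2
      rw [← ConcreteCategory.comp_apply, ← Scheme.Hom.comp_appTop, Over.w g]
    have hL : g ≫ gcm D α β x y = cm D a α β x' y' := by
      rw [comp_gcm, ← gcm_ptOf, hx', hy', Category.assoc, Category.assoc]
    show j₀.hom ≫ π ≫ _ = j₀.hom ≫ π ≫ _
    rw [← Category.assoc, ← Category.assoc, hL, hC' _ x' y', comp_list_prod, pe]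
    refine congrArg List.prod (congrArg List.ofFn (funext fun k => ?_))
    rw [Algebra.algebraMap_self, RingHom.id_apply, ← Category.assoc, hzk]
    rfl
  refine ⟨C, key, fun C₁ hC₁ => ?_⟩
  have e1 := hC₁ O one' one' (fun k => ptOf (C₁ k)) fun k => by
    rw [gaFn_ptOf, gaFn_ptOf, one_pow, one_pow, _root_.mul_one, _root_.mul_one]; rfl
  have e2 := key O one' one' (fun k => ptOf (C k)) fun k => by
    rw [gaFn_ptOf, gaFn_ptOf, one_pow, one_pow, _root_.mul_one, _root_.mul_one]; rfl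
  have e3 := prod_injective D b he hek (e1.symm.trans e2)
  funext k
  simpa [gaFn_ptOf] using congrArg Red.gaFn (congrFun e3 k)

end SplitCell

end
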