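import Groth.Agent.SplitCellLib.Roots
import Mathlib.LinearAlgebra.RootSystem.Finite.Lemmas
import Groth.Agent.RootBasic.Simple

/-!
# Roots in the cone of two roots whose sum is not a root
-/

set_option autoImplicit false

noncomputable section

namespace SplitCell

open RootPairing

variable {idx M : Type} [AddCommGroup M] [Module.Free ℤ M] [Module.Finite ℤ M] [Finite idx] {N : Type}
  [AddCommGroup N] (P : RootPairing idx ℤ M N) {a b : idx}
  (h0 : P.root a + P.root b ≠ 0) (hab : P.root a + P.root b ∉ Set.range P.root)
include h0 hab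

omit [Module.Free ℤ M] [Module.Finite ℤ M] in
theorem pairing_nonneg : 0 ≤ P.pairing a b := by
  by_contra h
  refine hab (P.root_add_root_mem_of_pairingIn_neg ?_ fun e => h0 (by rw [e, neg_add_cancel]))
  rw [RootBasicLib.pairingIn_eq_pairing]
  omega

omit [Module.Free ℤ M] [Module.Finite ℤ M] in
/-- No root is a positive combination. -/
theorem no_combination (k : idx) (i j : ℕ) (hi : 1 ≤ i) (hj : 1 ≤ j) :
    P.root k ≠ (i : ℤ) • P.root a + (j : ℤ) • P.root b := by
  induction h : i + j using Nat.strong_induction_on generalizing k i j with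
  | _ s ih =>
    intro hk
    have hpa : 0 ≤ P.pairing b a := pairing_nonneg P (by rwa [add_comm]) (by rwa [add_comm])
    have hpb : 0 ≤ P.pairing a b := pairing_nonneg P h0 hab
    have hkb : P.pairing k b = i * P.pairing a b + j * 2 := by
      rw [← P.root_coroot'_eq_pairing, hk, map_add, map_zsmul, map_zsmul, P.root_coroot'_eq_pairing,
        P.root_coroot'_eq_pairing, P.pairing_same]
      simp
    have hka : P.pairing k a = i * 2 + j * P.pairing b a := by
      rw [← P.root_coroot'_eq_pairing, hk, map_add, map_zsmul, map_zsmul, P.root_coroot'_eq_pairing,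
        P.root_coroot'_eq_pairing, P.pairing_same]
      simp
    rcases Nat.lt_or_ge 1 j with hj2 | hj2
    · have hne : k ≠ b := by
        intro e
        subst e
        rw [P.pairing_same] at hkb
        nlinarith
      obtain ⟨l, hl⟩ := P.root_sub_root_mem_of_pairingIn_pos (i := k) (j := b)
        (by rw [RootBasicLib.pairingIn_eq_pairing, hkb]; positivity) hne
      refine ih (i + (j - 1)) (by omega) l i (j - 1) hi (by omega) rfl ?_
      rw [hl, hk, Nat.cast_sub hj, sub_smul]
      simp only [Nat.cast_one, one_smul]
      abel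
    rcases Nat.lt_or_ge 1 i with hi2 | hi2
    · have hne : k ≠ a := by
        intro e
        subst e
        rw [P.pairing_same] at hka
        nlinarith
      obtain ⟨l, hl⟩ := P.root_sub_root_mem_of_pairingIn_pos (i := k) (j := a)
        (by rw [RootBasicLib.pairingIn_eq_pairing, hka]; positivity) hne
      refine ih ((i - 1) + j) (by omega) l (i - 1) j (by omega) hj rfl ?_
      rw [hl, hk, Nat.cast_sub hi, sub_smul]
      simp only [Nat.cast_one, one_smul]
      abel
    obtain rfl : i = 1 := by omega
    obtain rfl : j = 1 := by omega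
    exact hab ⟨k, by simpa using hk⟩

/-- Both roots lie on one side. -/
theorem exists_sides_pos : ∃ σ : Sides P, a ∈ σ.pos ∧ b ∈ σ.pos := by
  classical
  have hpb : 0 ≤ P.pairing a b := pairing_nonneg P h0 hab
  obtain ⟨f, hfa, hfb⟩ : ∃ f : M →ₗ[ℤ] ℤ, 0 < f (P.root a) ∧ 0 < f (P.root b) := by
    by_cases hind : LinearIndependent ℤ ![P.root a, P.root b]
    · obtain ⟨f, hf⟩ := exists_pos_functional _ hind
      exact ⟨f, hf 0, hf 1⟩
    · rw [LinearIndependent.pair_iff] at hind
      push_neg at hind
      obtain ⟨p, q, hpq, hne⟩ := hind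
      obtain ⟨f, hf⟩ := exists_pos_functional (fun _ : Unit => P.root a)
        (linearIndependent_unique_iff.2 (P.ne_zero a))
      refine ⟨f, hf (), ?_⟩
      have h1 := congrArg (P.coroot' b) hpq
      simp only [map_add, map_zsmul, map_zero, P.root_coroot'_eq_pairing, P.pairing_same, smul_eq_mul] at h1
      have h2 := congrArg f hpq
      simp only [map_add, map_zsmul, map_zero, smul_eq_mul] at h2
      have h3 := hf ()
      have hq : q ≠ 0 := by
        intro hq
        subst hq
        simp only [zero_mul, add_zero, mul_eq_zero, h3.ne', or_false] at h2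
        exact hne h2 rfl
      rcases lt_or_gt_of_ne hq with hq | hq
      · have hp : 0 < p := by nlinarith
        nlinarith
      · have hp : p < 0 := by nlinarith
        nlinarith
  obtain ⟨g, hg⟩ := exists_injective_functional (fun i : Option idx => i.elim (0 : M) P.root) (by
    rintro (_ | i) (_ | j) h
    · rfl
    · exact absurd (h : (0 : M) = P.root j).symm (P.ne_zero j)
    · exact absurd (h : P.root i = (0 : M)) (P.ne_zero i)
    · exact congrArg some (P.root.injective h))
  haveI := Fintype.ofFinite idx
  let c : ℤ := 1 + ∑ i : idx, |g (P.root i)|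
  have hc : ∀ i, |g (P.root i)| < c := fun i => by
    have := Finset.single_le_sum (f := fun i : idx => |g (P.root i)|) (fun i _ => abs_nonneg _) (Finset.mem_univ i)
    omega
  let F : M →ₗ[ℤ] ℤ := c • f + g
  have hF : ∀ i, F (P.root i) = c * f (P.root i) + g (P.root i) := fun i => rfl
  have hFne : ∀ i, F (P.root i) ≠ 0 := fun i h => by
    have hgi := abs_lt.1 (hc i)
    rw [hF] at h
    rcases lt_trichotomy (f (P.root i)) 0 with h1 | h1 | h1
    · nlinarith [mul_le_mul_of_nonneg_left (show f (P.root i) ≤ -1 by omega) (show 0 ≤ c by omega)]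
    · have := @hg (some i) none (by simpa [h1] using h)
      cases this
    · nlinarith [mul_le_mul_of_nonneg_left (show 1 ≤ f (P.root i) by omega) (show 0 ≤ c by omega)]
  refine ⟨⟨{i | 0 < F (P.root i)}, {i | F (P.root i) < 0}, ⟨F, fun _ h => h, fun _ h => h⟩,
    fun i => (lt_or_gt_of_ne (hFne i)).symm⟩, ?_, ?_⟩
  · show 0 < F (P.root a)
    have hgi := abs_lt.1 (hc a)
    rw [hF]
    nlinarith [mul_le_mul_of_nonneg_left (show 1 ≤ f (P.root a) by omega) (show 0 ≤ c by omega)]
  · show 0 < F (P.root b)
    have hgi := abs_lt.1 (hc b)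
    rw [hF]
    nlinarith [mul_le_mul_of_nonneg_left (show 1 ≤ f (P.root b) by omega) (show 0 ≤ c by omega)]

end SplitCell

end
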