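import Groth.Agent.SplitCellLib.Unip
import Groth.Agent.TransporterLib.ClosedImm

/-!
# Products of the torus and positive root groups are closed

The valuative criterion: a point over a valuation ring which is generically such a product is contracted by a
cocharacter to a point of the torus, hence lies in the big cell, hence is such a product.
-/

set_option autoImplicit false
set_option linter.style.haveILetI false
set_option backward.isDefEq.respectTransparency false
set_option maxHeartbeats 1000000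
set_option synthInstance.maxHeartbeats 400000

universe u

open CategoryTheory CategoryTheory.Limits MonoidalCategory CartesianMonoidalCategory AlgebraicGeometry
open Groth.Agent.GaPts
open scoped MonObj LaurentPolynomial

noncomputable section

namespace SplitCell

variable {S : Scheme.{u}}

theorem isAffineHom_Ga (S : Scheme.{u}) : IsAffineHom (Red.Ga S).hom :=
  MorphismProperty.pullback_snd _ _ (show IsAffineHom (Spec.map _) from inferInstance)

theorem isAffineHom_pow : ∀ n : ℕ, IsAffineHom (RedSub.pow (Red.Ga S) n).hom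
  | 0 => inferInstanceAs (IsAffineHom (𝟙 S))
  | n + 1 => by
    haveI := isAffineHom_pow n
    haveI := isAffineHom_Ga S
    haveI : IsAffineHom (pullback.fst (Red.Ga S).hom (RedSub.pow (Red.Ga S) n).hom) :=
      MorphismProperty.pullback_fst _ _ inferInstance
    show IsAffineHom (pullback.fst (Red.Ga S).hom (RedSub.pow (Red.Ga S) n).hom ≫ _)
    infer_instance

variable {G : Over S} [GrpObj G] (D : Red.SplitRed G)

theorem isClosedImmersion_i : IsClosedImmersion D.i.left := by
  haveI := isMonHom_i D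
  haveI := mono_i D
  refine Groth.Agent.Transporter.isClosedImmersion_of_mono ?_ D.reductive.1 D.i
  obtain ⟨S', f, h1, h2, h3, h4⟩ := D.maximalTorus.2.2.1
  exact ⟨S', f, h1, h2, h3, fun s' => (h4 s').imp fun U ⟨hU, r, hr⟩ => ⟨hU, Fin r → ℤ, inferInstance, hr⟩⟩

theorem isAffineHom_T : IsAffineHom D.T.hom := by
  haveI := isClosedImmersion_i D
  haveI := isAffineHom_hom D
  rw [← Over.w D.i]
  infer_instance

theorem locallyOfFiniteType_T : LocallyOfFiniteType D.T.hom := by
  haveI := smoothRel_T D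
  haveI : Smooth D.T.hom := SmoothOfRelativeDimension.smooth (Module.finrank ℤ D.M) _
  infer_instance

theorem isAffineHom_src (m : ℕ) : IsAffineHom (D.T ⊗ RedSub.pow (Red.Ga S) m).hom := by
  haveI := isAffineHom_T D
  haveI := isAffineHom_pow (S := S) m
  haveI : IsAffineHom (pullback.fst D.T.hom (RedSub.pow (Red.Ga S) m).hom) :=
    MorphismProperty.pullback_fst _ _ inferInstance
  show IsAffineHom (pullback.fst D.T.hom (RedSub.pow (Red.Ga S) m).hom ≫ _)
  infer_instance

theorem locallyOfFiniteType_src (m : ℕ) : LocallyOfFiniteType (D.T ⊗ RedSub.pow (Red.Ga S) m).hom := by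
  haveI := locallyOfFiniteType_T D
  haveI := smoothRel_pow (S := S) m
  haveI : Smooth (RedSub.pow (Red.Ga S) m).hom := SmoothOfRelativeDimension.smooth m _
  show LocallyOfFiniteType (pullback.fst D.T.hom (RedSub.pow (Red.Ga S) m).hom ≫ _)
  infer_instance

section Laurent

variable {R A B : Type u} [CommRing R] [CommRing A] [Algebra R A] [CommRing B] [Algebra R B]

/-- A map on the coefficients of Laurent polynomials. -/
def mapT (f : A →ₐ[R] B) : A[T;T⁻¹] →ₐ[R] B[T;T⁻¹] := AddMonoidAlgebra.mapAlgHom ℤ f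

theorem mapT_T (f : A →ₐ[R] B) (n : ℤ) : mapT f (LaurentPolynomial.T n) = LaurentPolynomial.T n := by
  show AddMonoidAlgebra.mapAlgHom ℤ f (AddMonoidAlgebra.single n 1) = AddMonoidAlgebra.single n 1
  rw [AddMonoidAlgebra.mapAlgHom_single, map_one]

theorem mapT_C (f : A →ₐ[R] B) (c : A) : mapT f (LaurentPolynomial.C c) = LaurentPolynomial.C (f c) :=
  AddMonoidAlgebra.mapAlgHom_single f 0 c

theorem mapT_toT (f : A →ₐ[R] B) : (mapT f).comp (toT R A) = (toT R B).comp (Polynomial.mapAlgHom f) := by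
  refine AlgHom.ext fun p => ?_
  show mapT f (Polynomial.toLaurent p) = Polynomial.toLaurent (Polynomial.map (f : A →+* B) p)
  induction p using Polynomial.induction_on' with
  | add p q hp hq => rw [map_add, map_add, Polynomial.map_add, map_add, hp, hq]
  | monomial n c =>
    rw [Polynomial.map_monomial, Polynomial.toLaurent_C_mul_T, Polynomial.toLaurent_C_mul_T, map_mul, mapT_T]
    rw [mapT_C]
    rfl

theorem mapT_injective (f : A →ₐ[R] B) (hf : Function.Injective f) : Function.Injective (mapT f) := by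
  intro x y h
  refine AddMonoidAlgebra.ext (Finsupp.ext fun n => hf ?_)
  have := congrArg (fun z : B[T;T⁻¹] => z.coeff n) h
  simpa only [mapT, AddMonoidAlgebra.coeff_mapAlgHom] using this

theorem exists_toT_of_map (f : A →ₐ[R] B) (hf : Function.Injective f) {r : A[T;T⁻¹]} {q : Polynomial B}
    (h : mapT f r = toT R B q) : ∃ p, toT R A p = r := by
  obtain ⟨n, p, hp⟩ := LaurentPolynomial.exists_T_pow r
  have h1 : toT R B (Polynomial.mapAlgHom f p) = toT R B (q * Polynomial.X ^ n) := by
    rw [← AlgHom.comp_apply, ← mapT_toT, AlgHom.comp_apply, map_mul, ← h]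
    show mapT f (Polynomial.toLaurent p) = mapT f r * Polynomial.toLaurent (Polynomial.X ^ n)
    rw [hp, map_mul, mapT_T, Polynomial.toLaurent_X_pow]
  have h2 : (Polynomial.map (f : A →+* B) p) = q * Polynomial.X ^ n := toT_injective h1
  obtain ⟨p', hp'⟩ : Polynomial.X ^ n ∣ p := Polynomial.X_pow_dvd_iff.2 fun d hd => hf (by
    have h3 := congrArg (fun P => Polynomial.coeff P d) h2
    rw [map_zero]
    simpa [Polynomial.coeff_mul_X_pow', not_le.2 hd] using h3)
  refine ⟨p', ?_⟩
  show Polynomial.toLaurent p' = r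
  refine (LaurentPolynomial.isUnit_T (R := A) (n : ℤ)).mul_left_cancel ?_
  rw [← Polynomial.toLaurent_X_pow, ← map_mul, ← hp', hp, Polynomial.toLaurent_X_pow, mul_comm]

/-- Evaluation of Laurent polynomials at a unit. -/
def evT (z : Aˣ) : A[T;T⁻¹] →ₐ[R] A :=
  (AddMonoidAlgebra.lift A A ℤ ((Units.coeHom A).comp (zpowersHom Aˣ z))).restrictScalars R

theorem evT_T (z : Aˣ) (n : ℤ) : evT (R := R) z (LaurentPolynomial.T n) = ((z ^ n : Aˣ) : A) := by
  show AddMonoidAlgebra.lift A A ℤ ((Units.coeHom A).comp (zpowersHom Aˣ z)) (AddMonoidAlgebra.single n 1) = _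
  rw [AddMonoidAlgebra.lift_single, one_smul]
  rfl

theorem evT_C (z : Aˣ) (c : A) : evT (R := R) z (LaurentPolynomial.C c) = c := by
  show AddMonoidAlgebra.lift A A ℤ ((Units.coeHom A).comp (zpowersHom Aˣ z)) (AddMonoidAlgebra.single 0 c) = _
  rw [AddMonoidAlgebra.lift_single]
  simp

theorem evT_toT (z : Aˣ) : (evT (R := R) z).comp (toT R A) = evA (R := R) (z : A) := by
  refine AlgHom.ext fun p => ?_
  show evT (R := R) z (Polynomial.toLaurent p) = Polynomial.aeval (z : A) p
  induction p using Polynomial.induction_on' with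
  | add p q hp hq => rw [map_add, map_add, hp, hq, map_add]
  | monomial n c =>
    rw [Polynomial.toLaurent_C_mul_T, map_mul, evT_T, evT_C, Polynomial.aeval_monomial, zpow_natCast,
      Units.val_pow_eq_pow_val]
    rfl

theorem evT_unitT (z : Aˣ) : Units.map (evT (R := R) z).toRingHom.toMonoidHom (unitT A) = z := by
  refine Units.ext ?_
  show evT (R := R) z (unitT A : A[T;T⁻¹]) = z
  rw [unitT_val, evT_T, zpow_one]

theorem mapT_unitT (f : A →ₐ[R] B) : Units.map (mapT f).toRingHom.toMonoidHom (unitT A) = unitT B := by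
  refine Units.ext ?_
  show mapT f (unitT A : A[T;T⁻¹]) = (unitT B : B[T;T⁻¹])
  rw [unitT_val, unitT_val, mapT_T]

end Laurent

variable (b : Sides D.P) {n m : ℕ} {eneg : Fin n → D.idx} {epos : Fin m → D.idx}

/-- Conjugation of a point of the cell. -/
theorem conj_cell' {R : Type u} [CommRing R] (a : Spec (CommRingCat.of R) ⟶ S) {A : Type u} [CommRing A] [Algebra R A]
    (f : D.M →ₗ[ℤ] ℤ) (z : Aˣ) (y : Fin n → A) (t : aP a A ⟶ D.T) (x : Fin m → A) :
    gel a (coch D f) z * (pe a (fun k => D.u (eneg k)) y * ((t ≫ D.i) * pe a (fun k => D.u (epos k)) x)) *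
        (gel a (coch D f) z)⁻¹ =
      pe a (fun k => D.u (eneg k)) (fun k => ((z ^ f (D.P.root (eneg k)) : Aˣ) : A) * y k) *
        ((t ≫ D.i) * pe a (fun k => D.u (epos k)) (fun k => ((z ^ f (D.P.root (epos k)) : Aˣ) : A) * x k)) := by
  rw [← conj_pe a (hasWeights_coch D f eneg) z y, ← conj_pe a (hasWeights_coch D f epos) z x]
  have hc : gel a (coch D f) z * (t ≫ D.i) * (gel a (coch D f) z)⁻¹ = t ≫ D.i := by
    rw [gel, (commute_coch D f _ t).eq, mul_inv_cancel_right]
  conv_rhs => rw [← hc]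
  group

/-- A point with a limit `1` at the origin lies in the cell. -/
theorem exists_cpt_of_lim {R : Type u} [CommRing R] (a : Spec (CommRingCat.of R) ⟶ S) {L : Type u} [Field L]
    [Infinite L] [Algebra R L] (hneg : RedSub.Enumerates b.neg eneg) (hpos : RedSub.Enumerates b.pos epos)
    (f : D.M →ₗ[ℤ] ℤ) (g : aP a L ⟶ G) (F : aP a (Polynomial L) ⟶ G)
    (hF : aM a (toT R L) ≫ F = gel a (coch D f) (unitT L) * (aM a ((toT R L).comp (cC R L)) ≫ g) *
      (gel a (coch D f) (unitT L))⁻¹)
    (h0 : aM a (evA (R := R) (0 : L)) ≫ F = 1) :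
    ∃ y t x, cpt D a y t x ≫ RedSub.cellMap D eneg epos = g := by
  have hgm := isGerm_cell D b hneg hpos
  haveI := hgm.open_imm
  let Ω := (RedSub.cellMap D eneg epos).left
  let U : (Spec (CommRingCat.of (Polynomial L))).Opens := F.left ⁻¹ᵁ Ω.opensRange
  let pt : L → Spec (CommRingCat.of (Polynomial L)) := fun c =>
    Spec.map (CommRingCat.ofHom ((evA (R := R) c) : Polynomial L →+* L)) (⊥ : PrimeSpectrum L)
  have hzero : pt 0 ∈ U := by
    show F.left (pt 0) ∈ Ω.opensRange
    have h1 := (inGerm_iff hgm _).1 (inGerm_one hgm (X := aP a L))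
    rw [← h0] at h1
    exact h1 ⟨(⊥ : PrimeSpectrum L), Scheme.Hom.comp_apply _ _ _⟩
  obtain ⟨_, ⟨P, rfl⟩, hP0, hPU⟩ := PrimeSpectrum.isTopologicalBasis_basic_opens.exists_subset_of_mem_open hzero U.2
  have hP : P ≠ 0 := by
    rintro rfl
    exact hP0 (Ideal.zero_mem _)
  obtain ⟨c, hc⟩ : ∃ c : L, (P * Polynomial.X).eval c ≠ 0 := by
    by_contra h
    push_neg at h
    exact mul_ne_zero hP Polynomial.X_ne_zero (Polynomial.zero_of_eval_zero _ h)
  rw [Polynomial.eval_mul, Polynomial.eval_X, mul_ne_zero_iff] at hc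
  have hmem : pt c ∈ U := hPU (by
    show evA (R := R) c P ∉ (⊥ : Ideal L)
    rw [Ideal.mem_bot]
    exact hc.1)
  obtain ⟨w, hw⟩ := exists_lift_of_range (RedSub.cellMap D eneg epos) (aM a (evA (R := R) c) ≫ F) (by
    rintro _ ⟨z, rfl⟩
    rw [Subsingleton.elim (α := PrimeSpectrum L) z ⊥, Over.comp_left, Scheme.Hom.comp_apply]
    exact hmem)
  obtain ⟨y, t, x, rfl⟩ := exists_cpt D a w
  let z : Lˣ := Units.mk0 c hc.2
  have hFc : aM a (evA (R := R) c) ≫ F = gel a (coch D f) z * g * (gel a (coch D f) z)⁻¹ := by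
    have h2 := congrArg (fun e => aM a (evT (R := R) z) ≫ e) hF
    simp only [MonObj.comp_mul, GrpObj.comp_inv, aM_gel, evT_unitT] at h2
    rw [← Category.assoc, ← aM_comp, evT_toT, ← Category.assoc (f := aM a _) (g := aM a _), ← aM_comp, ← AlgHom.comp_assoc,
      evT_toT, show (evA (R := R) ((z : Lˣ) : L)).comp (cC R L) = AlgHom.id R L from AlgHom.ext (evA_cC (R := R) _),
      aM_id, Category.id_comp] at h2
    exact h2
  refine ⟨fun k => ((z⁻¹ ^ f (D.P.root (eneg k)) : Lˣ) : L) * y k, t,
    fun k => ((z⁻¹ ^ f (D.P.root (epos k)) : Lˣ) : L) * x k, ?_⟩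
  rw [cpt_cellMap, hFc] at hw
  refine mul_left_cancel (a := gel a (coch D f) z) (mul_right_cancel (b := (gel a (coch D f) z)⁻¹) ?_)
  rw [cpt_cellMap, conj_cell', ← hw]
  simp only [inv_zpow', zpow_neg, ← _root_.mul_assoc, ← Units.val_mul, mul_inv_cancel, Units.val_one, _root_.one_mul]

/-- **Existence in the valuative criterion.** -/
theorem existence_borelMap (hpos : RedSub.Enumerates b.pos epos) :
    ValuativeCriterion.Existence (RedSub.borelMap D epos).left := by
  intro sq
  obtain ⟨nn, mm, eneg, epos₀, hneg, -⟩ := exists_enum D b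
  haveI := isAffineHom_hom D
  haveI := isMonHom_i D
  haveI := mono_i D
  haveI := isClosedImmersion_i D
  haveI : ∀ k, IsMonHom ((fun k => D.u (eneg k)) k) := fun k => isMonHom_u D _
  haveI : ∀ k, IsMonHom ((fun k => D.u (epos k)) k) := fun k => isMonHom_u D _
  obtain ⟨f, hf₁, hf₂⟩ := b.regular
  let R := sq.R
  let K := sq.K
  let a : Spec (CommRingCat.of R) ⟶ S := sq.i₂ ≫ G.hom
  let g : aP a R ⟶ G := Over.homMk sq.i₂ (by
    show sq.i₂ ≫ G.hom = Spec.map (CommRingCat.ofHom (algebraMap R R)) ≫ a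
    rw [Algebra.algebraMap_self, CommRingCat.ofHom_id, Spec.map_id, Category.id_comp])
  let ι₀ : R →ₐ[R] K := Algebra.ofId R K
  have hι : Function.Injective ι₀ := IsFractionRing.injective R K
  let xK : aP a K ⟶ D.T ⊗ RedSub.pow (Red.Ga S) m := Over.homMk sq.i₁ (by
    show sq.i₁ ≫ _ = Spec.map _ ≫ sq.i₂ ≫ G.hom
    rw [← Over.w (RedSub.borelMap D epos), ← Category.assoc, sq.commSq.w, Category.assoc])
  obtain ⟨x, hx⟩ := exists_pw a (xK ≫ snd _ _)
  let t := xK ≫ fst _ _
  have hg : aM a ι₀ ≫ g = (t ≫ D.i) * pe a (fun k => D.u (epos k)) x := by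
    rw [← pw_prodMap, hx, Category.assoc, Category.assoc, ← MonObj.comp_mul]
    exact Over.OverMorphism.ext sq.commSq.w.symm
  have hw : ∀ k, 0 < f (D.P.root (epos k)) := fun k => hf₁ _ (hpos.2 ▸ ⟨k, rfl⟩)
  let FK : aP a (Polynomial K) ⟶ G := (aM a (cC R K) ≫ (t ≫ D.i)) *
    pe a (fun k => D.u (epos k)) fun k => Polynomial.X ^ (f (D.P.root (epos k))).toNat * cC R K (x k)
  let h₁ : aP a R[T;T⁻¹] ⟶ G := gel a (coch D f) (unitT R) * (aM a ((toT R R).comp (cC R R)) ≫ g) *
    (gel a (coch D f) (unitT R))⁻¹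
  have hcC : (toT R K).comp ((cC R K).comp ι₀) = ((toT R K).comp (cC R K)).comp ι₀ := (AlgHom.comp_assoc _ _ _).symm
  have hT : ∀ {A : Type u} [CommRing A] [Algebra R A] (τ : aP a A ⟶ D.T),
      gel a (coch D f) (unitT A) * (aM a ((toT R A).comp (cC R A)) ≫ (τ ≫ D.i)) * (gel a (coch D f) (unitT A))⁻¹ =
        aM a ((toT R A).comp (cC R A)) ≫ (τ ≫ D.i) := fun τ => by
    rw [← Category.assoc, gel, (commute_coch D f _ _).eq, mul_inv_cancel_right]
  have h12 : aM a (mapT ι₀) ≫ h₁ = aM a (toT R K) ≫ FK := by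
    have hcomm : (mapT ι₀).comp ((toT R R).comp (cC R R)) = ((toT R K).comp (cC R K)).comp ι₀ := Algebra.ext_id_iff.2 trivial
    simp only [h₁, FK, MonObj.comp_mul, GrpObj.comp_inv, aM_gel, mapT_unitT]
    rw [← Category.assoc (f := aM a _) (g := aM a _), ← aM_comp, hcomm, aM_comp, Category.assoc, hg, MonObj.comp_mul,
      ← mul_inv_cancel_right (gel a (coch D f) (unitT K) * (_ * _)) (gel a (coch D f) (unitT K))] 
    conv_lhs => rw [mul_inv_cancel_right]
    rw [← Category.assoc (f := aM a (toT R K)) (g := aM a (cC R K)), ← aM_comp]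
    conv_rhs => rw [← hT t]
    rw [aM_pe, aM_pe]
    have hp := conj_pe a (hasWeights_coch D f epos) (unitT K) fun k => ((toT R K).comp (cC R K)) (x k)
    rw [show (fun k => toT R K (Polynomial.X ^ (f (D.P.root (epos k))).toNat * cC R K (x k))) =
      fun k => ((unitT K ^ f (D.P.root (epos k)) : (K[T;T⁻¹])ˣ) : K[T;T⁻¹]) * ((toT R K).comp (cC R K)) (x k) from
      funext fun k => by
        obtain ⟨d, hd⟩ := Int.eq_ofNat_of_zero_le (hw k).le
        rw [map_mul, map_pow, toT_X, hd, Int.toNat_natCast, zpow_natCast, Units.val_pow_eq_pow_val]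
        rfl, ← hp]
    group
  obtain ⟨gX, hgX⟩ := exists_of_inter (toT R R) (mapT ι₀) (toT R K) (mapT_injective ι₀ hι)
    (fun r₁ r₂ h => exists_toT_of_map ι₀ hι h) toT_injective h12
  have hK : aM a (Polynomial.mapAlgHom ι₀) ≫ gX = FK := by
    refine ext_of_injective (toT R K) toT_injective ?_
    rw [← Category.assoc, ← aM_comp, ← mapT_toT, aM_comp, Category.assoc, hgX, h12]
  let g₀ := aM a (evA (R := R) (0 : R)) ≫ gX
  have hev : ι₀.comp (evA (R := R) (0 : R)) = (evA (R := R) (0 : K)).comp (Polynomial.mapAlgHom ι₀) :=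
    Polynomial.algHom_ext (by simp [evA])
  have hg₀ : aM a ι₀ ≫ g₀ = t ≫ D.i := by
    rw [← Category.assoc, ← aM_comp, hev, aM_comp, Category.assoc, hK, MonObj.comp_mul, ← Category.assoc, ← aM_comp,
      show (evA (R := R) (0 : K)).comp (cC R K) = AlgHom.id R K from AlgHom.ext (evA_cC (R := R) _), aM_id,
      Category.id_comp, aM_pe, show (fun k => evA (R := R) (0 : K) (Polynomial.X ^ (f (D.P.root (epos k))).toNat *
        cC R K (x k))) = fun _ => (0 : K) from funext fun k => by
          have := hw k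
          rw [map_mul, map_pow, evA_X, zero_pow (by omega), zero_mul], pe_zero, _root_.mul_one]
  obtain ⟨τ, hτ⟩ : ∃ τ : aP a R ⟶ D.T, τ ≫ D.i = g₀ := by
    have hv : ValuativeCriterion D.i.left := by
      have := (IsProper.eq_valuativeCriterion ▸ (inferInstance : IsProper D.i.left) :
        (ValuativeCriterion ⊓ @QuasiCompact ⊓ @QuasiSeparated ⊓ @LocallyOfFiniteType : MorphismProperty Scheme) D.i.left)
      exact this.1.1.1
    let sq' : ValuativeCommSq D.i.left :=
      { R := R, K := K, i₁ := t.left, i₂ := g₀.left, commSq := ⟨congrArg (fun e : aP a K ⟶ G => e.left) hg₀.symm⟩ }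
    obtain ⟨⟨lift₀⟩⟩ := (ValuativeCriterion.iff.1 hv).1 sq'
    exact ⟨Over.homMk lift₀.l (by rw [← Over.w D.i, ← Category.assoc, lift₀.fac_right]; exact Over.w g₀),
      Over.OverMorphism.ext lift₀.fac_right⟩
  have hτK : aM a ι₀ ≫ τ = t := by
    rw [← cancel_mono D.i, Category.assoc, hτ, hg₀]
  -- the contracted point
  let g' := (τ ≫ D.i)⁻¹ * g
  let gX' := (aM a (cC R R) ≫ (τ ≫ D.i))⁻¹ * gX
  have hX' : aM a (toT R R) ≫ gX' = gel a (coch D f) (unitT R) * (aM a ((toT R R).comp (cC R R)) ≫ g') *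
      (gel a (coch D f) (unitT R))⁻¹ := by
    simp only [gX', g', h₁, MonObj.comp_mul, GrpObj.comp_inv, hgX]
    rw [← Category.assoc (f := aM a (toT R R)) (g := aM a (cC R R)), ← aM_comp]
    conv_lhs => rw [← hT τ]
    group
  have hX0 : aM a (evA (R := R) (0 : R)) ≫ gX' = 1 := by
    simp only [gX', MonObj.comp_mul, GrpObj.comp_inv]
    rw [← Category.assoc, ← aM_comp, show (evA (R := R) (0 : R)).comp (cC R R) = AlgHom.id R R from
      AlgHom.ext (evA_cC (R := R) _), aM_id, Category.id_comp, hτ, inv_mul_cancel]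
  -- it lies in the cell
  let L := AlgebraicClosure (IsLocalRing.ResidueField R)
  let π : R →ₐ[R] L := Algebra.ofId R L
  haveI : Infinite L := IsAlgClosed.instInfinite
  obtain ⟨yL, tL, xL, hL⟩ := exists_cpt_of_lim D b a hneg hpos f (aM a π ≫ g') (aM a (Polynomial.mapAlgHom π) ≫ gX') (by
    rw [← Category.assoc, ← aM_comp, ← mapT_toT, aM_comp, Category.assoc, hX']
    simp only [MonObj.comp_mul, GrpObj.comp_inv, aM_gel, mapT_unitT]
    rw [← Category.assoc (f := aM a _) (g := aM a _), ← aM_comp,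
      show (mapT π).comp ((toT R R).comp (cC R R)) = ((toT R L).comp (cC R L)).comp π from Algebra.ext_id_iff.2 trivial,
      aM_comp, Category.assoc]) (by
    rw [← Category.assoc, ← aM_comp, ← (Polynomial.algHom_ext (by simp [evA]) :
      π.comp (evA (R := R) (0 : R)) = (evA (R := R) (0 : L)).comp (Polynomial.mapAlgHom π)), aM_comp, Category.assoc,
      hX0, MonObj.comp_one])
  haveI := isOpenImmersion_cellMap D b hneg hpos
  obtain ⟨w, hwg⟩ := exists_lift_of_range (RedSub.cellMap D eneg epos) g' (by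
    have hc : g'.left (IsLocalRing.closedPoint R) ∈ (RedSub.cellMap D eneg epos).left.opensRange := by
      have h1 := congrArg (fun e : aP a L ⟶ G => e.left (⊥ : PrimeSpectrum L)) hL
      simp only [Over.comp_left, Scheme.Hom.comp_apply] at h1
      have h2 : Spec.map (CommRingCat.ofHom (π : R →+* L)) (⊥ : PrimeSpectrum L) = IsLocalRing.closedPoint R := by
        refine PrimeSpectrum.ext ?_
        show Ideal.comap (algebraMap R L) ⊥ = IsLocalRing.maximalIdeal R
        rw [IsScalarTower.algebraMap_eq R (IsLocalRing.ResidueField R) L, ← Ideal.comap_comap]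
        rw [Ideal.comap_bot_of_injective _ (algebraMap (IsLocalRing.ResidueField R) L).injective]
        exact IsLocalRing.ker_residue
      change _ = g'.left (Spec.map (CommRingCat.ofHom (π : R →+* L)) (⊥ : PrimeSpectrum L)) at h1
      rw [h2] at h1
      exact ⟨_, h1⟩
    rintro _ ⟨z, rfl⟩
    have h3 : (IsLocalRing.closedPoint R : Spec (CommRingCat.of R)) ∈
        g'.left ⁻¹ᵁ (RedSub.cellMap D eneg epos).left.opensRange := hc
    exact ((IsLocalRing.specializes_closedPoint (R := R) z).mem_open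
      (g'.left ⁻¹ᵁ (RedSub.cellMap D eneg epos).left.opensRange).2 h3))
  obtain ⟨y', τ', x', rfl⟩ := exists_cpt D a w
  rw [cpt_cellMap] at hwg
  have hK' := congrArg (fun e => aM a ι₀ ≫ e) hwg
  simp only [g', MonObj.comp_mul, GrpObj.comp_inv, aM_pe, ← Category.assoc (f := aM a ι₀) (h := D.i), hτK, hg,
    inv_mul_cancel_left] at hK'
  obtain ⟨hy, ht', hx'⟩ := cell_inj D b a hneg hpos (A := K) (y' := fun _ => 0) (t' := 1) (x' := x)
    (hK'.trans (by rw [pe_zero, MonObj.one_comp, _root_.one_mul, _root_.one_mul]))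
  have hy0 : y' = fun _ => 0 := funext fun k => hι ((congrFun hy k).trans (map_zero ι₀).symm)
  have ht0 : τ' ≫ D.i = 1 := ext_of_injective ι₀ hι (by rw [← Category.assoc, ht', MonObj.one_comp, MonObj.comp_one])
  rw [hy0, pe_zero, _root_.one_mul, ht0, _root_.one_mul] at hwg
  have hfac : lift τ (pw a x') ≫ RedSub.borelMap D epos = g := by
    show lift τ (pw a x') ≫ ((fst _ _ ≫ D.i) * (snd _ _ ≫ RedSub.prodMap (Red.Ga S) m fun k => D.u (epos k))) = g
    rw [MonObj.comp_mul, lift_fst_assoc, lift_snd_assoc, pw_prodMap, hwg, mul_inv_cancel_left]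
  have hKx : aM a ι₀ ≫ lift τ (pw a x') = xK := by
    rw [comp_lift, hτK, ← lift_comp_fst_snd xK, ← hx, ← hx']
    congr 1
    rw [← tup_pw, ← tup_pw, comp_tup]
    congr 1
    funext k
    rw [Groth.Agent.RankOne.comp_ptOf, aM_cst]
  exact ⟨⟨⟨(lift τ (pw a x')).left, congrArg (fun e : aP a K ⟶ _ => e.left) hKx,
    congrArg (fun e : aP a R ⟶ G => e.left) hfac⟩⟩⟩

/-- The section of `snd` at the unit. -/
theorem mono_borelMap (hpos : RedSub.Enumerates b.pos epos) : Mono (RedSub.borelMap D epos) := by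
  obtain ⟨nn, mm, eneg, epos₀, hneg, -⟩ := exists_enum D b
  haveI := mono_cellMap D b hneg hpos
  haveI : ∀ k, IsMonHom (D.u (eneg k)) := fun k => isMonHom_u D _
  let ι₁ : D.T ⊗ RedSub.pow (Red.Ga S) m ⟶ RedSub.pow (Red.Ga S) nn ⊗ (D.T ⊗ RedSub.pow (Red.Ga S) m) :=
    lift (tup fun _ => ptOf 0) (𝟙 _)
  haveI : Mono ι₁ := SplitMono.mono ⟨snd _ _, lift_snd _ _⟩
  have h : RedSub.borelMap D epos = ι₁ ≫ RedSub.cellMap D eneg epos := by
    rw [RedSub.cellMap, RedSub.borelMap, MonObj.comp_mul, MonObj.comp_mul, lift_fst_assoc, lift_snd_assoc,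
      lift_snd_assoc, Category.id_comp, Category.id_comp, prodMap_eq (fun k => D.u (eneg k)) (tup _)]
    rw [funext fun k => (Category.assoc _ _ _).symm.trans (congrArg (· ≫ D.u (eneg k)) (tup_prj (fun _ => ptOf 0) k)),
      show (List.ofFn fun k => (ptOf (0 : Γ((D.T ⊗ RedSub.pow (Red.Ga S) m).left, ⊤)) : _ ⟶ Red.Ga S) ≫ D.u (eneg k)).prod = 1 from
      List.prod_eq_one fun p hp => by
        obtain ⟨k, rfl⟩ := List.mem_ofFn.1 hp
        exact Groth.Agent.BigCell.rt_zero _, _root_.one_mul]
  rw [h]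
  infer_instance

/-- **The product of the torus and the positive root groups is closed.** -/
theorem isClosedImmersion_borelMap (hpos : RedSub.Enumerates b.pos epos) :
    IsClosedImmersion (RedSub.borelMap D epos).left := by
  haveI := isAffineHom_hom D
  haveI := isAffineHom_src D m
  haveI := locallyOfFiniteType_src D m
  haveI : IsAffineHom ((RedSub.borelMap D epos).left ≫ G.hom) := by rw [Over.w]; infer_instance
  haveI : LocallyOfFiniteType ((RedSub.borelMap D epos).left ≫ G.hom) := by rw [Over.w]; infer_instance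
  haveI : IsAffineHom (RedSub.borelMap D epos).left := IsAffineHom.of_comp _ G.hom
  haveI : LocallyOfFiniteType (RedSub.borelMap D epos).left := locallyOfFiniteType_of_comp _ G.hom
  haveI := UniversallyClosed.of_valuativeCriterion _ (existence_borelMap D b hpos)
  haveI := mono_borelMap D b hpos
  haveI : Mono (RedSub.borelMap D epos).left := inferInstance
  haveI : IsProper (RedSub.borelMap D epos).left := {}
  exact (IsClosedImmersion.iff_isProper_and_mono _).2 ⟨inferInstance, inferInstance⟩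

variable {D}

/-- **An injective product of positive root groups is closed.** -/
theorem isClosedImmersion_rprod {l : ℕ} {e : Fin l → D.idx} (he : Function.Injective e) (hp : ∀ k, e k ∈ b.pos) :
    IsClosedImmersion (rprod D e).left := by
  obtain ⟨l', e', hpos, -⟩ := exists_append_enum e he hp
  haveI := isMonHom_i D
  haveI : ∀ k, IsMonHom (D.u (e' k)) := fun k => isMonHom_u D _
  haveI := isClosedImmersion_borelMap D b hpos
  let z : Fin (l + l') → (RedSub.pow (Red.Ga S) l ⟶ Red.Ga S) := Fin.append (fun k => prj S k) fun _ => ptOf 0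
  let s : RedSub.pow (Red.Ga S) l ⟶ D.T ⊗ RedSub.pow (Red.Ga S) (l + l') := lift 1 (tup z)
  let r : D.T ⊗ RedSub.pow (Red.Ga S) (l + l') ⟶ RedSub.pow (Red.Ga S) l :=
    snd _ _ ≫ tup fun k => prj S (Fin.castAdd l' k)
  have hsr : s ≫ r = 𝟙 _ := pow_ext fun k => by
    rw [Category.assoc, Category.assoc, tup_prj, lift_snd_assoc, tup_prj, Category.id_comp]
    exact Fin.append_left _ _ _
  have h : rprod D e = s ≫ RedSub.borelMap D (Fin.append e e') := by
    rw [RedSub.borelMap, MonObj.comp_mul, lift_fst_assoc, lift_snd_assoc, MonObj.one_comp, _root_.one_mul, prodMap_eq]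
    simp only [← Category.assoc (f := tup _), tup_prj]
    conv_lhs => rw [← Category.id_comp (rprod D e), prodMap_eq]
    rw [show (fun k => z k ≫ D.u (Fin.append e e' k)) =
      Fin.append (fun k => prj S k ≫ D.u (e k)) (fun k => ptOf 0 ≫ D.u (e' k)) from
      funext fun k => Fin.addCases (fun i => by simp [z]) (fun i => by simp [z]) k,
      List.ofFn_fin_append, List.prod_append, show (List.ofFn fun k => (ptOf (0 : Γ((RedSub.pow (Red.Ga S) l).left, ⊤)) :
      _ ⟶ Red.Ga S) ≫ D.u (e' k)).prod = 1 from List.prod_eq_one fun p hp => by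
        obtain ⟨k, rfl⟩ := List.mem_ofFn.1 hp
        exact Groth.Agent.BigCell.rt_zero _, _root_.mul_one]
    simp only [Category.id_comp]
  haveI := isAffineHom_src D (l + l')
  haveI := isAffineHom_pow (S := S) l
  haveI : IsClosedImmersion s.left := by
    haveI : IsClosedImmersion (s.left ≫ r.left) := by
      rw [← Over.comp_left, hsr]
      exact inferInstanceAs (IsClosedImmersion (𝟙 _))
    haveI : IsSeparated (r.left ≫ (RedSub.pow (Red.Ga S) l).hom) := by rw [Over.w]; infer_instance
    haveI : IsSeparated r.left := IsSeparated.of_comp _ (RedSub.pow (Red.Ga S) l).hom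
    exact IsClosedImmersion.of_comp s.left r.left
  rw [h]
  exact inferInstanceAs (IsClosedImmersion (s.left ≫ _))

end SplitCell

end
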