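import Groth.Agent.SplitCellLib.ChevalleyGlobal

/-!
# Products of positive root groups over any base, and their subgroups
-/

set_option autoImplicit false
set_option linter.style.haveILetI false
set_option backward.isDefEq.respectTransparency false
set_option maxHeartbeats 1000000

universe u

open CategoryTheory CategoryTheory.Limits MonoidalCategory CartesianMonoidalCategory AlgebraicGeometry
open Groth.Agent.GaPts
open Groth.Agent.RankOne (eq_ptOf comp_ptOf)
open scoped MonObj

noncomputable section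

namespace SplitCell

open Groth.Agent.BigCell (rt rt_eq comp_rt)

variable {S : Scheme.{u}}

/-- The point of a power of `𝔾_a` with given components. -/
def tup : {n : ℕ} → {X : Over S} → (Fin n → (X ⟶ Red.Ga S)) → (X ⟶ RedSub.pow (Red.Ga S) n)
  | 0, _, _ => toUnit _
  | _ + 1, _, z => lift (z 0) (tup fun k => z k.succ)

theorem tup_prj {n : ℕ} {X : Over S} (z : Fin n → (X ⟶ Red.Ga S)) (k : Fin n) : tup z ≫ prj S k = z k := by
  induction n with
  | zero => exact k.elim0
  | succ n ih =>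
    induction k using Fin.cases with
    | zero => exact lift_fst _ _
    | succ j => exact (lift_snd_assoc _ _ _).trans (ih (fun k => z k.succ) j)

theorem pow_ext {n : ℕ} {X : Over S} {x y : X ⟶ RedSub.pow (Red.Ga S) n} (h : ∀ k, x ≫ prj S k = y ≫ prj S k) :
    x = y := by
  induction n with
  | zero => exact toUnit_unique _ _
  | succ n ih => exact CartesianMonoidalCategory.hom_ext _ _ (h 0) (ih fun j => by
      rw [Category.assoc, Category.assoc]; exact h j.succ)

theorem comp_tup {n : ℕ} {X X' : Over S} (g : X' ⟶ X) (z : Fin n → (X ⟶ Red.Ga S)) :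
    g ≫ tup z = tup fun k => g ≫ z k :=
  pow_ext fun k => by rw [Category.assoc, tup_prj, tup_prj]

theorem tup_pw {n : ℕ} {R : Type u} [CommRing R] (a : Spec (CommRingCat.of R) ⟶ S) {A : Type u} [CommRing A]
    [Algebra R A] (x : Fin n → A) : tup (fun k => ptOf (cst a A (x k))) = pw a x :=
  pow_ext fun k => by rw [tup_prj, pw_prj]

variable {G : Over S} [GrpObj G]

theorem prodMap_eq {n : ℕ} (p : Fin n → (Red.Ga S ⟶ G)) {X : Over S} (x : X ⟶ RedSub.pow (Red.Ga S) n) :
    x ≫ RedSub.prodMap (Red.Ga S) n p = (List.ofFn fun k => x ≫ prj S k ≫ p k).prod := by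
  induction n with
  | zero => exact MonObj.comp_one x
  | succ n ih =>
    rw [RedSub.prodMap, MonObj.comp_mul, List.ofFn_succ, List.prod_cons, ← Category.assoc x (snd _ _),
      ih (fun k => p k.succ)]
    simp only [Category.assoc]
    rfl

variable (D : Red.SplitRed G) (b : Sides D.P) {l : ℕ} (e : Fin l → D.idx)

/-- The ordered product of root groups. -/
abbrev rprod : RedSub.pow (Red.Ga S) l ⟶ G := RedSub.prodMap (Red.Ga S) l fun k => D.u (e k)

/-- A point which is locally a product of root elements. -/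
def IsLocProd {X : Over S} (g : X ⟶ G) : Prop :=
  ∀ (Y : Over S) (π : Y ⟶ X) [IsAffine Y.left],
    ∃ c : Fin l → Γ(Y.left, ⊤), (affIso Y).hom ≫ π ≫ g =
      pe (Y.left.isoSpec.inv ≫ Y.hom) (fun k => D.u (e k)) c

theorem isLocProd_comp {X : Over S} (z : X ⟶ RedSub.pow (Red.Ga S) l) : IsLocProd D e (z ≫ rprod D e) := by
  intro Y π _
  obtain ⟨c, hc⟩ := exists_pw (Y.left.isoSpec.inv ≫ Y.hom) ((affIso Y).hom ≫ π ≫ z)
  exact ⟨c, by rw [← pw_prodMap, hc]; simp only [Category.assoc]⟩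

variable {e}

theorem mono_rprod (he : Function.Injective e) (hp : ∀ k, e k ∈ b.pos) : Mono (rprod D e) := by
  refine ⟨fun x y h => pow_ext fun k => ?_⟩
  rw [prodMap_eq, prodMap_eq] at h
  refine congrFun (prod_injective D b he hp (z := fun k => x ≫ prj S k) (z' := fun k => y ≫ prj S k) ?_) k
  simpa only [Category.assoc] using h

/-- **A point which is locally a product of root elements is one.** -/
theorem exists_lift_prod (he : Function.Injective e) (hp : ∀ k, e k ∈ b.pos) {X : Over S} {g : X ⟶ G}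
    (hg : IsLocProd D e g) : ∃ z : X ⟶ RedSub.pow (Red.Ga S) l, z ≫ rprod D e = g := by
  classical
  obtain ⟨l', e', hpos, -⟩ := exists_append_enum e he hp
  obtain ⟨nn, mm, eneg, epos₀, hneg, -⟩ := exists_enum D b
  have hgm := isGerm_cell D b hneg hpos
  haveI := mono_germ hgm
  haveI := isMonHom_i D
  haveI : ∀ k, IsMonHom ((fun k => D.u (eneg k)) k) := fun k => isMonHom_u D _
  haveI : ∀ k, IsMonHom ((fun k => D.u (e' k)) k) := fun k => isMonHom_u D _
  have hloc : ∀ (Y : Over S) (π : Y ⟶ X) [IsAffine Y.left], ∃ c : Fin l → Γ(Y.left, ⊤),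
      ((affIso Y).hom ≫ π ≫ g = pe (Y.left.isoSpec.inv ≫ Y.hom) (fun k => D.u (e k)) c) ∧
      (affIso Y).hom ≫ π ≫ g = cpt D (Y.left.isoSpec.inv ≫ Y.hom) (fun _ : Fin nn => (0 : Γ(Y.left, ⊤))) 1
        (Fin.append c fun _ => 0) ≫ RedSub.cellMap D eneg (Fin.append e e') := by
    intro Y π _
    obtain ⟨c, hc⟩ := hg Y π
    refine ⟨c, hc, ?_⟩
    rw [hc, cpt_cellMap, pe_zero, _root_.one_mul, MonObj.one_comp, _root_.one_mul,
      show (fun k => D.u (Fin.append e e' k)) = Fin.append (fun k => D.u (e k)) (fun k => D.u (e' k)) from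
        funext fun k => Fin.addCases (fun s => by simp) (fun s => by simp) k,
      pe_append, pe_zero, _root_.mul_one]
  obtain ⟨w, hw⟩ : InGerm (RedSub.cellMap D eneg (Fin.append e e')) g := by
    refine (inGerm_iff hgm g).2 ?_
    rintro _ ⟨s, rfl⟩
    obtain ⟨_, ⟨U, hU, rfl⟩, hsU, -⟩ := X.left.isBasis_affineOpens.exists_subset_of_mem_open (Set.mem_univ s) isOpen_univ
    let Y : Over S := Over.mk (Scheme.Opens.ι U ≫ X.hom)
    let π : Y ⟶ X := Over.homMk (Scheme.Opens.ι U) rfl
    haveI : IsAffine Y.left := hU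
    obtain ⟨c, -, hc⟩ := hloc Y π
    rw [← Iso.eq_inv_comp, ← Category.assoc (affIso Y).inv] at hc
    obtain ⟨w, hw⟩ : ∃ w, w ≫ RedSub.cellMap D eneg (Fin.append e e') = π ≫ g := ⟨_, hc.symm⟩
    refine ⟨w.left ⟨s, hsU⟩, ?_⟩
    exact ((Scheme.Hom.comp_apply _ _ _).symm.trans
      (congrArg (fun g : Y ⟶ G => g.left ⟨s, hsU⟩) hw)).trans (Scheme.Hom.comp_apply π.left g.left _)
  refine ⟨tup fun k => w ≫ snd _ _ ≫ snd _ _ ≫ prj S (Fin.castAdd l' k), ?_⟩
  refine Groth.Agent.BigCell.eq_of_affine fun Y π hY => ?_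
  haveI := hY
  refine (cancel_epi (affIso Y).hom).1 ?_
  obtain ⟨c, hc, hc'⟩ := hloc Y π
  have hw' : (affIso Y).hom ≫ π ≫ w = cpt D (Y.left.isoSpec.inv ≫ Y.hom) (fun _ : Fin nn => (0 : Γ(Y.left, ⊤))) 1
      (Fin.append c fun _ => 0) := by
    rw [← cancel_mono (RedSub.cellMap D eneg (Fin.append e e'))]
    simp only [Category.assoc, hw]
    exact hc'
  rw [hc, ← pw_prodMap, ← Category.assoc π, ← Category.assoc (affIso Y).hom, comp_tup, comp_tup, ← tup_pw]
  congr 2
  funext k
  have := congrArg (fun F => F ≫ snd _ _ ≫ snd _ _ ≫ prj S (Fin.castAdd l' k)) hw'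
  simpa only [cpt, lift_snd_assoc, pw_prj, Fin.append_left, Category.assoc] using this

/-! ## Closed sets of positive roots -/

/-- A root which is a combination of roots of the set with natural coefficients lies in it. -/
def IsSatur (e : Fin l → D.idx) : Prop :=
  ∀ (k : D.idx) (d : Fin l → ℕ), D.P.root k = ∑ i, (d i : ℤ) • D.P.root (e i) → k ∈ Set.range e

variable {D} in
/-- **Products over a closed set of positive roots are ordered products, polynomially.** -/
theorem exists_law (hs : IsSatur D e) (he : Function.Injective e) (hp : ∀ k, e k ∈ b.pos) {R : Type u} [CommRing R]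
    (a : Spec (CommRingCat.of R) ⟶ S) {L : ℕ} (f : Fin L → Fin l) :
    ∃ C : Fin l → MvPolynomial (Fin L) R,
      (∀ (A : Type u) [CommRing A] [Algebra R A] (v : Fin L → A),
        pe a (fun s => D.u (e (f s))) v = pe a (fun k => D.u (e k)) fun k => MvPolynomial.aeval v (C k)) ∧
      ∀ k d, (C k).coeff d ≠ 0 → D.P.root (e k) = ∑ s, (d s : ℤ) • D.P.root (e (f s)) := by
  classical
  obtain ⟨l', e', hpos, he'⟩ := exists_append_enum e he hp
  obtain ⟨nn, mm, eneg, epos₀, hneg, -⟩ := exists_enum D b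
  obtain ⟨c, hc, hw⟩ := coords_weight D b a hneg hpos (fun s => e (f s)) id (fun s => hp _) fun _ => (1 : R)
  haveI : ∀ k, IsMonHom ((fun k => D.u (e' k)) k) := fun k => isMonHom_u D _
  refine ⟨fun k => c (Fin.castAdd l' k), fun A _ _ v => ?_, fun k d hd => by simpa using hw _ d hd⟩
  have hrest : ∀ k, c (Fin.natAdd l k) = 0 := fun k => MvPolynomial.ext _ _ fun d => by
    rw [MvPolynomial.coeff_zero]
    by_contra hd
    have h1 := hw _ d hd
    rw [Fin.append_right] at h1
    refine he' k (hs _ (fun i => ∑ s, if f s = i then d s else 0) (h1.trans ?_))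
    simp only [Nat.cast_sum, Finset.sum_smul]
    rw [Finset.sum_comm]
    refine Finset.sum_congr rfl fun s _ => ?_
    rw [Finset.sum_eq_single (f s) (fun i _ hi => by rw [if_neg (Ne.symm hi)]; simp) (fun h => absurd (Finset.mem_univ _) h),
      if_pos rfl]
  have h := congrArg (fun F => aM a (MvPolynomial.aeval v) ≫ F) hc
  simp only [aM_pe, map_one, _root_.one_mul, id_eq, MvPolynomial.aeval_X] at h
  rw [h, show (fun k => D.u (Fin.append e e' k)) = Fin.append (fun k => D.u (e k)) (fun k => D.u (e' k)) from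
      funext fun k => Fin.addCases (fun s => by simp) (fun s => by simp) k,
    show (fun k => MvPolynomial.aeval v (c k)) =
      Fin.append (fun k => MvPolynomial.aeval v (c (Fin.castAdd l' k))) (fun _ => (0 : A)) from
      funext fun k => Fin.addCases (fun s => by simp) (fun s => by simp [hrest s]) k, pe_append, pe_zero,
    _root_.mul_one]

variable {D}

theorem isLocProd_one : IsLocProd D e (1 : RedSub.pow (Red.Ga S) l ⟶ G) := fun Y π _ => by
  haveI : ∀ k, IsMonHom ((fun k => D.u (e k)) k) := fun k => isMonHom_u D _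
  exact ⟨fun _ => 0, by rw [pe_zero, MonObj.comp_one, MonObj.comp_one]⟩

theorem isLocProd_mul (hs : IsSatur D e) (he : Function.Injective e) (hp : ∀ k, e k ∈ b.pos) {X : Over S}
    {g h : X ⟶ G} (hg : IsLocProd D e g) (hh : IsLocProd D e h) : IsLocProd D e (g * h) := by
  intro Y π _
  obtain ⟨x, hx⟩ := hg Y π
  obtain ⟨y, hy⟩ := hh Y π
  obtain ⟨C, hC, -⟩ := exists_law b hs he hp (Y.left.isoSpec.inv ≫ Y.hom) (Fin.append id id)
  refine ⟨fun k => MvPolynomial.aeval (Fin.append x y) (C k), ?_⟩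
  rw [← hC, MonObj.comp_mul, MonObj.comp_mul, hx, hy, ← pe_append]
  congr 1
  funext k
  refine Fin.addCases (fun s => ?_) (fun s => ?_) k
  · simp only [Fin.append_left, id_eq]
  · simp only [Fin.append_right, id_eq]

theorem pe_inv {R : Type u} [CommRing R] (a : Spec (CommRingCat.of R) ⟶ S) {A : Type u} [CommRing A] [Algebra R A]
    {n : ℕ} (p : Fin n → (Red.Ga S ⟶ G)) [∀ k, IsMonHom (p k)] (x : Fin n → A) :
    (pe a p x)⁻¹ = pe a (fun k => p k.rev) fun k => -x k.rev := by
  rw [pe, List.prod_inv_reverse, List.map_ofFn, pe]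
  congr 1
  refine List.ext_getElem (by simp) fun i h1 h2 => ?_
  simp only [List.getElem_reverse, List.getElem_ofFn, List.length_ofFn, Function.comp_apply]
  have hi : i < n := by simpa using h2
  rw [show (⟨n - 1 - i, by omega⟩ : Fin n) = (⟨i, hi⟩ : Fin n).rev from Fin.ext (by simp [Fin.val_rev]; omega)]
  exact (el_neg a (p (⟨i, hi⟩ : Fin n).rev) _).symm

theorem isLocProd_inv (hs : IsSatur D e) (he : Function.Injective e) (hp : ∀ k, e k ∈ b.pos) {X : Over S}
    {g : X ⟶ G} (hg : IsLocProd D e g) : IsLocProd D e g⁻¹ := by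
  intro Y π _
  haveI : ∀ k, IsMonHom ((fun k => D.u (e k)) k) := fun k => isMonHom_u D _
  obtain ⟨x, hx⟩ := hg Y π
  obtain ⟨C, hC, -⟩ := exists_law b hs he hp (Y.left.isoSpec.inv ≫ Y.hom) Fin.rev
  exact ⟨fun k => MvPolynomial.aeval (fun k => -x k.rev) (C k), by
    rw [← hC, GrpObj.comp_inv, GrpObj.comp_inv, hx, pe_inv]⟩

/-- **The subgroup of a closed set of positive roots.** -/
theorem exists_grpObj (hs : IsSatur D e) (he : Function.Injective e) (hp : ∀ k, e k ∈ b.pos) :
    ∃ _ : GrpObj (RedSub.pow (Red.Ga S) l), IsMonHom (rprod D e) := by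
  haveI := mono_rprod D b he hp
  let W := RedSub.pow (Red.Ga S) l
  let Sub : ∀ T : Over S, Subgroup (T ⟶ G) := fun T =>
    { carrier := {g | IsLocProd D e g}
      one_mem' := fun Y π _ => by
        haveI : ∀ k, IsMonHom ((fun k => D.u (e k)) k) := fun k => isMonHom_u D _
        exact ⟨fun _ => 0, by rw [pe_zero, MonObj.comp_one, MonObj.comp_one]⟩
      mul_mem' := fun ha hb => isLocProd_mul b hs he hp ha hb
      inv_mem' := fun ha => isLocProd_inv b hs he hp ha }
  let Φ : (Over S)ᵒᵖ ⥤ GrpCat.{u} :=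
    { obj := fun T => GrpCat.of (Sub T.unop)
      map := fun {T U} g => GrpCat.ofHom (MonoidHom.mk' (fun x => ⟨g.unop ≫ x.1, fun Y π _ => by
          obtain ⟨c, hc⟩ := x.2 Y (π ≫ g.unop)
          exact ⟨c, by rw [← hc]; simp only [Category.assoc]⟩⟩)
        fun x y => Subtype.ext (MonObj.comp_mul _ _ _))
      map_id := fun T => GrpCat.hom_ext (MonoidHom.ext fun x => Subtype.ext (Category.id_comp x.1))
      map_comp := fun g h => GrpCat.hom_ext (MonoidHom.ext fun x => Subtype.ext (Category.assoc _ _ _)) }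
  let α : (Φ ⋙ forget _).RepresentableBy W :=
    { homEquiv := fun {T} => Equiv.ofBijective (fun w => (⟨w ≫ rprod D e, isLocProd_comp D e w⟩ : Sub T))
        ⟨fun a b h => (cancel_mono (rprod D e)).1 (congrArg Subtype.val h), fun x => by
          obtain ⟨w, hw⟩ := exists_lift_prod D b he hp x.2
          exact ⟨w, Subtype.ext hw⟩⟩
      homEquiv_comp := fun h g => Subtype.ext (Category.assoc _ _ _) }
  letI grp : GrpObj W := GrpObj.ofRepresentableBy W Φ α
  have hμ : μ[W] ≫ rprod D e = (fst W W ≫ rprod D e) * (snd W W ≫ rprod D e) :=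
    congrArg Subtype.val (Equiv.apply_symm_apply (α.homEquiv (X := W ⊗ W)) _)
  exact ⟨grp, Groth.Agent.BigCell.isMonHom_of_mul' _ fun T x y => by
    rw [Hom.mul_def, Category.assoc, hμ, MonObj.comp_mul, lift_fst_assoc, lift_snd_assoc]⟩

/-- Any other order gives the same points. -/
theorem exists_iso (hs : IsSatur D e) (he : Function.Injective e) (hp : ∀ k, e k ∈ b.pos) {l₁ : ℕ}
    {e₁ : Fin l₁ → D.idx} (he₁ : Function.Injective e₁) (hr : Set.range e₁ = Set.range e) :
    ∃ ψ : RedSub.pow (Red.Ga S) l₁ ≅ RedSub.pow (Red.Ga S) l, ψ.hom ≫ rprod D e = rprod D e₁ := by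
  have hp₁ : ∀ k, e₁ k ∈ b.pos := fun k => by
    obtain ⟨j, hj⟩ : e₁ k ∈ Set.range e := hr ▸ ⟨k, rfl⟩
    exact hj ▸ hp j
  have hs₁ : IsSatur D e₁ := fun k d hd => by
    classical
    rw [hr]
    choose σ hσ using fun i => (hr ▸ ⟨i, rfl⟩ : e₁ i ∈ Set.range e)
    refine hs k (fun j => ∑ i, if σ i = j then d i else 0) (hd.trans ?_)
    simp only [Nat.cast_sum, Finset.sum_smul]
    rw [Finset.sum_comm]
    refine Finset.sum_congr rfl fun i _ => ?_
    rw [Finset.sum_eq_single (σ i) (fun j _ hj => by rw [if_neg (Ne.symm hj)]; simp) (fun h => absurd (Finset.mem_univ _) h),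
      if_pos rfl, hσ]
  have key : ∀ {l₂ : ℕ} {e₂ : Fin l₂ → D.idx} {l₃ : ℕ} {e₃ : Fin l₃ → D.idx}, IsSatur D e₃ → Function.Injective e₃ →
      (∀ k, e₃ k ∈ b.pos) → Set.range e₂ ⊆ Set.range e₃ →
      ∃ ψ : RedSub.pow (Red.Ga S) l₂ ⟶ RedSub.pow (Red.Ga S) l₃, ψ ≫ rprod D e₃ = rprod D e₂ := by
    intro l₂ e₂ l₃ e₃ hs₃ he₃ hp₃ hsub
    choose σ hσ using fun i => hsub ⟨i, rfl⟩
    refine exists_lift_prod D b he₃ hp₃ fun Y π _ => ?_
    obtain ⟨c, hc⟩ := isLocProd_comp D e₂ (𝟙 _) Y π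
    obtain ⟨C, hC, -⟩ := exists_law b hs₃ he₃ hp₃ (Y.left.isoSpec.inv ≫ Y.hom) σ
    refine ⟨fun k => MvPolynomial.aeval c (C k), ?_⟩
    rw [← hC, ← Category.id_comp (rprod D e₂), hc]
    congr 1
    funext k
    rw [hσ]
  obtain ⟨ψ, hψ⟩ := key hs he hp hr.le
  obtain ⟨φ, hφ⟩ := key hs₁ he₁ hp₁ hr.ge
  haveI := mono_rprod D b he hp
  haveI := mono_rprod D b he₁ hp₁
  exact ⟨⟨ψ, φ, by rw [← cancel_mono (rprod D e₁), Category.assoc, hφ, hψ, Category.id_comp],
    by rw [← cancel_mono (rprod D e), Category.assoc, hψ, hφ, Category.id_comp]⟩, hψ⟩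

/-- The torus normalises every product of root groups. -/
theorem exists_conj {X : Over S} (t : X ⟶ D.T) (x : X ⟶ RedSub.pow (Red.Ga S) l) :
    ∃ x' : X ⟶ RedSub.pow (Red.Ga S) l, (t ≫ D.i) * (x ≫ rprod D e) * (t ≫ D.i)⁻¹ = x' ≫ rprod D e := by
  refine ⟨tup fun k => ptOf (Red.gmFn (t ≫ D.split.hom.hom.hom ≫ Red.chi S (D.P.root (e k))) * Red.gaFn (x ≫ prj S k)), ?_⟩
  rw [prodMap_eq, prodMap_eq]
  have hh := map_list_prod (MulAut.conj (t ≫ D.i)).toMonoidHom (List.ofFn fun k => x ≫ prj S k ≫ D.u (e k))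
  rw [MulEquiv.coe_toMonoidHom, List.map_ofFn] at hh
  refine (MulAut.conj_apply _ _).symm.trans (hh.trans ?_)
  congr 2
  funext k
  show MulAut.conj (t ≫ D.i) (x ≫ prj S k ≫ D.u (e k)) = _
  rw [MulAut.conj_apply, ← Category.assoc x, rt_eq (D.u (e k)) (x ≫ prj S k) rfl, conj_torus]
  conv_rhs => rw [← Category.assoc, tup_prj]

end SplitCell

end
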