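import Groth.Agent.SplitCellLib.Unip
import Groth.Agent.BigCellLib.Commute

/-!
# The fibres of products of positive root groups are connected and contain no torus
-/

set_option autoImplicit false
set_option linter.style.haveILetI false
set_option backward.isDefEq.respectTransparency false
set_option maxHeartbeats 1000000
set_option synthInstance.maxHeartbeats 400000

universe u

open CategoryTheory CategoryTheory.Limits MonoidalCategory CartesianMonoidalCategory AlgebraicGeometry
open Groth.Agent.GaPts
open Groth.Agent.RankOne (eq_ptOf ptOf_add comp_ptOf)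
open Groth.Agent.HomRep (bcEquiv bcEquiv_mul bcEquiv_symm_mul)
open scoped MonObj

noncomputable section

namespace SplitCell

variable {S : Scheme.{u}}

/-- The geometric fibres of a power of `𝔾_a` are connected. -/
theorem connectedSpace_pow {K : Type u} [Field K] (g : Spec (CommRingCat.of K) ⟶ S) (n : ℕ) :
    ConnectedSpace (Red.bc g (RedSub.pow (Red.Ga S) n)).left := by
  let B := MvPolynomial (Fin n) K
  let P := pw g (fun k => (MvPolynomial.X k : B))
  let σ : Spec (CommRingCat.of B) ⟶ Spec (CommRingCat.of K) := Spec.map (CommRingCat.ofHom (algebraMap K B))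
  let q : Spec (CommRingCat.of B) ⟶ (Red.bc g (RedSub.pow (Red.Ga S) n)).left :=
    pullback.lift P.left σ (Over.w P)
  haveI : Surjective q := ⟨fun x => by
    let Q : Over S := Over.mk ((Red.bc g (RedSub.pow (Red.Ga S) n)).hom ≫ g)
    obtain ⟨L, _, _, a', p, hp⟩ := Groth.Agent.BigCell.exists_geomPt Q x
    let ψ := Spec.preimage (p.left ≫ pullback.snd (RedSub.pow (Red.Ga S) n).hom g)
    letI : Algebra K L := ψ.hom.toAlgebra
    have hψ : Spec.map (CommRingCat.ofHom (algebraMap K L)) = p.left ≫ pullback.snd (RedSub.pow (Red.Ga S) n).hom g := by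
      rw [RingHom.algebraMap_toAlgebra]
      exact Spec.map_preimage _
    let p₁ : aP g L ⟶ RedSub.pow (Red.Ga S) n := Over.homMk (p.left ≫ pullback.fst (RedSub.pow (Red.Ga S) n).hom g) (by
      show (p.left ≫ pullback.fst _ g) ≫ _ = Spec.map _ ≫ g
      rw [hψ, Category.assoc, pullback.condition, ← Category.assoc])
    obtain ⟨v, hv⟩ := exists_pw g p₁
    let φ : B →ₐ[K] L := MvPolynomial.aeval v
    have h1 : aM g φ ≫ P = p₁ := by
      show aM g φ ≫ pw g (fun k => (MvPolynomial.X k : B)) = p₁
      rw [← hv, ← tup_pw, ← tup_pw, comp_tup]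
      congr 1
      funext k
      rw [comp_ptOf, aM_cst, MvPolynomial.aeval_X]
    have h2 : Spec.map (CommRingCat.ofHom (φ : B →+* L)) ≫ q = p.left := by
      refine pullback.hom_ext ?_ ?_
      · rw [Category.assoc, pullback.lift_fst]
        exact congrArg (fun e : aP g L ⟶ _ => e.left) h1
      · rw [Category.assoc, pullback.lift_snd, ← hψ, ← Spec.map_comp, ← CommRingCat.ofHom_comp, φ.comp_algebraMap]
    refine ⟨Spec.map (CommRingCat.ofHom (φ : B →+* L)) (⊥ : PrimeSpectrum L), ?_⟩
    have h3 := (Scheme.Hom.comp_apply (Spec.map (CommRingCat.ofHom (φ : B →+* L))) q (⊥ : PrimeSpectrum L)).symm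
    rw [h2] at h3
    exact h3.trans (hp _)⟩
  haveI : IsDomain (MvPolynomial (Fin n) K) := inferInstance
  haveI hirr : IrreducibleSpace (PrimeSpectrum (MvPolynomial (Fin n) K)) := PrimeSpectrum.irreducibleSpace
  haveI : ConnectedSpace (Spec (CommRingCat.of B)) :=
    @IrreducibleSpace.connectedSpace (PrimeSpectrum (MvPolynomial (Fin n) K)) _ hirr
  exact q.surjective.connectedSpace q.continuous

variable {G : Over S} [GrpObj G] {D : Red.SplitRed G} (b : Sides D.P) {l : ℕ} {e : Fin l → D.idx}

/-- The coordinate of least weight of a product is additive. -/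
theorem prj_mul [GrpObj (RedSub.pow (Red.Ga S) l)] [IsMonHom (rprod D e)] (hs : IsSatur D e)
    (he : Function.Injective e) (hp : ∀ k, e k ∈ b.pos) (f : D.M →ₗ[ℤ] ℤ) (hf : ∀ i ∈ b.pos, 0 < f (D.P.root i))
    (k₀ : Fin l) {X : Over S} (x y : X ⟶ RedSub.pow (Red.Ga S) l)
    (hx : ∀ k, f (D.P.root (e k)) < f (D.P.root (e k₀)) → x ≫ prj S k = ptOf 0)
    (hy : ∀ k, f (D.P.root (e k)) < f (D.P.root (e k₀)) → y ≫ prj S k = ptOf 0) :
    (x * y) ≫ prj S k₀ = (x ≫ prj S k₀) * (y ≫ prj S k₀) := by
  classical
  haveI := isAffineHom_hom D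
  haveI : ∀ k, IsMonHom ((fun k => D.u (e k)) k) := fun k => isMonHom_u D _
  haveI : ∀ k, Mono ((fun k => D.u (e k)) k) := fun k => mono_u D _
  refine Groth.Agent.BigCell.eq_of_affine fun Y π hY => ?_
  haveI := hY
  let a := Y.left.isoSpec.inv ≫ Y.hom
  let A := Γ(Y.left, ⊤)
  let j := affIso Y
  refine (cancel_epi j.hom).1 ?_
  obtain ⟨u, hu⟩ := exists_pw a (j.hom ≫ π ≫ x)
  obtain ⟨v, hv⟩ := exists_pw a (j.hom ≫ π ≫ y)
  obtain ⟨w, hw⟩ := exists_pw a (j.hom ≫ π ≫ (x * y))
  obtain ⟨C, hC, hCw⟩ := exists_law b hs he hp a (Fin.append id id)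
  obtain ⟨g, hg⟩ := exists_injective_functional (fun k => D.P.root k) D.P.root.injective
  have hinj : ∀ {c c' : Fin l → A}, pe a (fun k => D.u (e k)) c = pe a (fun k => D.u (e k)) c' → c = c' := fun h =>
    pe_injective a (hasWeights_coch D f e) (fun k => hf _ (hp k)) (hasWeights_coch D g e) (hg.comp he) h
  have happ : ∀ c d : Fin l → A, pe a (fun k => D.u (e k)) c * pe a (fun k => D.u (e k)) d =
      pe a (fun k => D.u (e k)) fun k => MvPolynomial.aeval (Fin.append c d) (C k) := fun c d => by
    rw [← hC, ← pe_append]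
    congr 1
    funext k
    refine Fin.addCases (fun s => ?_) (fun s => ?_) k
    · simp only [Fin.append_left, id_eq]
    · simp only [Fin.append_right, id_eq]
  let h := f (D.P.root (e k₀))
  let dl : Fin (l + l) →₀ ℕ := Finsupp.single (Fin.castAdd l k₀) 1
  let dr : Fin (l + l) →₀ ℕ := Finsupp.single (Fin.natAdd l k₀) 1
  have hne : dl ≠ dr := fun hh => by
    have := Finsupp.single_left_injective (one_ne_zero : (1 : ℕ) ≠ 0) hh
    exact absurd (congrArg Fin.val this) (by simp; omega)
  have key : ∀ c d : Fin l → A, (∀ k, f (D.P.root (e k)) < h → c k = 0) → (∀ k, f (D.P.root (e k)) < h → d k = 0) →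
      MvPolynomial.aeval (Fin.append c d) (C k₀) = (C k₀).coeff dl • c k₀ + (C k₀).coeff dr • d k₀ := by
    intro c d hc hd
    conv_lhs => rw [(C k₀).as_sum, map_sum]
    rw [Finset.sum_subset (Finset.subset_union_left (s₂ := {dl, dr})) (fun m _ hm => by
        rw [MvPolynomial.notMem_support_iff.1 hm, map_zero, map_zero]),
      ← Finset.sum_subset (Finset.subset_union_right (s₁ := (C k₀).support) (s₂ := {dl, dr})) (fun m hm hm' => ?_),
      Finset.sum_pair hne]
    · simp only [dl, dr]
      rw [MvPolynomial.aeval_monomial, MvPolynomial.aeval_monomial, Finsupp.prod_fintype _ _ (fun t => pow_zero _),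
        Finsupp.prod_fintype _ _ (fun t => pow_zero _),
        Finset.prod_eq_single (Fin.castAdd l k₀) (fun t _ ht => by rw [Finsupp.single_eq_of_ne ht, pow_zero])
          (fun h => absurd (Finset.mem_univ _) h),
        Finset.prod_eq_single (Fin.natAdd l k₀) (fun t _ ht => by rw [Finsupp.single_eq_of_ne ht, pow_zero])
          (fun h => absurd (Finset.mem_univ _) h),
        Finsupp.single_eq_same, Finsupp.single_eq_same, pow_one, pow_one, Fin.append_left, Fin.append_right,
        Algebra.algebraMap_self, RingHom.id_apply, RingHom.id_apply]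
      rfl
    rw [Finset.mem_insert, Finset.mem_singleton, not_or] at hm'
    rw [MvPolynomial.aeval_monomial]
    by_cases hc0 : (C k₀).coeff m = 0
    · rw [hc0, map_zero, zero_mul]
    obtain ⟨s, hs0, hslow⟩ : ∃ s, m s ≠ 0 ∧ f (D.P.root (e (Fin.append id id s))) < h := by
      by_contra hno
      push_neg at hno
      have h1 := congrArg f (hCw k₀ m hc0)
      simp only [map_sum, map_zsmul, smul_eq_mul] at h1
      have hle : ∀ s, (m s : ℤ) * h ≤ (m s : ℤ) * f (D.P.root (e (Fin.append id id s))) := fun s => by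
        by_cases hs0 : m s = 0
        · simp [hs0]
        · exact mul_le_mul_of_nonneg_left (hno s hs0) (by positivity)
      have hsum : ((∑ s, m s : ℕ) : ℤ) * h ≤ 1 * h := by
        rw [_root_.one_mul, Nat.cast_sum, Finset.sum_mul]
        exact (Finset.sum_le_sum fun s _ => hle s).trans h1.ge
      have h1' : (∑ s, m s : ℕ) ≤ 1 := by exact_mod_cast le_of_mul_le_mul_right hsum (hf _ (hp k₀))
      obtain ⟨s, hs0⟩ : ∃ s, m s ≠ 0 := by
        by_contra hall
        push_neg at hall
        refine D.P.ne_zero (e k₀) ?_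
        rw [hCw k₀ m hc0]
        simp [hall]
      have hm : m = Finsupp.single s 1 := Finsupp.ext fun t => by
        have hsle := Finset.single_le_sum (f := fun s => m s) (fun _ _ => Nat.zero_le _) (Finset.mem_univ s)
        by_cases hts : t = s
        · subst hts
          rw [Finsupp.single_eq_same]
          omega
        · have h2 := Finset.add_le_sum (f := fun s => m s) (fun _ _ => Nat.zero_le _) (Finset.mem_univ s)
            (Finset.mem_univ t) (Ne.symm hts)
          rw [Finsupp.single_eq_of_ne hts]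
          omega
      have hroot := hCw k₀ m hc0
      rw [Finset.sum_eq_single s (fun t _ ht => by rw [hm, Finsupp.single_eq_of_ne ht]; simp)
        (fun h => absurd (Finset.mem_univ _) h), hm, Finsupp.single_eq_same, Nat.cast_one, one_smul] at hroot
      have hk := he (D.P.root.injective hroot)
      induction s using Fin.addCases with
      | left s' => rw [Fin.append_left, id_eq] at hk; subst hk; exact hm'.1 hm
      | right s' => rw [Fin.append_right, id_eq] at hk; subst hk; exact hm'.2 hm
    rw [Finsupp.prod_fintype _ _ (fun t => pow_zero _), Finset.prod_eq_zero (Finset.mem_univ s), mul_zero]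
    induction s using Fin.addCases with
    | left s' => rw [Fin.append_left] at hslow ⊢; rw [hc s' hslow, zero_pow hs0]
    | right s' => rw [Fin.append_right] at hslow ⊢; rw [hd s' hslow, zero_pow hs0]
  -- the coefficients are one
  let δ : Fin l → A := fun k => if k = k₀ then 1 else 0
  have hδ : ∀ k, f (D.P.root (e k)) < h → δ k = 0 := fun k hk => if_neg fun hh => by subst hh; exact lt_irrefl _ hk
  have hl : (C k₀).coeff dl • (1 : A) = 1 := by
    have h1 := congrFun (hinj (c' := δ) ((happ δ fun _ => 0).symm.trans (by rw [pe_zero, _root_.mul_one]))) k₀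
    rw [key δ _ hδ fun _ _ => rfl] at h1
    simpa [δ] using h1
  have hr : (C k₀).coeff dr • (1 : A) = 1 := by
    have h1 := congrFun (hinj (c' := δ) ((happ (fun _ => 0) δ).symm.trans (by rw [pe_zero, _root_.one_mul]))) k₀
    rw [key _ δ (fun _ _ => rfl) hδ] at h1
    simpa [δ] using h1
  -- the coordinates
  have hco : ∀ (z : X ⟶ RedSub.pow (Red.Ga S) l) (c : Fin l → A), pw a c = j.hom ≫ π ≫ z → ∀ k,
      ptOf (cst a A (c k)) = j.hom ≫ π ≫ z ≫ prj S k := fun z c hz k => by
    rw [← pw_prj a c k, hz]; simp only [Category.assoc]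
  have hlow : ∀ (z : X ⟶ RedSub.pow (Red.Ga S) l) (c : Fin l → A), pw a c = j.hom ≫ π ≫ z →
      (∀ k, f (D.P.root (e k)) < h → z ≫ prj S k = ptOf 0) → ∀ k, f (D.P.root (e k)) < h → c k = 0 := by
    intro z c hz hzl k hk
    have h1 := congrArg Red.gaFn (hco z c hz k)
    rw [hzl k hk, comp_ptOf, comp_ptOf, gaFn_ptOf, gaFn_ptOf, map_zero, map_zero] at h1
    exact (cst_bijective a).1 (h1.trans (map_zero _).symm)
  have hmul : w k₀ = u k₀ + v k₀ := by
    have h1 : pe a (fun k => D.u (e k)) w = pe a (fun k => D.u (e k)) u * pe a (fun k => D.u (e k)) v := by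
      rw [← pw_prodMap, ← pw_prodMap, ← pw_prodMap, hu, hv, hw, Category.assoc, Category.assoc, Category.assoc,
        Category.assoc, Category.assoc, Category.assoc, MonObj.mul_comp, MonObj.comp_mul, MonObj.comp_mul]
    have h2 := congrFun (hinj (h1.trans (happ u v))) k₀
    rw [key u v (hlow x u hu hx) (hlow y v hv hy)] at h2
    rw [h2, ← _root_.mul_one (u k₀), ← _root_.mul_one (v k₀), ← mul_smul_comm, ← mul_smul_comm, hl, hr]
  rw [MonObj.comp_mul, MonObj.comp_mul, ← hco _ u hu, ← hco _ v hv, ← hco _ w hw, hmul, map_add, ptOf_add]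

/-- **A subgroup of positive root groups contains no torus.** -/
theorem hasNoSubtorus_rprod [GrpObj (RedSub.pow (Red.Ga S) l)] [IsMonHom (rprod D e)] (hs : IsSatur D e)
    (he : Function.Injective e) (hp : ∀ k, e k ∈ b.pos) {K : Type u} [Field K] (g : Spec (CommRingCat.of K) ⟶ S) :
    Red.HasNoSubtorus K (Red.bc g (RedSub.pow (Red.Ga S) l)) := by
  intro H _ j _ _ hH
  have hmt : SGA3x.IsMultTypeFT H := by
    obtain ⟨S', p, h1, h2, h3, hloc⟩ := hH
    refine ⟨S', p, h1, h2, h3, fun z => ?_⟩
    obtain ⟨U, hU, r, h⟩ := hloc z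
    exact ⟨U, hU, Fin r → ℤ, inferInstance, Module.Finite.iff_addGroup_fg.1 inferInstance, h⟩
  obtain ⟨f, hf, -⟩ := b.regular
  haveI := mono_rprod D b he hp
  let W := RedSub.pow (Red.Ga S) l
  let jS : (Over.map g).obj H ⟶ W := (bcEquiv g W H).symm j
  have hjS : ∀ (Y : Over (Spec (CommRingCat.of K))) (a : Y ⟶ H),
      (Over.map g).map a ≫ jS = (bcEquiv g W Y).symm (a ≫ j) := fun Y a =>
    ((Over.mapPullbackAdj g).homEquiv_naturality_left_symm a j).symm
  suffices hall : ∀ (N : ℕ) (k : Fin l), (f (D.P.root (e k))).toNat < N → jS ≫ prj S k = ptOf 0 by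
    have h0 : jS = tup fun _ => ptOf 0 := pow_ext fun k => by
      rw [tup_prj]
      exact hall _ k (Nat.lt_succ_self _)
    have h1 : jS = 1 := by
      rw [← cancel_mono (rprod D e), h0, MonObj.one_comp, prodMap_eq]
      refine List.prod_eq_one fun p hp => ?_
      obtain ⟨k, rfl⟩ := List.mem_ofFn.1 hp
      haveI := isMonHom_u D (e k)
      rw [← Category.assoc, tup_prj]
      exact Groth.Agent.BigCell.rt_zero _
    have h2 : j = 1 := by
      apply (bcEquiv g W H).symm.injective
      show jS = _
      rw [h1]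
      have := bcEquiv_symm_mul g W H 1 1
      rw [_root_.one_mul] at this
      exact (left_eq_mul.1 this).symm
    have h2' : (toUnit H ≫ η[H]) = 𝟙 H := by
      rw [← cancel_mono j, h2]
      simp only [MonObj.comp_one, Category.id_comp]
    haveI : IsIso (toUnit H) := ⟨η[H], h2', toUnit_unique _ _⟩
    have h3 : H.hom = (toUnit H).left := ((Over.w (toUnit H)).symm.trans (Category.comp_id _))
    show IsIso H.hom
    rw [h3]
    exact inferInstanceAs (IsIso ((Over.forget _).map (toUnit H)))
  intro N
  induction N with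
  | zero => exact fun k hk => absurd hk (Nat.not_lt_zero _)
  | succ N ih =>
    intro k₀ hk₀
    have hlow : ∀ k, f (D.P.root (e k)) < f (D.P.root (e k₀)) → jS ≫ prj S k = ptOf 0 := fun k hk => ih k (by
      have := hf _ (hp k)
      have := hf _ (hp k₀)
      omega)
    let φ : H ⟶ Red.Ga (Spec (CommRingCat.of K)) :=
      ptOf (Red.gaFn (S := S) (X := (Over.map g).obj H) (jS ≫ prj S k₀))
    have hval : ∀ (Y : Over (Spec (CommRingCat.of K))) (a : Y ⟶ H), Red.gaFn (a ≫ φ) =
        Red.gaFn (S := S) (X := (Over.map g).obj Y) ((Over.map g).map a ≫ jS ≫ prj S k₀) := fun Y a => by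
      rw [gaFn_comp, gaFn_ptOf, gaFn_comp]
      rfl
    haveI : IsMonHom φ := Groth.Agent.RedRank.isMonHom_of_mul _ fun Y a c => by
      refine gaFn_injective ?_
      show Red.gaFn _ = Red.gaFn _
      rw [gaFn_mul (a ≫ φ) (c ≫ φ), hval, hval, hval, ← gaFn_mul ((Over.map g).map a ≫ jS ≫ prj S k₀)]
      congr 1
      have e1 : (Over.map g).map (a * c) ≫ jS = ((Over.map g).map a ≫ jS) * ((Over.map g).map c ≫ jS) := by
        rw [hjS, hjS, hjS, MonObj.mul_comp, bcEquiv_symm_mul]
      simp only [← Category.assoc]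
      rw [e1]
      refine prj_mul b hs he hp f hf k₀ _ _ (fun k hk => ?_) fun k hk => ?_ <;>
        rw [Category.assoc, hlow k hk, comp_ptOf, map_zero]
    have h1 := congrArg Red.gaFn (Groth.Agent.MultHom.eq_one φ hmt)
    rw [gaFn_ptOf] at h1
    refine eq_ptOf _ (h1.trans ?_)
    have h2 := gaFn_mul (1 : H ⟶ Red.Ga (Spec (CommRingCat.of K))) 1
    rw [_root_.one_mul] at h2
    exact left_eq_add.1 h2

end SplitCell

end
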