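import Groth.Agent.SplitCellLib.Open

/-!
# The big cell does not depend on the orders of the roots

Over an algebraically closed field an element contracted by a cocharacter lies in the big cell, being a limit of
points conjugate to it tending to the identity.
-/

set_option autoImplicit false
set_option linter.style.haveILetI false
set_option backward.isDefEq.respectTransparency false
set_option maxHeartbeats 1000000

universe u

open CategoryTheory CategoryTheory.Limits MonoidalCategory CartesianMonoidalCategory AlgebraicGeometry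
open scoped MonObj

noncomputable section

namespace SplitCell

variable {S : Scheme.{u}} {G : Over S} [GrpObj G] (D : Red.SplitRed G) (b : Sides D.P)

/-- An open immersion of points: lifting a point landing in the image. -/
theorem exists_lift_of_range {X Y : Over S} (j : Y ⟶ G) [IsOpenImmersion j.left] (g : X ⟶ G)
    (h : Set.range g.left ⊆ Set.range j.left) : ∃ l : X ⟶ Y, l ≫ j = g :=
  ⟨Over.homMk (IsOpenImmersion.lift j.left g.left h) (by
      rw [← Over.w j, ← Category.assoc, IsOpenImmersion.lift_fac, Over.w]),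
    Over.OverMorphism.ext (IsOpenImmersion.lift_fac _ _ _)⟩

variable {n m : ℕ} {eneg : Fin n → D.idx} {epos : Fin m → D.idx} {K : Type u} [Field K]
  (a : Spec (CommRingCat.of K) ⟶ S)

theorem conj_cell (f : D.M →ₗ[ℤ] ℤ) (z : Kˣ) (y : Fin n → K) (t : aP a K ⟶ D.T) (x : Fin m → K) :
    gel a (coch D f) z * (pe a (fun k => D.u (eneg k)) y * ((t ≫ D.i) * pe a (fun k => D.u (epos k)) x)) *
        (gel a (coch D f) z)⁻¹ =
      pe a (fun k => D.u (eneg k)) (fun k => ((z ^ f (D.P.root (eneg k)) : Kˣ) : K) * y k) *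
        ((t ≫ D.i) * pe a (fun k => D.u (epos k)) (fun k => ((z ^ f (D.P.root (epos k)) : Kˣ) : K) * x k)) := by
  rw [← conj_pe a (hasWeights_coch D f eneg) z y, ← conj_pe a (hasWeights_coch D f epos) z x]
  have hc : gel a (coch D f) z * (t ≫ D.i) * (gel a (coch D f) z)⁻¹ = t ≫ D.i := by
    rw [gel, (commute_coch D f _ t).eq, mul_inv_cancel_right]
  conv_rhs => rw [← hc]
  group

variable [Infinite K]

/-- **A contracted point lies in the cell.** -/
theorem mem_cell (hneg : RedSub.Enumerates b.neg eneg)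
    (hpos : RedSub.Enumerates b.pos epos) (f : D.M →ₗ[ℤ] ℤ) {l : ℕ} (e : Fin l → D.idx)
    (he : ∀ k, 0 < f (D.P.root (e k))) (v : Fin l → K) :
    ∃ y t x, pe a (fun k => D.u (e k)) v =
      pe a (fun k => D.u (eneg k)) y * ((t ≫ D.i) * pe a (fun k => D.u (epos k)) x) := by
  haveI := isOpenImmersion_cellMap D b hneg hpos
  haveI : ∀ k, IsMonHom ((fun k => D.u (e k)) k) := fun k => isMonHom_u D _
  let Ω := (RedSub.cellMap D eneg epos).left
  let X₁ : aP a (Polynomial K) ⟶ G :=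
    pe a (fun k => D.u (e k)) fun k => Polynomial.X ^ (f (D.P.root (e k))).toNat * cC K K (v k)
  let U : (Spec (CommRingCat.of (Polynomial K))).Opens := X₁.left ⁻¹ᵁ Ω.opensRange
  have hev : ∀ c : K, aM a (evA (R := K) c) ≫ X₁ =
      pe a (fun k => D.u (e k)) fun k => c ^ (f (D.P.root (e k))).toNat * v k := fun c => by
    rw [aM_pe]
    congr 1
    funext k
    simp [map_mul, map_pow, evA_X, evA_cC]
  let pt : K → Spec (CommRingCat.of (Polynomial K)) := fun c =>
    Spec.map (CommRingCat.ofHom ((evA (R := K) c) : Polynomial K →+* K)) (⊥ : PrimeSpectrum K)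
  have hzero : pt 0 ∈ U := by
    show X₁.left (pt 0) ∈ Ω.opensRange
    have h1 : aM a (evA (R := K) (0 : K)) ≫ X₁ = 1 := by
      rw [hev]
      have : (fun k => (0 : K) ^ (f (D.P.root (e k))).toNat * v k) = fun _ => 0 := funext fun k => by
        have := he k
        rw [zero_pow (by omega), zero_mul]
      rw [this, pe_zero]
    haveI := isMonHom_i D
    haveI : ∀ k, IsMonHom ((fun k => D.u (eneg k)) k) := fun k => isMonHom_u D _
    haveI : ∀ k, IsMonHom ((fun k => D.u (epos k)) k) := fun k => isMonHom_u D _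
    have h2 : (cpt D a (fun _ : Fin n => (0 : K)) 1 (fun _ : Fin m => (0 : K))) ≫ RedSub.cellMap D eneg epos = 1 := by
      rw [cpt_cellMap, pe_zero, pe_zero, MonObj.one_comp, _root_.one_mul, _root_.one_mul]
    refine ⟨(cpt D a (fun _ : Fin n => (0 : K)) 1 (fun _ : Fin m => (0 : K))).left (⊥ : PrimeSpectrum K), ?_⟩
    have h3 := h1.trans h2.symm
    exact ((Scheme.Hom.comp_apply _ _ _).symm.trans
      (congrArg (fun g : aP a K ⟶ G => g.left (⊥ : PrimeSpectrum K)) h3.symm)).trans (Scheme.Hom.comp_apply _ _ _)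
  obtain ⟨_, ⟨F, rfl⟩, hF0, hFU⟩ := PrimeSpectrum.isTopologicalBasis_basic_opens.exists_subset_of_mem_open hzero U.2
  have hF : F ≠ 0 := by
    rintro rfl
    exact hF0 (Ideal.zero_mem _)
  obtain ⟨c, hc⟩ : ∃ c : K, (F * Polynomial.X).eval c ≠ 0 := by
    by_contra h
    push_neg at h
    exact mul_ne_zero hF Polynomial.X_ne_zero (Polynomial.zero_of_eval_zero _ h)
  rw [Polynomial.eval_mul, Polynomial.eval_X, mul_ne_zero_iff] at hc
  have hmem : pt c ∈ U := hFU (by
    show evA (R := K) c F ∉ (⊥ : Ideal K)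
    rw [Ideal.mem_bot]
    exact hc.1)
  obtain ⟨w, hw⟩ := exists_lift_of_range (RedSub.cellMap D eneg epos) (aM a (evA (R := K) c) ≫ X₁) (by
    rintro _ ⟨z, rfl⟩
    rw [Subsingleton.elim (α := PrimeSpectrum K) z ⊥, Over.comp_left, Scheme.Hom.comp_apply]
    exact hmem)
  obtain ⟨y, t, x, rfl⟩ := exists_cpt D a w
  rw [cpt_cellMap, hev] at hw
  let z : Kˣ := (Units.mk0 c hc.2)⁻¹
  refine ⟨fun k => ((z ^ f (D.P.root (eneg k)) : Kˣ) : K) * y k, t,
    fun k => ((z ^ f (D.P.root (epos k)) : Kˣ) : K) * x k, ?_⟩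
  rw [← conj_cell, hw, conj_pe a (hasWeights_coch D f e)]
  congr 1
  funext k
  obtain ⟨d, hd⟩ := Int.eq_ofNat_of_zero_le (he k).le
  rw [hd, Int.toNat_natCast, zpow_natCast, Units.val_pow_eq_pow_val, ← mul_assoc, ← mul_pow]
  simp [z, hc.2]

/-- Products over other orders of the positive roots are products over the given one. -/
theorem reorder_pos (hneg : RedSub.Enumerates b.neg eneg)
    (hpos : RedSub.Enumerates b.pos epos) {l : ℕ} (e : Fin l → D.idx)
    (he : ∀ k, e k ∈ b.pos) (v : Fin l → K) :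
    ∃ x, pe a (fun k => D.u (e k)) v = pe a (fun k => D.u (epos k)) x := by
  haveI := isAffineHom_hom D
  haveI : ∀ k, IsMonHom ((fun k => D.u (eneg k)) k) := fun k => isMonHom_u D _
  haveI : ∀ k, IsMonHom ((fun k => D.u (epos k)) k) := fun k => isMonHom_u D _
  haveI : ∀ k, IsMonHom ((fun k => D.u (e k)) k) := fun k => isMonHom_u D _
  obtain ⟨f, hf₁, hf₂⟩ := b.regular
  obtain ⟨y, t, x, h⟩ := mem_cell D b a hneg hpos f e (fun k => hf₁ _ (he k)) v
  have l1 := lim_pe_neg a (hasWeights_coch D f eneg) (fun k => hf₂ _ (hneg.2 ▸ ⟨k, rfl⟩)) y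
  have l2 : Lim a (coch D f) (toT K K) (pe a (fun k => D.u (eneg k)) y) (1 * ((1 : aP a K ⟶ G)⁻¹ * (t ≫ D.i)⁻¹)) := by
    rw [show pe a (fun k => D.u (eneg k)) y = pe a (fun k => D.u (e k)) v *
      ((pe a (fun k => D.u (epos k)) x)⁻¹ * (t ≫ D.i)⁻¹) by rw [h]; group]
    exact Lim.mul a (lim_pe_pos a (hasWeights_coch D f e) (fun k => hf₁ _ (he k)) v)
      (Lim.mul a (Lim.inv a (lim_pe_pos a (hasWeights_coch D f epos) (fun k => hf₁ _ (hpos.2 ▸ ⟨k, rfl⟩)) x))
        (Lim.inv a (lim_torus D a f _ rfl t)))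
  obtain ⟨e1, e2⟩ := eq_of_lim a l2 l1
  refine ⟨x, ?_⟩
  simp only [inv_one, _root_.one_mul] at e1
  rw [h, ← e2] at *
  rw [inv_eq_one.1 (e1.trans e2.symm), _root_.one_mul, _root_.one_mul]

/-- Products over other orders of the negative roots are products over the given one. -/
theorem reorder_neg (hneg : RedSub.Enumerates b.neg eneg)
    (hpos : RedSub.Enumerates b.pos epos) {l : ℕ} (e : Fin l → D.idx)
    (he : ∀ k, e k ∈ b.neg) (v : Fin l → K) :
    ∃ y, pe a (fun k => D.u (e k)) v = pe a (fun k => D.u (eneg k)) y := by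
  haveI := isAffineHom_hom D
  haveI : ∀ k, IsMonHom ((fun k => D.u (eneg k)) k) := fun k => isMonHom_u D _
  haveI : ∀ k, IsMonHom ((fun k => D.u (epos k)) k) := fun k => isMonHom_u D _
  haveI : ∀ k, IsMonHom ((fun k => D.u (e k)) k) := fun k => isMonHom_u D _
  obtain ⟨f, hf₁, hf₂⟩ := b.regular
  obtain ⟨y, t, x, h⟩ := mem_cell D b a hneg hpos (-f) e (fun k => by simpa using hf₂ _ (he k)) v
  have l1 := lim_pe_pos a (hasWeights_coch D f epos) (fun k => hf₁ _ (hpos.2 ▸ ⟨k, rfl⟩)) x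
  have l2 : Lim a (coch D f) (toTinv K K) (pe a (fun k => D.u (epos k)) x) ((t ≫ D.i)⁻¹ * ((1 : aP a K ⟶ G)⁻¹ * 1)) := by
    rw [show pe a (fun k => D.u (epos k)) x = (t ≫ D.i)⁻¹ * ((pe a (fun k => D.u (eneg k)) y)⁻¹ *
      pe a (fun k => D.u (e k)) v) by rw [h]; group]
    exact Lim.mul a (Lim.inv a (lim_torus D a f _ toTinv_comp_cC t))
      (Lim.mul a (Lim.inv a (lim_pe_neg a (hasWeights_coch D f eneg) (fun k => hf₂ _ (hneg.2 ▸ ⟨k, rfl⟩)) y))
        (lim_pe_neg a (hasWeights_coch D f e) (fun k => hf₂ _ (he k)) v))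
  obtain ⟨e1, e2⟩ := eq_of_lim a l1 l2
  refine ⟨y, ?_⟩
  simp only [inv_one, _root_.mul_one] at e2
  rw [h, ← e1] at *
  rw [inv_eq_one.1 (e2.trans e1.symm), _root_.mul_one, _root_.mul_one]

omit [Infinite K] in
theorem range_subset {n' m' : ℕ} {eneg' : Fin n' → D.idx} {epos' : Fin m' → D.idx}
    (hneg : RedSub.Enumerates b.neg eneg) (hpos : RedSub.Enumerates b.pos epos)
    (hneg' : ∀ k, eneg' k ∈ b.neg) (hpos' : ∀ k, epos' k ∈ b.pos) :
    Set.range (RedSub.cellMap D eneg' epos').left ⊆ Set.range (RedSub.cellMap D eneg epos).left := by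
  rintro _ ⟨x, rfl⟩
  obtain ⟨L, _, _, a, p, hp⟩ := Groth.Agent.BigCell.exists_geomPt _ x
  let j : aP a L ⟶ Groth.Agent.BigCell.fieldPt L a := Over.homMk (𝟙 _) (by
    show 𝟙 _ ≫ a = Spec.map (CommRingCat.ofHom (algebraMap L L)) ≫ a
    rw [Algebra.algebraMap_self, CommRingCat.ofHom_id, Spec.map_id])
  haveI : Infinite L := IsAlgClosed.instInfinite
  obtain ⟨y, t, v, hv⟩ := exists_cpt D a (j ≫ p)
  obtain ⟨y₁, hy₁⟩ := reorder_neg D b a hneg hpos eneg' hneg' y
  obtain ⟨v₁, hv₁⟩ := reorder_pos D b a hneg hpos epos' hpos' v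
  refine ⟨(cpt D a y₁ t v₁).left (⊥ : PrimeSpectrum L), ?_⟩
  have h : cpt D a y₁ t v₁ ≫ RedSub.cellMap D eneg epos = (j ≫ p) ≫ RedSub.cellMap D eneg' epos' := by
    rw [← hv, cpt_cellMap, cpt_cellMap, hy₁, hv₁]
  have h' := congrArg (fun g : aP a L ⟶ G => g.left (⊥ : PrimeSpectrum L)) h
  rw [Over.comp_left, Scheme.Hom.comp_apply, Over.comp_left, Scheme.Hom.comp_apply, Over.comp_left,
    Scheme.Hom.comp_apply, hp] at h'
  exact h'

end SplitCell

end
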