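import Groth.Agent.SplitCellLib.Center
import Groth.Agent.SplitCellLib.Combination
import Mathlib.Algebra.MvPolynomial.Eval

/-!
# Root groups commute when the sum of the roots is not a root

A commutator of positive root elements is an ordered product of positive root elements; its coordinates are
polynomials of prescribed weight, and there is no root of that weight.
-/

set_option autoImplicit false
set_option linter.style.haveILetI false
set_option backward.isDefEq.respectTransparency false
set_option maxHeartbeats 1000000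

universe u

open CategoryTheory CategoryTheory.Limits MonoidalCategory CartesianMonoidalCategory AlgebraicGeometry
open Groth.Agent.GaPts
open scoped MonObj LaurentPolynomial

noncomputable section

namespace SplitCell

open Groth.Agent.BigCell (rt rt_eq comp_rt)

variable {S : Scheme.{u}} {G : Over S} [GrpObj G] (D : Red.SplitRed G) (b : Sides D.P)
  {R : Type u} [CommRing R] (a : Spec (CommRingCat.of R) ⟶ S) {A : Type u} [CommRing A] [Algebra R A]

/-- Any product of positive root elements is an ordered product over every ring. -/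
theorem factors_pos {n m : ℕ} {eneg : Fin n → D.idx} {epos : Fin m → D.idx}
    (hneg : RedSub.Enumerates b.neg eneg) (hpos : RedSub.Enumerates b.pos epos) {l : ℕ} (e : Fin l → D.idx)
    (he : ∀ k, e k ∈ b.pos) (v : Fin l → A) :
    ∃ x, pe a (fun k => D.u (e k)) v = pe a (fun k => D.u (epos k)) x := by
  haveI := isAffineHom_hom D
  haveI := isMonHom_i D
  haveI : ∀ k, IsMonHom ((fun k => D.u (eneg k)) k) := fun k => isMonHom_u D _
  haveI : ∀ k, IsMonHom ((fun k => D.u (epos k)) k) := fun k => isMonHom_u D _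
  haveI : ∀ k, IsMonHom ((fun k => D.u (e k)) k) := fun k => isMonHom_u D _
  haveI := isOpenImmersion_cellMap D b hneg hpos
  obtain ⟨w, hw⟩ := exists_lift_of_range (RedSub.cellMap D eneg epos) (pe a (fun k => D.u (e k)) v) (by
    rintro _ ⟨z, rfl⟩
    obtain ⟨L, _, _, a', p, hp⟩ := Groth.Agent.BigCell.exists_geomPt _ z
    let j : aP a' L ⟶ Groth.Agent.BigCell.fieldPt L a' := Over.homMk (𝟙 _) (by
      show 𝟙 _ ≫ a' = Spec.map (CommRingCat.ofHom (algebraMap L L)) ≫ a'
      rw [Algebra.algebraMap_self, CommRingCat.ofHom_id, Spec.map_id])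
    haveI : Infinite L := IsAlgClosed.instInfinite
    obtain ⟨v', hv'⟩ := exists_pw a' ((j ≫ p) ≫ pw a v)
    obtain ⟨x, hx⟩ := reorder_pos D b a' hneg hpos e he v'
    refine ⟨(cpt D a' (fun _ : Fin n => (0 : L)) 1 x).left (⊥ : PrimeSpectrum L), ?_⟩
    have h : cpt D a' (fun _ : Fin n => (0 : L)) 1 x ≫ RedSub.cellMap D eneg epos =
        (j ≫ p) ≫ pe a (fun k => D.u (e k)) v := by
      rw [cpt_cellMap, pe_zero, MonObj.one_comp, _root_.one_mul, _root_.one_mul, ← hx, ← pw_prodMap a', hv',
        Category.assoc, pw_prodMap]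
    have h' := congrArg (fun g : aP a' L ⟶ G => g.left (⊥ : PrimeSpectrum L)) h
    rw [Over.comp_left, Scheme.Hom.comp_apply, Over.comp_left, Scheme.Hom.comp_apply, Over.comp_left,
      Scheme.Hom.comp_apply, hp] at h'
    exact h')
  obtain ⟨y, t, x, rfl⟩ := exists_cpt D a w
  rw [cpt_cellMap] at hw
  obtain ⟨f, hf₁, hf₂⟩ := b.regular
  have l1 := lim_pe_neg a (hasWeights_coch D f eneg) (fun k => hf₂ _ (hneg.2 ▸ ⟨k, rfl⟩)) y
  have l2 : Lim a (coch D f) (toT R A) (pe a (fun k => D.u (eneg k)) y) (1 * ((1 : aP a A ⟶ G)⁻¹ * (t ≫ D.i)⁻¹)) := by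
    rw [show pe a (fun k => D.u (eneg k)) y = pe a (fun k => D.u (e k)) v *
      ((pe a (fun k => D.u (epos k)) x)⁻¹ * (t ≫ D.i)⁻¹) by rw [← hw]; group]
    exact Lim.mul a (lim_pe_pos a (hasWeights_coch D f e) (fun k => hf₁ _ (he k)) v)
      (Lim.mul a (Lim.inv a (lim_pe_pos a (hasWeights_coch D f epos) (fun k => hf₁ _ (hpos.2 ▸ ⟨k, rfl⟩)) x))
        (Lim.inv a (lim_torus D a f _ rfl t)))
  obtain ⟨e1, e2⟩ := eq_of_lim a l2 l1
  refine ⟨x, ?_⟩
  simp only [inv_one, _root_.one_mul] at e1
  rw [← hw, ← e2] at *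
  rw [inv_eq_one.1 (e1.trans e2.symm), _root_.one_mul, _root_.one_mul]

/-- Substitution of multiples of the variables. -/
def scaleXY (z : Fin 2 → ℤ) : MvPolynomial (Fin 2) R →ₐ[R] (MvPolynomial (Fin 2) R)[T;T⁻¹] :=
  MvPolynomial.aeval fun i => ((unitT (MvPolynomial (Fin 2) R) ^ z i : ((MvPolynomial (Fin 2) R)[T;T⁻¹])ˣ) :
    (MvPolynomial (Fin 2) R)[T;T⁻¹]) * toT R _ (cC R _ (MvPolynomial.X i))

theorem unitT_zpow (P : Type u) [CommRing P] (k : ℤ) :
    ((unitT P ^ k : (P[T;T⁻¹])ˣ) : P[T;T⁻¹]) = LaurentPolynomial.T k := by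
  induction k using Int.induction_on with
  | zero => simp
  | succ i hi => rw [zpow_add_one, Units.val_mul, hi, unitT_val, ← LaurentPolynomial.T_add]
  | pred i hi =>
    have e : (unitT P)⁻¹.val = LaurentPolynomial.T (-1) := by
      refine Units.inv_eq_of_mul_eq_one_right ?_
      rw [unitT_val, ← LaurentPolynomial.T_add]; simp
    rw [zpow_sub_one, Units.val_mul, hi, e, ← LaurentPolynomial.T_add, sub_eq_add_neg]

theorem toT_cC {P : Type u} [CommRing P] [Algebra R P] (c : P) :
    toT R P (cC R P c) = AddMonoidAlgebra.single 0 c := by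
  show Polynomial.toLaurent (Polynomial.C c) = _
  rw [Polynomial.toLaurent_C]; rfl

theorem scaleXY_monomial (z : Fin 2 → ℤ) (d : Fin 2 →₀ ℕ) (c : R) :
    scaleXY z (MvPolynomial.monomial d c) =
      AddMonoidAlgebra.single ((d 0 : ℤ) * z 0 + (d 1 : ℤ) * z 1) (MvPolynomial.monomial d c) := by
  rw [MvPolynomial.monomial_eq, map_mul, Finsupp.prod_fintype _ _ (fun i => pow_zero _), Fin.prod_univ_two, map_mul,
    map_pow, map_pow]
  simp only [scaleXY, MvPolynomial.aeval_X, MvPolynomial.aeval_C, unitT_zpow, toT_cC, LaurentPolynomial.T,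
    AddMonoidAlgebra.single_mul_single, AddMonoidAlgebra.single_pow, _root_.one_mul, add_zero]
  rw [show algebraMap R (MvPolynomial (Fin 2) R)[T;T⁻¹] c = AddMonoidAlgebra.single 0 (MvPolynomial.C c) from rfl,
    AddMonoidAlgebra.single_mul_single]
  congr 1
  simp

theorem coeff_scaleXY (z : Fin 2 → ℤ) (p : MvPolynomial (Fin 2) R) (N : ℤ) (d : Fin 2 →₀ ℕ) :
    ((scaleXY z p).coeff N).coeff d = if (d 0 : ℤ) * z 0 + (d 1 : ℤ) * z 1 = N then p.coeff d else 0 := by
  induction p using MvPolynomial.induction_on' with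
  | monomial d' c =>
    classical
    rw [scaleXY_monomial, AddMonoidAlgebra.coeff_single, Finsupp.single_apply, MvPolynomial.coeff_monomial]
    split_ifs with h1 h2 h3 h4 <;> try simp_all [MvPolynomial.coeff_monomial]
    rintro rfl
    exact absurd h1 h2
  | add p q hp hq =>
    rw [map_add, AddMonoidAlgebra.coeff_add, Finsupp.add_apply, MvPolynomial.coeff_add, hp, hq, MvPolynomial.coeff_add]
    split_ifs <;> simp

theorem coeff_killVar (i : Fin 2) (p : MvPolynomial (Fin 2) R) (d : Fin 2 →₀ ℕ) (hd : d i = 0) :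
    (MvPolynomial.aeval (R := R) (fun j => if j = i then (0 : MvPolynomial (Fin 2) R) else MvPolynomial.X j) p).coeff d =
      p.coeff d := by
  induction p using MvPolynomial.induction_on' with
  | monomial d' c =>
    classical
    rcases Nat.eq_zero_or_pos (d' i) with h | h
    · congr 1
      rw [MvPolynomial.monomial_eq, map_mul, map_finsuppProd, MvPolynomial.aeval_C]
      congr 1
      refine Finsupp.prod_congr fun j hj => ?_
      rw [map_pow, MvPolynomial.aeval_X, if_neg]
      intro e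
      exact (Finsupp.mem_support_iff.1 hj) (e ▸ h)
    · have h0 : MvPolynomial.aeval (R := R) (fun j => if j = i then (0 : MvPolynomial (Fin 2) R) else MvPolynomial.X j)
          (MvPolynomial.monomial d' c) = 0 := by
        rw [MvPolynomial.monomial_eq, map_mul, map_finsuppProd, Finsupp.prod,
          Finset.prod_eq_zero (Finsupp.mem_support_iff.2 h.ne'), mul_zero]
        simp [h.ne']
      rw [h0, MvPolynomial.coeff_zero, MvPolynomial.coeff_monomial, if_neg]
      intro e
      exact h.ne' (e ▸ hd)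
  | add p q hp hq => rw [map_add, MvPolynomial.coeff_add, MvPolynomial.coeff_add, hp, hq]

variable {α β : D.idx} (h0 : D.P.root α + D.P.root β ≠ 0) (hab : D.P.root α + D.P.root β ∉ Set.range D.P.root)
include h0 hab

/-- The universal commutator is trivial. -/
theorem comm_poly : Commute (el a (D.u α) (MvPolynomial.X 0 : MvPolynomial (Fin 2) R))
    (el a (D.u β) (MvPolynomial.X 1 : MvPolynomial (Fin 2) R)) := by
  classical
  let P := MvPolynomial (Fin 2) R
  haveI := isAffineHom_hom D
  obtain ⟨σ, hα, hβ⟩ := exists_sides_pos D.P h0 hab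
  obtain ⟨n, m, eneg, epos, hneg, hpos⟩ := exists_enum D σ
  haveI := isMonHom_u D α
  haveI := isMonHom_u D β
  haveI : ∀ k, IsMonHom ((fun k => D.u (epos k)) k) := fun k => isMonHom_u D _
  haveI : ∀ k, Mono ((fun k => D.u (epos k)) k) := fun k => mono_u D _
  let x : Fin 2 → P := MvPolynomial.X
  let v : Fin 4 → P := ![x 0, x 1, -x 0, -x 1]
  let e : Fin 4 → D.idx := ![α, β, α, β]
  have he : ∀ k, e k ∈ σ.pos := fun k => by fin_cases k <;> assumption
  obtain ⟨c, hc⟩ := factors_pos D σ a hneg hpos e he v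
  obtain ⟨f, hf₁, -⟩ := σ.regular
  obtain ⟨g, hg⟩ := exists_injective_functional (fun k => D.P.root k) D.P.root.injective
  have hfp : ∀ k, 0 < f (D.P.root (epos k)) := fun k => hf₁ _ (hpos.2 ▸ ⟨k, rfl⟩)
  have hw : ∀ mu : D.M →ₗ[ℤ] ℤ, ∀ k, scaleXY ![mu (D.P.root α), mu (D.P.root β)] (c k) =
      ((unitT P ^ mu (D.P.root (epos k)) : (P[T;T⁻¹])ˣ) : P[T;T⁻¹]) * toT R P (cC R P (c k)) := by
    intro mu
    refine congrFun (pe_injective a (hasWeights_coch D f epos) hfp (hasWeights_coch D g epos) (hg.comp hpos.1) ?_)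
    rw [← aM_pe, ← hc, ← conj_pe a (hasWeights_coch D mu epos),
      show (fun k => toT R P (cC R P (c k))) = fun k => ((toT R P).comp (cC R P)) (c k) from rfl, ← aM_pe, ← hc, aM_pe,
      aM_pe, conj_pe a (hasWeights_coch D mu e)]
    congr 1
    funext k
    fin_cases k <;> simp [v, x, e, scaleXY, P] <;> ring
  have hkill : ∀ (i : Fin 2) k, MvPolynomial.aeval (R := R)
      (fun j => if j = i then (0 : P) else MvPolynomial.X j) (c k) = 0 := by
    intro i
    refine congrFun (pe_injective a (hasWeights_coch D f epos) hfp (hasWeights_coch D g epos) (hg.comp hpos.1) ?_)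
    rw [pe_zero, ← aM_pe, ← hc, aM_pe]
    simp only [pe_succ, pe_zero_len, e, v, x]
    fin_cases i <;> simp [el_zero, el_neg, _root_.mul_assoc]
  have hzero : c = 0 := by
    funext k
    refine MvPolynomial.ext _ _ fun d => ?_
    rw [Pi.zero_apply, MvPolynomial.coeff_zero]
    by_contra hd
    have hd0 : ∀ i, 1 ≤ d i := fun i => by
      by_contra hi
      have h1 := coeff_killVar i (c k) d (by omega)
      rw [hkill, MvPolynomial.coeff_zero] at h1
      exact hd h1.symm
    refine no_combination D.P h0 hab (epos k) (d 0) (d 1) (hd0 0) (hd0 1) (sub_eq_zero.1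
      ((Module.forall_dual_apply_eq_zero_iff ℤ _).1 fun mu => ?_))
    have h1 := congrArg (fun F : P[T;T⁻¹] => (F.coeff (mu (D.P.root (epos k)))).coeff d) (hw mu k)
    simp only [unitT_zpow, toT_cC, LaurentPolynomial.T, AddMonoidAlgebra.single_mul_single,
      _root_.one_mul, add_zero, AddMonoidAlgebra.coeff_single, Finsupp.single_eq_same] at h1
    rw [map_sub, map_add, map_smul, map_smul, sub_eq_zero]
    replace h1 := (coeff_scaleXY _ _ _ _).symm.trans h1
    split_ifs at h1 with h2
    · simpa using h2.symm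
    · exact absurd h1.symm hd
  rw [hzero, show (0 : Fin m → P) = fun _ => 0 from rfl, pe_zero] at hc
  simp only [pe_succ, pe_zero_len, e, v, x, el_neg, Matrix.cons_val_zero, Matrix.cons_val_succ, Fin.succ_zero_eq_one,
    Matrix.cons_val_one, _root_.mul_one] at hc
  rw [commute_iff_eq, ← mul_inv_eq_one]
  simpa only [mul_inv_rev, _root_.mul_assoc] using hc

/-- Values of the two root homomorphisms commute. -/
theorem comm_el_ring {A : Type u} [CommRing A] [Algebra R A] (r s : A) :
    el a (D.u α) r * el a (D.u β) s = el a (D.u β) s * el a (D.u α) r := by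
  have h := congrArg (fun g => aM a (MvPolynomial.aeval ![r, s]) ≫ g) (comm_poly D a h0 hab).eq
  simpa only [MonObj.comp_mul, aM_el, MvPolynomial.aeval_X, Matrix.cons_val_zero, Matrix.cons_val_one] using h

/-- **Root groups commute.** -/
theorem comm_rootGroups {X : Over S} (x y : X ⟶ Red.Ga S) :
    (x ≫ D.u α) * (y ≫ D.u β) = (y ≫ D.u β) * (x ≫ D.u α) := by
  refine Groth.Agent.BigCell.eq_of_affine fun Y π hY => ?_
  haveI := hY
  refine (cancel_epi (affIso Y).hom).1 ?_
  let a₀ : Spec (CommRingCat.of Γ(Y.left, ⊤)) ⟶ S := Y.left.isoSpec.inv ≫ Y.hom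
  let j : aP a₀ Γ(Y.left, ⊤) ⟶ X := (affIso Y).hom ≫ π
  obtain ⟨r, hr⟩ := (cst_bijective a₀).2 (Red.gaFn (j ≫ x))
  obtain ⟨s, hs⟩ := (cst_bijective a₀).2 (Red.gaFn (j ≫ y))
  have hx : j ≫ x ≫ D.u α = el a₀ (D.u α) r := by rw [← Category.assoc]; exact rt_eq _ _ hr.symm
  have hy : j ≫ y ≫ D.u β = el a₀ (D.u β) s := by rw [← Category.assoc]; exact rt_eq _ _ hs.symm
  rw [← Category.assoc (affIso Y).hom, ← Category.assoc (affIso Y).hom π]
  rw [MonObj.comp_mul, MonObj.comp_mul, hx, hy]
  have h := congrArg (fun g => aM a₀ (MvPolynomial.aeval ![r, s]) ≫ g) (comm_poly D a₀ h0 hab).eq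
  simpa only [MonObj.comp_mul, aM_el, MvPolynomial.aeval_X, Matrix.cons_val_zero, Matrix.cons_val_one] using h

end SplitCell

end
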