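import Groth.Agent.SplitCellLib.Split

/-!
# The big cell is a monomorphism
-/

set_option autoImplicit false
set_option linter.style.haveILetI false
set_option backward.isDefEq.respectTransparency false
set_option maxHeartbeats 1000000

universe u

open CategoryTheory CategoryTheory.Limits MonoidalCategory CartesianMonoidalCategory AlgebraicGeometry
open Groth.Agent.GaPts
open scoped MonObj

noncomputable section

namespace SplitCell

variable {S : Scheme.{u}} {G : Over S} [GrpObj G] (D : Red.SplitRed G) (b : Sides D.P)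

/-- An enumeration of a set of roots with weights of a given sign. -/
theorem exists_weights :
    ∃ f g : D.M →ₗ[ℤ] ℤ, (∀ k ∈ b.pos, 0 < f (D.P.root k)) ∧
      (∀ k ∈ b.neg, f (D.P.root k) < 0) ∧ Function.Injective (g ∘ D.P.root) := by
  obtain ⟨f, h1, h2⟩ := b.regular
  obtain ⟨g, hg⟩ := exists_injective_functional (fun k => D.P.root k) D.P.root.injective
  exact ⟨f, g, h1, h2, hg⟩

variable {n m : ℕ} {eneg : Fin n → D.idx} {epos : Fin m → D.idx} {R : Type u} [CommRing R]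
  (a : Spec (CommRingCat.of R) ⟶ S) {A : Type u} [CommRing A] [Algebra R A]

/-- The point of the source of the cell map with given coordinates. -/
def cpt (y : Fin n → A) (t : aP a A ⟶ D.T) (x : Fin m → A) :
    aP a A ⟶ RedSub.pow (Red.Ga S) n ⊗ (D.T ⊗ RedSub.pow (Red.Ga S) m) :=
  lift (pw a y) (lift t (pw a x))

theorem cpt_cellMap (y : Fin n → A) (t : aP a A ⟶ D.T) (x : Fin m → A) :
    cpt D a y t x ≫ RedSub.cellMap D eneg epos =
      pe a (fun k => D.u (eneg k)) y * ((t ≫ D.i) * pe a (fun k => D.u (epos k)) x) := by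
  rw [cpt, RedSub.cellMap, MonObj.comp_mul, MonObj.comp_mul, lift_fst_assoc, lift_snd_assoc, lift_fst_assoc,
    lift_snd_assoc, lift_snd_assoc, pw_prodMap, pw_prodMap]

theorem exists_cpt (z : aP a A ⟶ RedSub.pow (Red.Ga S) n ⊗ (D.T ⊗ RedSub.pow (Red.Ga S) m)) :
    ∃ y t x, cpt D a y t x = z := by
  obtain ⟨y, hy⟩ := exists_pw a (z ≫ fst _ _)
  obtain ⟨x, hx⟩ := exists_pw a (z ≫ snd _ _ ≫ snd _ _)
  refine ⟨y, z ≫ snd _ _ ≫ fst _ _, x, ?_⟩
  rw [cpt, hy, hx, ← comp_lift, ← comp_lift, lift_comp_fst_snd, lift_fst_snd, Category.comp_id]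

theorem isAffineHom_hom (D : Red.SplitRed G) : IsAffineHom G.hom := D.reductive.1

/-- A torus point has itself as its limit. -/
theorem lim_torus (f : D.M →ₗ[ℤ] ℤ) (φ : Polynomial A →ₐ[R] LaurentPolynomial A)
    (hφ : φ.comp (cC R A) = (toT R A).comp (cC R A)) (t : aP a A ⟶ D.T) :
    Lim a (coch D f) φ (t ≫ D.i) (t ≫ D.i) := by
  refine lim_of_commute a hφ ?_
  rw [gel, ← Category.assoc]
  exact commute_coch D f _ _

/-- **Uniqueness of the coordinates in the big cell.** -/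
theorem cell_inj (hneg : RedSub.Enumerates b.neg eneg)
    (hpos : RedSub.Enumerates b.pos epos) {y y' : Fin n → A} {t t' : aP a A ⟶ D.T}
    {x x' : Fin m → A}
    (h : pe a (fun k => D.u (eneg k)) y * ((t ≫ D.i) * pe a (fun k => D.u (epos k)) x) =
      pe a (fun k => D.u (eneg k)) y' * ((t' ≫ D.i) * pe a (fun k => D.u (epos k)) x')) :
    y = y' ∧ t = t' ∧ x = x' := by
  haveI := isAffineHom_hom D
  haveI : ∀ k, IsMonHom ((fun k => D.u (eneg k)) k) := fun k => isMonHom_u D _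
  haveI : ∀ k, IsMonHom ((fun k => D.u (epos k)) k) := fun k => isMonHom_u D _
  haveI : ∀ k, Mono ((fun k => D.u (eneg k)) k) := fun k => mono_u D _
  haveI : ∀ k, Mono ((fun k => D.u (epos k)) k) := fun k => mono_u D _
  haveI := mono_i D
  obtain ⟨f, g, hf₁, hf₂, hg⟩ := exists_weights D b
  have hwn := hasWeights_coch D f eneg
  have hwp := hasWeights_coch D f epos
  have hpn : ∀ k, f (D.P.root (eneg k)) < 0 := fun k => hf₂ _ (hneg.2 ▸ ⟨k, rfl⟩)
  have hpp : ∀ k, 0 < f (D.P.root (epos k)) := fun k => hf₁ _ (hpos.2 ▸ ⟨k, rfl⟩)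
  let L := (pe a (fun k => D.u (eneg k)) y')⁻¹ * pe a (fun k => D.u (eneg k)) y
  let Rr := (t' ≫ D.i) * (pe a (fun k => D.u (epos k)) x' * (pe a (fun k => D.u (epos k)) x)⁻¹) * (t ≫ D.i)⁻¹
  have hLR : L = Rr := by
    have h' := congrArg (fun e => e * (pe a (fun k => D.u (epos k)) x)⁻¹ * (t ≫ D.i)⁻¹) h
    simp only [_root_.mul_assoc, mul_inv_cancel_left, mul_inv_cancel, _root_.mul_one] at h'
    simp only [L, Rr, inv_mul_eq_iff_eq_mul, _root_.mul_assoc]
    exact h'
  have l1 : Lim a (coch D f) (toTinv R A) L (1⁻¹ * 1) :=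
    Lim.mul a (Lim.inv a (lim_pe_neg a hwn hpn y')) (lim_pe_neg a hwn hpn y)
  have l2 : Lim a (coch D f) (toT R A) Rr ((t' ≫ D.i) * (1 * 1⁻¹) * (t ≫ D.i)⁻¹) :=
    Lim.mul a (Lim.mul a (lim_torus D a f _ rfl t') (Lim.mul a (lim_pe_pos a hwp hpp x') (Lim.inv a (lim_pe_pos a hwp hpp x))))
      (Lim.inv a (lim_torus D a f _ rfl t))
  rw [hLR] at l1
  obtain ⟨e1, e2⟩ := eq_of_lim a l2 l1
  simp only [inv_one, _root_.one_mul, _root_.mul_one] at e1 e2
  have et : t = t' := ((cancel_mono D.i).1 (mul_inv_eq_one.1 (e1.trans e2.symm))).symm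
  subst et
  have ey : pe a (fun k => D.u (eneg k)) y' = pe a (fun k => D.u (eneg k)) y :=
    inv_mul_eq_one.1 (hLR.trans e2.symm)
  rw [ey] at h
  have hgi : ∀ (l : ℕ) (e : Fin l → D.idx), Function.Injective e →
      Function.Injective fun k => g (D.P.root (e k)) := fun l e he => hg.comp he
  refine ⟨?_, rfl, ?_⟩
  · exact (pe_injective a (hasWeights_coch D (-f) eneg) (fun k => by simpa using hpn k) (hasWeights_coch D g eneg)
      (hgi _ _ hneg.1) ey).symm
  · exact pe_injective a hwp hpp (hasWeights_coch D g epos) (hgi _ _ hpos.1) (mul_left_cancel (mul_left_cancel h))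

theorem mono_cellMap (hneg : RedSub.Enumerates b.neg eneg)
    (hpos : RedSub.Enumerates b.pos epos) : Mono (RedSub.cellMap D eneg epos) := by
  refine ⟨fun g h e => Groth.Agent.BigCell.eq_of_affine fun Y π hY => ?_⟩
  haveI := hY
  let R₀ := Γ(Y.left, ⊤)
  let a₀ : Spec (CommRingCat.of R₀) ⟶ S := Y.left.isoSpec.inv ≫ Y.hom
  let j : aP a₀ R₀ ≅ Y := Over.isoMk (Y.left.isoSpec.symm) (by
    show Y.left.isoSpec.inv ≫ Y.hom = Spec.map (CommRingCat.ofHom (algebraMap R₀ R₀)) ≫ a₀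
    rw [Algebra.algebraMap_self, CommRingCat.ofHom_id, Spec.map_id, Category.id_comp])
  refine (cancel_epi j.hom).1 ?_
  obtain ⟨y, t, x, hg⟩ := exists_cpt D a₀ (j.hom ≫ π ≫ g)
  obtain ⟨y', t', x', hh⟩ := exists_cpt D a₀ (j.hom ≫ π ≫ h)
  have e1 : cpt D a₀ y t x ≫ RedSub.cellMap D eneg epos = cpt D a₀ y' t' x' ≫ RedSub.cellMap D eneg epos := by
    rw [hg, hh]
    simp only [Category.assoc, e]
  rw [cpt_cellMap, cpt_cellMap] at e1
  obtain ⟨rfl, rfl, rfl⟩ := cell_inj D b a₀ hneg hpos e1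
  exact hg.symm.trans hh

end SplitCell

end
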