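import Groth.Agent.SplitCellLib.Weights

/-!
# The commutation formula for two positive root groups
-/

set_option autoImplicit false
set_option linter.style.haveILetI false
set_option backward.isDefEq.respectTransparency false
set_option maxHeartbeats 1000000

universe u

open CategoryTheory CategoryTheory.Limits MonoidalCategory CartesianMonoidalCategory AlgebraicGeometry
open Groth.Agent.GaPts
open scoped MonObj

noncomputable section

namespace SplitCell

open Groth.Agent.BigCell (rt rt_eq comp_rt)

section Coord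

variable {S : Scheme.{u}} {R : Type u} [CommRing R] (a : Spec (CommRingCat.of R) ⟶ S) {A : Type u} [CommRing A]
  [Algebra R A]

/-- A coordinate of a power of `𝔾_a`. -/
def prj (S : Scheme.{u}) : {n : ℕ} → Fin n → (RedSub.pow (Red.Ga S) n ⟶ Red.Ga S)
  | 0, k => k.elim0
  | _ + 1, k => Fin.cases (fst _ _) (fun j => snd _ _ ≫ prj S j) k

theorem pw_prj {n : ℕ} (v : Fin n → A) (k : Fin n) : pw a v ≫ prj S k = ptOf (cst a A (v k)) := by
  induction n with
  | zero => exact k.elim0
  | succ n ih =>
    induction k using Fin.cases with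
    | zero => exact lift_fst _ _
    | succ j => exact (lift_snd_assoc _ _ _).trans (ih (fun k => v k.succ) j)

end Coord

variable {S : Scheme.{u}} {G : Over S} [GrpObj G] (D : Red.SplitRed G) (b : Sides D.P)

/-- Proportional roots differ by a factor at most two. -/
theorem ratio_roots {idx M N : Type} [AddCommGroup M] [AddCommGroup N] (P : RootPairing idx ℤ M N) {i j : idx}
    {p q : ℤ} (hp : 0 < p) (hq : 0 < q) (h : p • P.root i = q • P.root j) : p = q ∨ p = 2 * q ∨ q = 2 * p := by
  have h1 := congrArg (P.coroot' i) h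
  have h2 := congrArg (P.coroot' j) h
  simp only [map_zsmul, P.root_coroot'_eq_pairing, P.pairing_same, smul_eq_mul] at h1 h2
  have hA : 0 < P.pairing j i := by nlinarith
  have hB : 0 < P.pairing i j := by nlinarith
  have hAB : P.pairing j i * P.pairing i j = 4 := by
    have : p * q * (P.pairing j i * P.pairing i j) = p * q * 4 := by
      linear_combination (q * P.pairing j i) * h2 + (-2 * q) * h1
    exact mul_left_cancel₀ (by positivity) this
  have hA4 : P.pairing j i ≤ 4 := by nlinarith
  interval_cases hA' : P.pairing j i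
  · omega
  · omega
  · omega
  · omega

section Formula

variable {R : Type u} [CommRing R] (a : Spec (CommRingCat.of R) ⟶ S) {α β : D.idx}

/-- The commutator. -/
def cm {A : Type u} [CommRing A] [Algebra R A] (α β : D.idx) (x y : A) : aP a A ⟶ G :=
  el a (D.u β) (-y) * (el a (D.u α) x * (el a (D.u β) y * el a (D.u α) (-x)))

theorem aM_cm {A A' : Type u} [CommRing A] [Algebra R A] [CommRing A'] [Algebra R A'] (φ : A →ₐ[R] A') (x y : A) :
    aM a φ ≫ cm D a α β x y = cm D a α β (φ x) (φ y) := by
  simp only [cm, MonObj.comp_mul, aM_el, map_neg]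

variable {n : ℕ} (e : Fin n → D.idx) (i j : Fin n → ℕ)

theorem exists_coefficients (hα : α ∈ b.pos) (hβ : β ∈ b.pos) (he : Function.Injective e)
    (hij : ∀ k, 1 ≤ i k ∧ 1 ≤ j k ∧ D.P.root (e k) = (i k : ℤ) • D.P.root α + (j k : ℤ) • D.P.root β)
    (hall : ∀ (c : D.idx) (p q : ℕ), 1 ≤ p → 1 ≤ q → D.P.root c = (p : ℤ) • D.P.root α + (q : ℤ) • D.P.root β →
      c ∈ Set.range e) :
    ∃ C : Fin n → R, ∀ (A : Type u) [CommRing A] [Algebra R A] (x y : A),
      cm D a α β x y = pe a (fun k => D.u (e k)) (fun k => algebraMap R A (C k) * x ^ i k * y ^ j k) := by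
  classical
  haveI := isAffineHom_hom D
  haveI := isMonHom_u D α
  haveI := isMonHom_u D β
  obtain ⟨f, hf₁, hf₂⟩ := b.regular
  have hek : ∀ k, e k ∈ b.pos := fun k => (b.total (e k)).resolve_right fun h => by
    have h1 := hf₂ _ h
    obtain ⟨h2, h3, h4⟩ := hij k
    rw [h4, map_add, map_zsmul, map_zsmul, smul_eq_mul, smul_eq_mul] at h1
    nlinarith [hf₁ α hα, hf₁ β hβ]
  haveI : ∀ k, IsMonHom ((fun k => D.u (e k)) k) := fun k => isMonHom_u D _
  by_cases hind : ∀ p q : ℤ, p • D.P.root α + q • D.P.root β = 0 → p = 0 ∧ q = 0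
  swap
  · refine ⟨fun _ => 0, fun A _ _ x y => ?_⟩
    rw [show (fun k => algebraMap R A 0 * x ^ i k * y ^ j k) = fun _ => (0 : A) from funext fun k => by simp, pe_zero]
    have hc : el a (D.u α) x * el a (D.u β) y = el a (D.u β) y * el a (D.u α) x := by
      by_cases hab : α = β
      · subst hab
        rw [← el_add, ← el_add, add_comm]
      · push_neg at hind
        obtain ⟨p, q, hpq, hne⟩ := hind
        have hfa := hf₁ α hα
        have hfb := hf₁ β hβ
        obtain ⟨p', q', hp', hq', hpq'⟩ : ∃ p' q' : ℤ, 0 < p' ∧ 0 < q' ∧ p' • D.P.root α = q' • D.P.root β := by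
          have h1 := congrArg f hpq
          simp only [map_add, map_zsmul, map_zero, smul_eq_mul] at h1
          rcases lt_trichotomy p 0 with hp | rfl | hp
          · exact ⟨-p, q, by omega, by nlinarith, by rw [neg_smul, eq_comm, ← add_eq_zero_iff_eq_neg, add_comm, hpq]⟩
          · exact absurd ((mul_eq_zero.1 (by simpa using h1)).resolve_right hfb.ne') (hne rfl)
          · exact ⟨p, -q, hp, by nlinarith, by rw [neg_smul, ← add_eq_zero_iff_eq_neg, hpq]⟩
        refine comm_el_ring D a (fun h0 => ?_) (fun ⟨gm, hgm⟩ => ?_) x y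
        · have := congrArg f h0
          rw [map_add, map_zero] at this
          omega
        · rcases ratio_roots D.P hp' hq' hpq' with h | h | h
          · subst h
            exact hab (D.P.root.injective (smul_right_injective D.M hp'.ne' hpq'))
          · subst h
            rw [mul_comm, mul_smul] at hpq'
            have h2 := smul_right_injective D.M hq'.ne' hpq'
            have h3 : (1 : ℤ) • D.P.root gm = (3 : ℤ) • D.P.root α := by rw [one_smul, hgm, ← h2]; module
            rcases ratio_roots D.P one_pos (show (0 : ℤ) < 3 by norm_num) h3 with h' | h' | h' <;> omega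
          · subst h
            rw [mul_comm, mul_smul] at hpq'
            have h2 := smul_right_injective D.M hp'.ne' hpq'
            have h3 : (1 : ℤ) • D.P.root gm = (3 : ℤ) • D.P.root β := by rw [one_smul, hgm, h2]; module
            rcases ratio_roots D.P one_pos (show (0 : ℤ) < 3 by norm_num) h3 with h' | h' | h' <;> omega
    rw [cm, ← _root_.mul_assoc (el a (D.u α) x), hc, el_neg, el_neg]
    group
  obtain ⟨l', e', hpos, he'⟩ := exists_append_enum e he hek
  obtain ⟨nn, mm, eneg, epos₀, hneg, -⟩ := exists_enum D b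
  obtain ⟨c, hc, hw⟩ := coords_weight D b a hneg hpos (![α, β]) (![1, 0, 1, 0] : Fin 4 → Fin 2)
    (fun k => by fin_cases k <;> assumption) (![-1, 1, 1, -1] : Fin 4 → R)
  have hcm : cm D a α β (MvPolynomial.X 0 : MvPolynomial (Fin 2) R) (MvPolynomial.X 1) =
      pe a (fun k => D.u (Fin.append e e' k)) c := by
    rw [← hc]
    simp [cm, pe_succ, pe_zero_len]
  haveI : ∀ k, IsMonHom ((fun k => D.u (Fin.append e e' k)) k) := fun k => isMonHom_u D _
  haveI : ∀ k, Mono ((fun k => D.u (Fin.append e e' k)) k) := fun k => mono_u D _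
  obtain ⟨g, hg⟩ := exists_injective_functional (fun k => D.P.root k) D.P.root.injective
  have hkill : ∀ (t : Fin 2) k, MvPolynomial.aeval (R := R)
      (fun s => if s = t then (0 : MvPolynomial (Fin 2) R) else MvPolynomial.X s) (c k) = 0 := by
    intro t
    refine congrFun (pe_injective a (hasWeights_coch D f (Fin.append e e')) (fun k => hf₁ _ (hpos.2 ▸ ⟨k, rfl⟩))
      (hasWeights_coch D g (Fin.append e e')) (hg.comp hpos.1) ?_)
    rw [pe_zero, ← aM_pe, ← hcm, aM_cm]
    fin_cases t <;> simp [cm, el_zero, el_neg]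
  have hmem : ∀ k d, (c k).coeff d ≠ 0 →
      ∃ k', k = Fin.castAdd l' k' ∧ i k' = d 0 ∧ j k' = d 1 := by
    intro k d hd
    have hd0 : ∀ t, 1 ≤ d t := fun t => by
      by_contra ht
      have h1 := coeff_killVar t (c k) d (by omega)
      rw [hkill, MvPolynomial.coeff_zero] at h1
      exact hd h1.symm
    have h1 := hw k d hd
    rw [Fin.sum_univ_two] at h1
    obtain ⟨k', hk'⟩ := hall _ (d 0) (d 1) (hd0 0) (hd0 1) h1
    have hk : Fin.castAdd l' k' = k := hpos.1 (by simpa using hk')
    subst hk
    obtain ⟨-, -, h2⟩ := hij k'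
    rw [Fin.append_left] at h1
    have h3 := hind ((i k' : ℤ) - d 0) ((j k' : ℤ) - d 1) (by
      have h4 := h2.symm.trans h1
      simp only [Matrix.cons_val_zero, Matrix.cons_val_one] at h4
      rw [sub_smul, sub_smul, sub_add_sub_comm, h4, sub_self])
    exact ⟨k', rfl, by omega, by omega⟩
  let dd : Fin n → (Fin 2 →₀ ℕ) := fun k => Finsupp.equivFunOnFinite.symm ![i k, j k]
  have hrest : (fun k => c (Fin.natAdd n k)) = fun _ => 0 := funext fun k => MvPolynomial.ext _ _ fun d => by
    rw [MvPolynomial.coeff_zero]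
    by_contra hd
    obtain ⟨k', hk', -⟩ := hmem _ d hd
    have := congrArg Fin.val hk'
    simp at this
    omega
  have hlead : ∀ k, c (Fin.castAdd l' k) = MvPolynomial.monomial (dd k) ((c (Fin.castAdd l' k)).coeff (dd k)) := by
    intro k
    refine MvPolynomial.ext _ _ fun d => ?_
    rw [MvPolynomial.coeff_monomial]
    split_ifs with h
    · rw [h]
    · by_contra hd
      obtain ⟨k', hk', h0, h1⟩ := hmem _ d hd
      obtain rfl : k = k' := Fin.castAdd_injective n l' hk'
      exact h (Finsupp.ext fun t => by fin_cases t <;> simp [dd, h0, h1])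
  refine ⟨fun k => (c (Fin.castAdd l' k)).coeff (dd k), fun A _ _ x y => ?_⟩
  have h := congrArg (fun F => aM a (MvPolynomial.aeval ![x, y]) ≫ F) hcm
  simp only [aM_cm, MvPolynomial.aeval_X, Matrix.cons_val_zero, Matrix.cons_val_one, aM_pe] at h
  rw [h, show (fun k => D.u (Fin.append e e' k)) = Fin.append (fun k => D.u (e k)) (fun k => D.u (e' k)) from
      funext fun k => Fin.addCases (fun s => by simp) (fun s => by simp) k,
    show (fun k => MvPolynomial.aeval ![x, y] (c k)) =
      Fin.append (fun k => MvPolynomial.aeval ![x, y] (c (Fin.castAdd l' k))) (fun _ => (0 : A)) from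
      funext fun k => Fin.addCases (fun s => by simp)
        (fun s => by simp [congrFun hrest s]) k, pe_append]
  haveI : ∀ k, IsMonHom ((fun k => D.u (e' k)) k) := fun k => isMonHom_u D _
  rw [pe_zero, _root_.mul_one]
  congr 1
  funext k
  rw [hlead k, MvPolynomial.aeval_monomial, Finsupp.prod_fintype _ _ (fun t => pow_zero _), Fin.prod_univ_two]
  simp [dd, mul_assoc]

end Formula

end SplitCell

end
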