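import Groth.Prelude
import Groth.Agent.FibDimLib.Smooth
import Groth.Agent.EtaEtLib.Fibres
import Groth.Agent.GradedCechLib.Free
import Mathlib.Algebra.MonoidAlgebra.MapDomain

/-!
# Relative dimensions of `𝔾_a` and of diagonalisable groups
-/

set_option autoImplicit false
set_option linter.style.haveILetI false
set_option backward.isDefEq.respectTransparency false
set_option maxHeartbeats 800000

universe u

open CategoryTheory CategoryTheory.Limits MonoidalCategory CartesianMonoidalCategory AlgebraicGeometry

noncomputable section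

namespace SplitCell

open GradedCechLib (Lau toLau lauAlg expHom)

attribute [local instance] GradedCechLib.lauAlg

variable (R : Type u) [CommRing R] (r : ℕ)

theorem isLocalization_lau :
    IsLocalization.Away (∏ i : Fin r, (MvPolynomial.X i : MvPolynomial (Fin r) R)) (Lau R (Fin r)) := by
  classical
  let P : MvPolynomial (Fin r) R := ∏ i : Fin r, MvPolynomial.X i
  have hP : ∀ m : ℕ, toLau R (Fin r) (P ^ m) = AddMonoidAlgebra.single (fun _ => (m : ℤ)) 1 := fun m => by
    have h1 : P = MvPolynomial.monomial (∑ i, Finsupp.single i 1) 1 := by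
      rw [MvPolynomial.monomial_sum_one]; rfl
    rw [h1, MvPolynomial.monomial_pow, one_pow, GradedCechLib.toLau_monomial]
    congr 1
    funext i
    simp [expHom, Finsupp.finsetSum_apply, Finsupp.single_apply]
  refine ⟨?_, ?_, ?_⟩
  · rintro ⟨_, m, rfl⟩
    refine IsUnit.of_mul_eq_one (AddMonoidAlgebra.single (fun _ => -(m : ℤ)) (1 : R)) ?_
    show toLau R (Fin r) (P ^ m) * _ = 1
    rw [hP, AddMonoidAlgebra.single_mul_single, _root_.one_mul]
    rw [AddMonoidAlgebra.one_def]
    congr 1
    funext i
    simp
  · intro z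
    let N : ℕ := ∑ a ∈ z.coeff.support, ∑ i, (a i).natAbs
    have key : ∀ w : Lau R (Fin r), (∀ a ∈ w.coeff.support, ∀ i, 0 ≤ a i + N) →
        w * AddMonoidAlgebra.single (fun _ => (N : ℤ)) 1 ∈ (toLau R (Fin r)).range := by
      intro w hw
      rw [← AddMonoidAlgebra.sum_coeff_single w, Finsupp.sum, Finset.sum_mul]
      refine Subalgebra.sum_mem _ fun a ha => ?_
      rw [AddMonoidAlgebra.single_mul_single, _root_.mul_one]
      refine ⟨MvPolynomial.monomial (Finsupp.equivFunOnFinite.symm fun i => (a i + N).toNat) (w.coeff a), ?_⟩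
      show toLau R (Fin r) _ = _
      rw [GradedCechLib.toLau_monomial]
      congr 1
      funext i
      simp [expHom, hw a ha i]
    obtain ⟨p, hp⟩ := key z fun a ha i => by
      have h1 : (a i).natAbs ≤ N := le_trans (Finset.single_le_sum (f := fun i => (a i).natAbs) (fun _ _ => Nat.zero_le _)
        (Finset.mem_univ i)) (Finset.single_le_sum (f := fun a : Fin r → ℤ => ∑ i, (a i).natAbs)
          (fun _ _ => Nat.zero_le _) ha)
      omega
    refine ⟨(p, ⟨P ^ N, N, rfl⟩), ?_⟩
    show z * toLau R (Fin r) (P ^ N) = toLau R (Fin r) p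
    rw [hP]
    exact hp.symm
  · intro x y h
    exact ⟨1, by rw [GradedCechLib.toLau_injective h]⟩

theorem isStandardSmooth_lau [Nontrivial R] :
    Algebra.IsStandardSmoothOfRelativeDimension r R (Lau R (Fin r)) := by
  haveI := isLocalization_lau R r
  haveI := EtaEtLib.isStandardSmooth_mvPolynomial R r
  haveI : Algebra.IsStandardSmoothOfRelativeDimension 0 (MvPolynomial (Fin r) R) (Lau R (Fin r)) :=
    Algebra.IsStandardSmoothOfRelativeDimension.localization_away (r := ∏ i : Fin r, (MvPolynomial.X i : MvPolynomial (Fin r) R))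
  have h := Algebra.IsStandardSmoothOfRelativeDimension.trans r 0 R (MvPolynomial (Fin r) R) (Lau R (Fin r))
  rwa [Nat.zero_add] at h

theorem smoothRel_spec {A : Type u} [CommRing A] [Algebra R A] (n : ℕ)
    (h : Algebra.IsStandardSmoothOfRelativeDimension n R A) :
    SmoothOfRelativeDimension n (Spec.map (CommRingCat.ofHom (algebraMap R A))) := by
  rw [HasRingHomProperty.Spec_iff (P := @SmoothOfRelativeDimension n)]
  exact RingHom.locally_of RingHom.isStandardSmoothOfRelativeDimension_respectsIso _
    ((RingHom.isStandardSmoothOfRelativeDimension_algebraMap n).mpr h)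

/-- `𝔾_a` has relative dimension one. -/
theorem smoothRel_Ga (S : Scheme.{u}) : SmoothOfRelativeDimension 1 (Red.Ga S).hom := by
  let Z := ULift.{u} ℤ
  haveI := EtaEtLib.isStandardSmooth_mvPolynomial Z 1
  have h1 : Algebra.IsStandardSmoothOfRelativeDimension 1 Z (SymmetricAlgebra Z Z) :=
    Algebra.IsStandardSmoothOfRelativeDimension.of_algEquiv 1
      ((SymmetricAlgebra.equivMvPolynomial (Module.Basis.singleton (Fin 1) Z)).symm)
  haveI h2 : SmoothOfRelativeDimension 1 Red.GaZ.{u}.hom := smoothRel_spec Z 1 h1
  haveI := AlgebraicGeometry.smoothOfRelativeDimension_isStableUnderBaseChange 1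
  exact MorphismProperty.pullback_snd (P := @SmoothOfRelativeDimension 1) _ _ h2

/-- A split torus has relative dimension equal to its rank. -/
theorem smoothRel_DS (S : Scheme.{u}) (M : Type) [AddCommGroup M] [Module.Free ℤ M] [Module.Finite ℤ M] :
    SmoothOfRelativeDimension (Module.finrank ℤ M) (Red.DS S M).hom := by
  let Z := ULift.{u} ℤ
  let r := Module.finrank ℤ M
  let e : M ≃+ (Fin r → ℤ) := (Module.finBasis ℤ M).equivFun.toAddEquiv
  haveI := isStandardSmooth_lau Z r
  have h1 : Algebra.IsStandardSmoothOfRelativeDimension r Z (MonoidAlgebra Z (Multiplicative M)) :=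
    Algebra.IsStandardSmoothOfRelativeDimension.of_algEquiv r
      ((AddMonoidAlgebra.domCongr Z Z e.symm).trans (AddMonoidAlgebra.toMultiplicativeAlgEquiv Z Z M))
  haveI h2 : SmoothOfRelativeDimension r (Red.diag Z M).hom := smoothRel_spec Z r h1
  haveI := AlgebraicGeometry.smoothOfRelativeDimension_isStableUnderBaseChange r
  exact MorphismProperty.pullback_snd (P := @SmoothOfRelativeDimension r) _ _ h2

end SplitCell

end
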