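import Groth.Agent.SplitCellLib.Mono

/-!
# Limits along a cocharacter

A point whose conjugates by a cocharacter extend both over `0` and over `∞` is constant; hence the product
"negative part × centraliser × positive part" is injective over every ring.
-/

set_option autoImplicit false
set_option linter.style.haveILetI false
set_option backward.isDefEq.respectTransparency false
set_option maxHeartbeats 800000

universe u

open CategoryTheory CategoryTheory.Limits MonoidalCategory CartesianMonoidalCategory AlgebraicGeometry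
open scoped MonObj LaurentPolynomial

noncomputable section

namespace SplitCell

section Maps

variable (R : Type u) [CommRing R] (A : Type u) [CommRing A] [Algebra R A]

/-- The inclusion of polynomials in Laurent polynomials. -/
def toT : Polynomial A →ₐ[R] A[T;T⁻¹] := (Polynomial.toLaurentAlg (R := A)).restrictScalars R

/-- Polynomials in the inverse of the variable. -/
def toTinv : Polynomial A →ₐ[R] A[T;T⁻¹] :=
  ((LaurentPolynomial.invert (R := A)).toAlgHom.restrictScalars R).comp (toT R A)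

/-- Constants. -/
def cC : A →ₐ[R] Polynomial A := IsScalarTower.toAlgHom R A (Polynomial A)

/-- The variable as a unit. -/
def unitT : (A[T;T⁻¹])ˣ := (LaurentPolynomial.isUnit_T (R := A) 1).unit

variable {R A}

/-- Evaluation. -/
def evA (c : A) : Polynomial A →ₐ[R] A := (Polynomial.aeval (R := A) c).restrictScalars R

theorem evA_cC (c r : A) : evA (R := R) c (cC R A r) = r := by
  simp [evA, cC]

theorem evA_X (c : A) : evA (R := R) c Polynomial.X = c := by simp [evA]

theorem toT_injective : Function.Injective (toT R A) := Polynomial.toLaurent_injective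

theorem toTinv_injective : Function.Injective (toTinv R A) :=
  (LaurentPolynomial.invert (R := A)).injective.comp (toT_injective (R := R))

theorem unitT_val : (unitT A : A[T;T⁻¹]) = LaurentPolynomial.T 1 := IsUnit.unit_spec _

theorem toT_X : toT R A Polynomial.X = unitT A := by
  rw [unitT_val]
  exact Polynomial.toLaurent_X

theorem toTinv_X : toTinv R A Polynomial.X = ((unitT A)⁻¹ : (A[T;T⁻¹])ˣ) := by
  refine (Units.inv_eq_of_mul_eq_one_right ?_).symm
  show (unitT A : A[T;T⁻¹]) * LaurentPolynomial.invert (toT R A Polynomial.X) = 1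
  rw [toT_X, unitT_val, LaurentPolynomial.invert_T, ← LaurentPolynomial.T_add]
  simp

theorem toTinv_cC (r : A) : toTinv R A (cC R A r) = toT R A (cC R A r) := by
  show LaurentPolynomial.invert (Polynomial.toLaurent (Polynomial.C r)) = Polynomial.toLaurent (Polynomial.C r)
  rw [Polynomial.toLaurent_C, LaurentPolynomial.invert_C]

theorem toTinv_comp_cC : (toTinv R A).comp (cC R A) = (toT R A).comp (cC R A) := AlgHom.ext toTinv_cC

theorem eq_cC_of_eq {f g : Polynomial A} (h : toT R A f = toTinv R A g) : ∃ r, cC R A r = f := by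
  refine ⟨f.coeff 0, Polynomial.ext fun k => ?_⟩
  show (Polynomial.C (f.coeff 0)).coeff k = f.coeff k
  rcases Nat.eq_zero_or_pos k with rfl | hk
  · simp
  rw [Polynomial.coeff_C_of_ne_zero hk.ne']
  have h1 := congrArg (fun F : A[T;T⁻¹] => F.coeff (k : ℤ)) h
  change (Polynomial.toLaurent f).coeff (k : ℤ) = (LaurentPolynomial.invert (Polynomial.toLaurent g)).coeff (k : ℤ) at h1
  rw [LaurentPolynomial.invert_apply, LaurentPolynomial.coeff_toLaurent, LaurentPolynomial.coeff_toLaurent,
    show (k : ℤ) = Nat.castEmbedding k from rfl, Finsupp.mapDomain_apply (Nat.castEmbedding (R := ℤ)).injective,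
    Finsupp.mapDomain_notin_range] at h1
  · exact h1.symm
  · rintro ⟨m, hm⟩
    simp at hm
    omega

end Maps

variable {S : Scheme.{u}} {R : Type u} [CommRing R] (a : Spec (CommRingCat.of R) ⟶ S) {G : Over S} [GrpObj G]
  {A : Type u} [CommRing A] [Algebra R A]

/-- The conjugates of `g` by the values of `γ₀` extend to the line along `φ`, with value `l` at the origin. -/
def Lim (γ₀ : Red.Gm S ⟶ G) (φ : Polynomial A →ₐ[R] A[T;T⁻¹]) (g l : aP a A ⟶ G) : Prop :=
  ∃ x : aP a (Polynomial A) ⟶ G,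
    aM a φ ≫ x = gel a γ₀ (unitT A) * (aM a ((toT R A).comp (cC R A)) ≫ g) * (gel a γ₀ (unitT A))⁻¹ ∧
      aM a (evA 1) ≫ x = g ∧ aM a (evA 0) ≫ x = l

variable {γ₀ : Red.Gm S ⟶ G} {φ : Polynomial A →ₐ[R] A[T;T⁻¹]} {g g' l l' : aP a A ⟶ G}

theorem Lim.mul (h : Lim a γ₀ φ g l) (h' : Lim a γ₀ φ g' l') : Lim a γ₀ φ (g * g') (l * l') := by
  obtain ⟨x, h1, h2, h3⟩ := h
  obtain ⟨y, h4, h5, h6⟩ := h'
  refine ⟨x * y, ?_, ?_, ?_⟩
  · rw [MonObj.comp_mul, MonObj.comp_mul, h1, h4]; group
  · rw [MonObj.comp_mul, h2, h5]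
  · rw [MonObj.comp_mul, h3, h6]

theorem Lim.inv (h : Lim a γ₀ φ g l) : Lim a γ₀ φ g⁻¹ l⁻¹ := by
  obtain ⟨x, h1, h2, h3⟩ := h
  refine ⟨x⁻¹, ?_, ?_, ?_⟩
  · rw [GrpObj.comp_inv, GrpObj.comp_inv, h1]; group
  · rw [GrpObj.comp_inv, h2]
  · rw [GrpObj.comp_inv, h3]

theorem lim_of_commute (hφ : φ.comp (cC R A) = (toT R A).comp (cC R A))
    (h : Commute (gel a γ₀ (unitT A)) (aM a ((toT R A).comp (cC R A)) ≫ g)) : Lim a γ₀ φ g g := by
  have e : ∀ (c : A), (evA (R := R) c).comp (cC R A) = AlgHom.id R A := fun c => AlgHom.ext (evA_cC (R := R) c)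
  refine ⟨aM a (cC R A) ≫ g, ?_, ?_, ?_⟩
  · rw [← Category.assoc, ← aM_comp, hφ, h.eq, mul_inv_cancel_right]
  · rw [← Category.assoc, ← aM_comp, e, aM_id, Category.id_comp]
  · rw [← Category.assoc, ← aM_comp, e, aM_id, Category.id_comp]

/-- **A point with limits at both ends is constant.** -/
theorem eq_of_lim [IsAffineHom G.hom] (h : Lim a γ₀ (toT R A) g l) (h' : Lim a γ₀ (toTinv R A) g l') :
    l = g ∧ l' = g := by
  obtain ⟨x, h1, h2, h3⟩ := h
  obtain ⟨y, h4, h5, h6⟩ := h'
  have he : aM a (toT R A) ≫ x = aM a (toTinv R A) ≫ y := h1.trans h4.symm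
  have hinj : Function.Injective (cC R A) := fun r s e => Polynomial.C_injective e
  obtain ⟨z, hz⟩ := exists_of_inter (cC R A) (toT R A) (toTinv R A) toT_injective
    (fun r s e => eq_cC_of_eq e) hinj he
  have hy : y = aM a (cC R A) ≫ z := by
    refine ext_of_injective (toTinv R A) toTinv_injective ?_
    rw [← he, ← hz, ← Category.assoc, ← Category.assoc, ← aM_comp, ← aM_comp, toTinv_comp_cC]
  have e : ∀ (c : A), aM a (evA (R := R) c) ≫ aM a (cC R A) ≫ z = z := fun c => by
    rw [← Category.assoc, ← aM_comp, show (evA (R := R) c).comp (cC R A) = AlgHom.id R A from AlgHom.ext (evA_cC (R := R) c),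
      aM_id, Category.id_comp]
  rw [← hz, e] at h2 h3
  rw [hy, e] at h6
  exact ⟨h3.symm.trans h2, h6.symm.trans h2⟩

variable {n m : ℕ} {p : Fin n → (Red.Ga S ⟶ G)} {w : Fin n → ℤ} [∀ k, IsMonHom (p k)]

theorem lim_pe_aux (hw : HasWeights γ₀ p w) (e : Fin n → ℕ) (he : ∀ k, 0 < e k)
    (hX : ∀ k, φ Polynomial.X ^ e k = ((unitT A ^ w k : (A[T;T⁻¹])ˣ) : A[T;T⁻¹]))
    (hφ : φ.comp (cC R A) = (toT R A).comp (cC R A)) (x : Fin n → A) : Lim a γ₀ φ (pe a p x) 1 := by
  refine ⟨pe a p fun k => Polynomial.X ^ e k * cC R A (x k), ?_, ?_, ?_⟩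
  · rw [aM_pe, aM_pe, conj_pe a hw]
    congr 1
    funext k
    rw [map_mul, map_pow, hX]
    congr 1
    exact AlgHom.congr_fun hφ (x k)
  · rw [aM_pe]
    congr 1
    funext k
    simp [map_mul, map_pow, evA_X, evA_cC]
  · rw [aM_pe, show (fun k => evA (R := R) (0 : A) (Polynomial.X ^ e k * cC R A (x k))) = fun _ => (0 : A) from
      funext fun k => by simp [map_mul, map_pow, evA_X, zero_pow (he k).ne'], pe_zero]

/-- Positive weights contract at the origin. -/
theorem lim_pe_pos (hw : HasWeights γ₀ p w) (hpos : ∀ k, 0 < w k) (x : Fin n → A) :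
    Lim a γ₀ (toT R A) (pe a p x) 1 := by
  refine lim_pe_aux a hw (fun k => (w k).toNat) (fun k => by have := hpos k; omega) (fun k => ?_) rfl x
  obtain ⟨d, hd⟩ := Int.eq_ofNat_of_zero_le (hpos k).le
  rw [toT_X, hd, Int.toNat_natCast, zpow_natCast, Units.val_pow_eq_pow_val]

/-- Negative weights contract at infinity. -/
theorem lim_pe_neg (hw : HasWeights γ₀ p w) (hneg : ∀ k, w k < 0) (x : Fin n → A) :
    Lim a γ₀ (toTinv R A) (pe a p x) 1 := by
  refine lim_pe_aux a hw (fun k => (-w k).toNat) (fun k => by have := hneg k; omega) (fun k => ?_) toTinv_comp_cC x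
  obtain ⟨d, hd⟩ := Int.eq_ofNat_of_zero_le (neg_nonneg.2 (hneg k).le)
  rw [toTinv_X, hd, Int.toNat_natCast, show w k = -(d : ℤ) by omega, zpow_neg, zpow_natCast, ← inv_pow,
    Units.val_pow_eq_pow_val]

end SplitCell

end
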