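import Groth.Agent.SplitCellLib.Pts
import Mathlib.Algebra.Polynomial.Laurent
import Mathlib.Algebra.DualNumber
import Mathlib.RingTheory.Polynomial.Basic

/-!
# Products of homomorphisms from `𝔾_a` of distinct weights

If the weights for one cocharacter are distinct then infinitesimal values are independent; if those for another are
positive then the product map is a monomorphism.
-/

set_option autoImplicit false
set_option linter.style.haveILetI false
set_option backward.isDefEq.respectTransparency false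
set_option maxHeartbeats 800000

universe u

open CategoryTheory CategoryTheory.Limits MonoidalCategory CartesianMonoidalCategory AlgebraicGeometry
open Groth.Agent.GaPts
open scoped MonObj LaurentPolynomial
open TrivSqZeroExt (inl inr)

noncomputable section

namespace SplitCell

open Groth.Agent.BigCell (rt rt_zero)

/-! ## Algebra maps -/

section Maps

variable {R : Type u} [CommRing R] {A : Type u} [CommRing A] [Algebra R A]

/-- Pairs of polynomials with the same constant term. -/
def axes (A : Type u) [CommRing A] [Algebra R A] : Subalgebra R (Polynomial A × Polynomial A) :=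
  AlgHom.equalizer
    (((Polynomial.aeval (R := A) (0 : A)).restrictScalars R).comp (AlgHom.fst R _ _))
    (((Polynomial.aeval (R := A) (0 : A)).restrictScalars R).comp (AlgHom.snd R _ _))

theorem mem_axes {f g : Polynomial A} : (f, g) ∈ axes (R := R) A ↔ f.eval 0 = g.eval 0 := by
  simp [axes, AlgHom.mem_equalizer]

variable (r s : A)

theorem aeval_mul_aeval (hrs : r * s = 0) (f g : Polynomial A) :
    (f.eval r - f.eval 0) * (g.eval s - g.eval 0) = 0 := by
  obtain ⟨q, hq⟩ := Polynomial.sub_dvd_eval_sub r 0 f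
  obtain ⟨q', hq'⟩ := Polynomial.sub_dvd_eval_sub s 0 g
  rw [hq, hq', sub_zero, sub_zero]
  linear_combination q * q' * hrs

/-- Evaluation of a pair at two elements with vanishing product. -/
def axesEv (hrs : r * s = 0) : axes (R := R) A →ₐ[R] A where
  toFun x := x.1.1.eval r + x.1.2.eval s - x.1.1.eval 0
  map_one' := by simp
  map_zero' := by simp
  map_add' x y := by simp; ring
  map_mul' x y := by
    have hx : x.1.1.eval 0 = x.1.2.eval 0 := mem_axes.1 x.2
    have hy : y.1.1.eval 0 = y.1.2.eval 0 := mem_axes.1 y.2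
    have e1 := aeval_mul_aeval r s hrs x.1.1 y.1.2
    have e2 := aeval_mul_aeval r s hrs y.1.1 x.1.2
    simp only [Subalgebra.coe_mul, Prod.fst_mul, Prod.snd_mul, Polynomial.eval_mul]
    rw [← hy] at e1
    rw [← hx] at e2
    linear_combination (-1 : A) * e1 + (-1 : A) * e2
  commutes' c := by simp

/-- The projection to the first axis. -/
def axesFst : axes (R := R) A →ₐ[R] Polynomial A := (AlgHom.fst R _ _).comp (axes (R := R) A).val

/-- The projection to the second axis. -/
def axesSnd : axes (R := R) A →ₐ[R] Polynomial A := (AlgHom.snd R _ _).comp (axes (R := R) A).val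

/-- Dual numbers with values in an algebra. -/
def dualTo {B : Type u} [CommRing B] [Algebra R B] (f : A →ₐ[R] B) (e : B) (he : e * e = 0) :
    DualNumber A →ₐ[R] B :=
  TrivSqZeroExt.lift f ((LinearMap.mulRight R e).comp f.toLinearMap)
    (fun x y => show f x * e * (f y * e) = 0 by linear_combination f x * f y * he)
    (fun c x => show f (c * x) * e = f c * (f x * e) by rw [map_mul, mul_assoc])
    (fun c x => show f (x * c) * e = f x * e * f c by rw [map_mul]; ring)

theorem dualTo_inl {B : Type u} [CommRing B] [Algebra R B] (f : A →ₐ[R] B) (e : B) (he : e * e = 0) (c : A) :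
    dualTo f e he (inl c) = f c := TrivSqZeroExt.lift_apply_inl _ _ _ _ _ _

theorem dualTo_inr {B : Type u} [CommRing B] [Algebra R B] (f : A →ₐ[R] B) (e : B) (he : e * e = 0) (c : A) :
    dualTo f e he (inr c) = f c * e := TrivSqZeroExt.lift_apply_inr _ _ _ _ _ _

/-- The projection of a square zero extension to one coordinate. -/
def coordTo {n : ℕ} (j : Fin n) : TrivSqZeroExt A (Fin n → A) →ₐ[R] DualNumber A :=
  TrivSqZeroExt.lift (TrivSqZeroExt.inlAlgHom R A A)
    (((TrivSqZeroExt.inrHom A A).restrictScalars R).comp (LinearMap.proj j))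
    (fun x y => TrivSqZeroExt.inr_mul_inr A (x j) (y j))
    (fun c x => (TrivSqZeroExt.inl_mul_inr c (x j)).symm)
    (fun c x => (TrivSqZeroExt.inr_mul_inl c (x j)).symm)

theorem coordTo_inr {n : ℕ} (j : Fin n) (v : Fin n → A) : coordTo (R := R) j (inr v) = inr (v j) :=
  TrivSqZeroExt.lift_apply_inr _ _ _ _ _ _

/-- The linear part of `spread`. -/
def spreadLin {n : ℕ} (w : Fin n → ℤ) : (Fin n → A) →ₗ[R] (DualNumber A)[T;T⁻¹] where
  toFun v := ∑ j, AddMonoidAlgebra.single (w j) (inr (v j))
  map_add' v v' := by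
    simp only [Pi.add_apply, TrivSqZeroExt.inr_add, AddMonoidAlgebra.single_add, Finset.sum_add_distrib]
  map_smul' c v := by
    simp only [Pi.smul_apply, TrivSqZeroExt.inr_smul, RingHom.id_apply, Finset.smul_sum, AddMonoidAlgebra.smul_single]

/-- Spreading out the coordinates with weights. -/
def spread {n : ℕ} (w : Fin n → ℤ) : TrivSqZeroExt A (Fin n → A) →ₐ[R] (DualNumber A)[T;T⁻¹] :=
  TrivSqZeroExt.lift (AddMonoidAlgebra.singleZeroAlgHom.comp (TrivSqZeroExt.inlAlgHom R A A)) (spreadLin w)
    (fun x y => by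
      show (∑ i, AddMonoidAlgebra.single (w i) (inr (x i))) * (∑ j, AddMonoidAlgebra.single (w j) (inr (y j))) =
        (0 : (DualNumber A)[T;T⁻¹])
      rw [Finset.sum_mul_sum]
      exact Finset.sum_eq_zero fun i _ => Finset.sum_eq_zero fun j _ => by
        rw [AddMonoidAlgebra.single_mul_single, TrivSqZeroExt.inr_mul_inr, AddMonoidAlgebra.single_zero])
    (fun c x => by
      show (∑ j, AddMonoidAlgebra.single (w j) (inr (c * x j))) =
        AddMonoidAlgebra.single 0 (inl c) * (∑ j, AddMonoidAlgebra.single (w j) (inr (x j)))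
      rw [Finset.mul_sum]
      exact Finset.sum_congr rfl fun j _ => by
        rw [AddMonoidAlgebra.single_mul_single, zero_add, TrivSqZeroExt.inl_mul_inr]; rfl)
    (fun c x => by
      show (∑ j, AddMonoidAlgebra.single (w j) (inr (MulOpposite.op c • x j))) =
        (∑ j, AddMonoidAlgebra.single (w j) (inr (x j))) * AddMonoidAlgebra.single 0 (inl c)
      rw [Finset.sum_mul]
      exact Finset.sum_congr rfl fun j _ => by
        rw [AddMonoidAlgebra.single_mul_single, add_zero, TrivSqZeroExt.inr_mul_inl])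

theorem spread_inr {n : ℕ} (w : Fin n → ℤ) (v : Fin n → A) :
    spread (R := R) w (inr v) = ∑ j, AddMonoidAlgebra.single (w j) (inr (v j)) :=
  TrivSqZeroExt.lift_apply_inr _ _ _ _ _ _

theorem spread_injective {n : ℕ} (w : Fin n → ℤ) (hw : Function.Injective w) :
    Function.Injective (spread (R := R) (A := A) w) := by
  refine (injective_iff_map_eq_zero _).2 fun x hx => ?_
  rw [← TrivSqZeroExt.inl_fst_add_inr_snd_eq x, map_add, spread_inr] at hx
  rw [show spread (R := R) w (inl x.fst) = AddMonoidAlgebra.single 0 (inl x.fst) from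
    TrivSqZeroExt.lift_apply_inl _ _ _ _ _ _] at hx
  have h1 : x.fst = 0 := by
    have h := congrArg TrivSqZeroExt.fst (congrArg (fun f : (DualNumber A)[T;T⁻¹] => f.coeff 0) hx)
    simpa only [AddMonoidAlgebra.coeff_add, AddMonoidAlgebra.coeff_sum, Finsupp.coe_add, Pi.add_apply,
      Finset.sum_apply', AddMonoidAlgebra.coeff_single, Finsupp.single_apply, TrivSqZeroExt.fst_add,
      TrivSqZeroExt.fst_sum, apply_ite TrivSqZeroExt.fst, TrivSqZeroExt.fst_inl, TrivSqZeroExt.fst_inr,
      TrivSqZeroExt.fst_zero, ite_self, Finset.sum_const_zero, add_zero, if_true, AddMonoidAlgebra.coeff_zero,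
      Finsupp.coe_zero, Pi.zero_apply] using h
  rw [h1, TrivSqZeroExt.inl_zero, AddMonoidAlgebra.single_zero, zero_add] at hx
  refine TrivSqZeroExt.ext h1 (funext fun j => ?_)
  have h := congrArg TrivSqZeroExt.snd (congrArg (fun f : (DualNumber A)[T;T⁻¹] => f.coeff (w j)) hx)
  simpa only [AddMonoidAlgebra.coeff_sum, Finset.sum_apply', AddMonoidAlgebra.coeff_single, Finsupp.single_apply,
    hw.eq_iff, Finset.sum_ite_eq', Finset.mem_univ, if_true, TrivSqZeroExt.snd_inr, TrivSqZeroExt.snd_zero,
    AddMonoidAlgebra.coeff_zero, Finsupp.coe_zero, Pi.zero_apply] using h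

end Maps

variable {S : Scheme.{u}} {R : Type u} [CommRing R] (a : Spec (CommRingCat.of R) ⟶ S) {G : Over S} [GrpObj G]
  {A : Type u} [CommRing A] [Algebra R A] {A' : Type u} [CommRing A'] [Algebra R A']

/-- The conjugation by a cocharacter multiplies the homomorphisms by powers. -/
def HasWeights {n : ℕ} (γ₀ : Red.Gm S ⟶ G) (p : Fin n → (Red.Ga S ⟶ G)) (w : Fin n → ℤ) : Prop :=
  ∀ (j : Fin n) (X : Over S) (z : (Γ(X.left, ⊤))ˣ) (c : Γ(X.left, ⊤)),
    ((GmPts.ptOfUnit z : X ⟶ Red.Gm S) ≫ γ₀) * rt (p j) c * ((GmPts.ptOfUnit z : X ⟶ Red.Gm S) ≫ γ₀)⁻¹ =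
      rt (p j) (((z ^ w j : (Γ(X.left, ⊤))ˣ) : Γ(X.left, ⊤)) * c)

theorem HasWeights.el {n : ℕ} {γ₀ : Red.Gm S ⟶ G} {p : Fin n → (Red.Ga S ⟶ G)} {w : Fin n → ℤ}
    (h : HasWeights γ₀ p w) (j : Fin n) (z : Aˣ) (r : A) :
    gel a γ₀ z * el a (p j) r * (gel a γ₀ z)⁻¹ = el a (p j) (((z ^ w j : Aˣ) : A) * r) := by
  rw [SplitCell.el, SplitCell.el, gel, h j, map_mul, ← map_zpow]
  rfl

/-- Ordered products. -/
def pe {n : ℕ} (p : Fin n → (Red.Ga S ⟶ G)) (x : Fin n → A) : aP a A ⟶ G :=
  (List.ofFn fun k => el a (p k) (x k)).prod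

theorem pe_succ {n : ℕ} (p : Fin (n + 1) → (Red.Ga S ⟶ G)) (x : Fin (n + 1) → A) :
    pe a p x = el a (p 0) (x 0) * pe a (fun k => p k.succ) (fun k => x k.succ) := by
  rw [pe, List.ofFn_succ, List.prod_cons]; rfl

theorem pe_zero_len (p : Fin 0 → (Red.Ga S ⟶ G)) (x : Fin 0 → A) : pe a p x = 1 := rfl

theorem aM_pe (φ : A →ₐ[R] A') {n : ℕ} (p : Fin n → (Red.Ga S ⟶ G)) (x : Fin n → A) :
    aM a φ ≫ pe a p x = pe a p (fun k => φ (x k)) := by
  induction n with
  | zero => exact MonObj.comp_one _
  | succ n ih => rw [pe_succ, MonObj.comp_mul, aM_el, ih, ← pe_succ a p (fun k => φ (x k))]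

theorem conj_pe {n : ℕ} {γ₀ : Red.Gm S ⟶ G} {p : Fin n → (Red.Ga S ⟶ G)} {w : Fin n → ℤ}
    (h : HasWeights γ₀ p w) (z : Aˣ) (x : Fin n → A) :
    gel a γ₀ z * pe a p x * (gel a γ₀ z)⁻¹ = pe a p (fun k => ((z ^ w k : Aˣ) : A) * x k) := by
  induction n with
  | zero => simp [pe_zero_len]
  | succ n ih =>
    rw [pe_succ, pe_succ a p (fun k => ((z ^ w k : Aˣ) : A) * x k), ← h.el a 0 z (x 0),
      ← ih (p := fun k => p k.succ) (w := fun k => w k.succ) (fun j => h j.succ) (fun k => x k.succ)]
    group

theorem pe_zero {n : ℕ} (p : Fin n → (Red.Ga S ⟶ G)) [∀ k, IsMonHom (p k)] : pe a p (fun _ => (0 : A)) = 1 := by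
  induction n with
  | zero => rfl
  | succ n ih => rw [pe_succ, el_zero, ih, _root_.mul_one]

theorem pe_single {n : ℕ} (p : Fin n → (Red.Ga S ⟶ G)) [∀ k, IsMonHom (p k)] (j : Fin n) (r : A) :
    pe a p (fun k => if k = j then r else 0) = el a (p j) r := by
  induction n with
  | zero => exact j.elim0
  | succ n ih =>
    rw [pe_succ]
    induction j using Fin.cases with
    | zero => simp [pe_zero, Fin.succ_ne_zero]
    | succ j =>
      simp only [Fin.succ_inj, ih (fun k => p k.succ) j]
      rw [if_neg (Fin.succ_ne_zero j).symm, el_zero, _root_.one_mul]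

variable [IsAffineHom G.hom]

/-- Values at elements with vanishing product commute. -/
theorem commute_el (p q : Red.Ga S ⟶ G) [IsMonHom p] [IsMonHom q] {r s : A} (hrs : r * s = 0) :
    Commute (el a p r) (el a q s) := by
  let P : axes (R := R) A := ⟨(Polynomial.X, 0), mem_axes.2 (by simp)⟩
  let Q : axes (R := R) A := ⟨(0, Polynomial.X), mem_axes.2 (by simp)⟩
  have key : el a p P * el a q Q = el a q Q * el a p P := by
    refine ext_of_jointly_injective (fun b : Bool => if b then axesFst (R := R) (A := A) else axesSnd) ?_ fun b => ?_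
    · intro x y h
      exact Subtype.ext (Prod.ext (h true) (h false))
    · cases b <;>
        simp [MonObj.comp_mul, aM_el, axesFst, axesSnd, P, Q, el_zero]
  have h := congrArg (fun g => aM a (axesEv (R := R) r s hrs) ≫ g) key
  simp only [MonObj.comp_mul, aM_el] at h
  have eP : axesEv (R := R) r s hrs P = r := by
    show (Polynomial.X : Polynomial A).eval r + (0 : Polynomial A).eval s - (Polynomial.X : Polynomial A).eval 0 = r
    simp
  have eQ : axesEv (R := R) r s hrs Q = s := by
    show (0 : Polynomial A).eval r + (Polynomial.X : Polynomial A).eval s - (0 : Polynomial A).eval 0 = s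
    simp
  rwa [eP, eQ] at h

theorem commute_pe {n : ℕ} (p : Fin n → (Red.Ga S ⟶ G)) [∀ k, IsMonHom (p k)] (q : Red.Ga S ⟶ G) [IsMonHom q]
    {x : Fin n → A} {s : A} (h : ∀ k, x k * s = 0) : Commute (pe a p x) (el a q s) := by
  induction n with
  | zero => exact Commute.one_left _
  | succ n ih =>
    rw [pe_succ]
    exact (commute_el a (p 0) q (h 0)).mul_left (ih (fun k => p k.succ) fun k => h k.succ)

theorem pe_add {n : ℕ} (p : Fin n → (Red.Ga S ⟶ G)) [∀ k, IsMonHom (p k)] {z e : Fin n → A}
    (h : ∀ k l, z k * e l = 0) : pe a p (fun k => z k + e k) = pe a p z * pe a p e := by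
  induction n with
  | zero => simp [pe_zero_len]
  | succ n ih =>
    rw [pe_succ, pe_succ a p z, pe_succ a p e, el_add, ih (fun k => p k.succ) fun k l => h k.succ l.succ]
    have hc : Commute (pe a (fun k => p k.succ) fun k => z k.succ) (el a (p 0) (e 0)) :=
      commute_pe a _ _ fun k => h k.succ 0
    simp only [_root_.mul_assoc]
    rw [← _root_.mul_assoc (el a (p 0) (e 0)), ← hc.eq, _root_.mul_assoc]

/-- **Independence.** -/
theorem indep {n : ℕ} {γ₁ : Red.Gm S ⟶ G} {p : Fin n → (Red.Ga S ⟶ G)} [∀ k, IsMonHom (p k)] [∀ k, Mono (p k)]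
    {v : Fin n → ℤ} (hv : HasWeights γ₁ p v) (hinj : Function.Injective v) {δ : Fin n → A}
    (h : pe a p (fun k => (inr (δ k) : DualNumber A)) = 1) : δ = 0 := by
  let P : Fin n → TrivSqZeroExt A (Fin n → A) := fun k => inr (Pi.single k (δ k))
  have hP : pe a p P = 1 := by
    have hsi : Function.Injective (spread (R := R) (A := A) v) := spread_injective v hinj
    refine @ext_of_injective S R _ a (TrivSqZeroExt A (Fin n → A)) ((DualNumber A)[T;T⁻¹]) _ _ _ _ G _
      (spread (R := R) (A := A) v) hsi _ _ ?_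
    rw [aM_pe, MonObj.comp_one]
    let C : DualNumber A →ₐ[R] (DualNumber A)[T;T⁻¹] := AddMonoidAlgebra.singleZeroAlgHom
    have hC : pe a p (fun k => C (inr (δ k))) = 1 := by rw [← aM_pe, h, MonObj.comp_one]
    let tT : ((DualNumber A)[T;T⁻¹])ˣ := (LaurentPolynomial.isUnit_T (R := DualNumber A) 1).unit
    have h2 := conj_pe a hv tT (fun k => C (inr (δ k)))
    rw [hC, _root_.mul_one, mul_inv_cancel] at h2
    refine Eq.trans ?_ h2.symm
    congr 1
    funext k
    have hT : ∀ m : ℤ, ((tT ^ m : ((DualNumber A)[T;T⁻¹])ˣ) : (DualNumber A)[T;T⁻¹]) = LaurentPolynomial.T m := by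
      intro m
      induction m using Int.induction_on with
      | zero => simp
      | succ i hi => rw [zpow_add_one, Units.val_mul, hi, IsUnit.unit_spec, ← LaurentPolynomial.T_add]
      | pred i hi =>
        have e : tT⁻¹.val = LaurentPolynomial.T (-1) := by
          refine Units.inv_eq_of_mul_eq_one_right ?_
          rw [IsUnit.unit_spec, ← LaurentPolynomial.T_add]; simp
        rw [zpow_sub_one, Units.val_mul, hi, e, ← LaurentPolynomial.T_add, sub_eq_add_neg]
    rw [spread_inr, hT, Finset.sum_eq_single k (fun l _ hl => by simp [Pi.single_eq_of_ne hl]) (by simp),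
      Pi.single_eq_same]
    show _ = LaurentPolynomial.T (v k) * AddMonoidAlgebra.single 0 (inr (δ k))
    rw [LaurentPolynomial.T, AddMonoidAlgebra.single_mul_single, add_zero, _root_.one_mul]
  funext j
  have h3 := congrArg (fun g => aM a (coordTo (R := R) j) ≫ g) hP
  simp only [MonObj.comp_one, aM_pe, P, coordTo_inr] at h3
  have e : (fun k => (inr ((Pi.single k (δ k) : Fin n → A) j) : DualNumber A)) =
      fun k => if k = j then inr (δ j) else 0 := by
    funext k
    rcases eq_or_ne k j with rfl | hk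
    · simp
    · simp [hk, Pi.single_eq_of_ne hk.symm]
  rw [e, pe_single, ← el_zero a (p j)] at h3
  exact congrArg TrivSqZeroExt.snd (el_injective a (p j) h3)

/-- **The product map is injective.** -/
theorem pe_injective {n : ℕ} {γ₀ γ₁ : Red.Gm S ⟶ G} {p : Fin n → (Red.Ga S ⟶ G)} [∀ k, IsMonHom (p k)]
    [∀ k, Mono (p k)] {w v : Fin n → ℤ} (hw : HasWeights γ₀ p w) (hpos : ∀ k, 0 < w k)
    (hv : HasWeights γ₁ p v) (hinj : Function.Injective v) : Function.Injective (pe a p : (Fin n → A) → _) := by
  intro x x' h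
  -- the contracted equality
  let t : Polynomial A := Polynomial.X
  let ι₀ : A →ₐ[R] Polynomial A := IsScalarTower.toAlgHom R A (Polynomial A)
  have hX : pe a p (fun k => t ^ (w k).toNat * ι₀ (x k)) = pe a p (fun k => t ^ (w k).toNat * ι₀ (x' k)) := by
    let tl : Polynomial A →ₐ[R] A[T;T⁻¹] := (Polynomial.toLaurentAlg (R := A)).restrictScalars R
    refine ext_of_injective tl Polynomial.toLaurent_injective ?_
    let tT : (A[T;T⁻¹])ˣ := (LaurentPolynomial.isUnit_T (R := A) 1).unit
    have hc : ∀ (y : Fin n → A), aM a tl ≫ pe a p (fun k => t ^ (w k).toNat * ι₀ (y k)) =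
        gel a γ₀ tT * pe a p (fun k => tl (ι₀ (y k))) * (gel a γ₀ tT)⁻¹ := fun y => by
      rw [conj_pe a hw, aM_pe]
      congr 1
      funext k
      rw [map_mul, map_pow]
      congr 1
      obtain ⟨m, hm⟩ := Int.eq_ofNat_of_zero_le (hpos k).le
      rw [hm, Int.toNat_natCast, zpow_natCast, Units.val_pow_eq_pow_val, IsUnit.unit_spec]
      congr 1
      exact Polynomial.toLaurent_X
    rw [hc, hc]
    show gel a γ₀ tT * pe a p (fun k => (tl.comp ι₀) (x k)) * (gel a γ₀ tT)⁻¹ =
      gel a γ₀ tT * pe a p (fun k => (tl.comp ι₀) (x' k)) * (gel a γ₀ tT)⁻¹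
    rw [← aM_pe a (tl.comp ι₀) p x, ← aM_pe a (tl.comp ι₀) p x', h]
  have key : ∀ (d : ℕ) (k : Fin n), (w k).toNat ≤ d → x k = x' k := by
    intro d
    induction d with
    | zero => intro k hk; have := hpos k; omega
    | succ d ih =>
      intro k₀ hk₀
      rcases Nat.lt_or_eq_of_le hk₀ with hlt | heq
      · exact ih k₀ (Nat.lt_succ_iff.1 hlt)
      let I : Ideal (Polynomial A) := Ideal.span {t ^ (d + 2)}
      let q : Polynomial A →ₐ[R] Polynomial A ⧸ I := Ideal.Quotient.mkₐ R I
      have hq : ∀ m, d + 2 ≤ m → q t ^ m = 0 := fun m hm => by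
        rw [← map_pow]
        exact Ideal.Quotient.eq_zero_iff_mem.2 (Ideal.mem_span_singleton.2 (pow_dvd_pow t hm))
      let δ : Fin n → A := fun k => if (w k).toNat = d + 1 then x k - x' k else 0
      let z : Fin n → Polynomial A ⧸ I := fun k => q t ^ (w k).toNat * q (ι₀ (x' k))
      let ee : Fin n → Polynomial A ⧸ I := fun k => q (ι₀ (δ k)) * q t ^ (d + 1)
      have hx : ∀ k, q (t ^ (w k).toNat * ι₀ (x k)) = z k + ee k := fun k => by
        simp only [z, ee, δ, map_mul, map_pow]
        rcases lt_trichotomy (w k).toNat (d + 1) with h1 | h1 | h1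
        · rw [if_neg h1.ne, ih k (Nat.lt_succ_iff.1 h1)]; simp
        · rw [if_pos h1, h1, map_sub, map_sub]; ring
        · rw [if_neg h1.ne', hq _ h1]; simp
      have hee : pe a p ee = 1 := by
        have h4 := congrArg (fun g => aM a q ≫ g) hX
        simp only [aM_pe] at h4
        have e1 : (fun k => q (t ^ (w k).toNat * ι₀ (x k))) = fun k => z k + ee k := funext hx
        have e2 : (fun k => q (t ^ (w k).toNat * ι₀ (x' k))) = z := funext fun k => by
          simp only [z, map_mul, map_pow]
        rw [e1, e2, pe_add a p (fun k l => ?_)] at h4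
        · exact mul_eq_left.1 h4
        · have := hpos k
          calc z k * ee l = q (ι₀ (x' k)) * q (ι₀ (δ l)) * q t ^ ((w k).toNat + (d + 1)) := by
                simp only [z, ee, pow_add]; ring
            _ = 0 := by rw [hq _ (by omega), mul_zero]
      have hsq : q t ^ (d + 1) * q t ^ (d + 1) = 0 := by rw [← pow_add]; exact hq _ (by omega)
      let ψ : DualNumber A →ₐ[R] Polynomial A ⧸ I := dualTo (q.comp ι₀) (q t ^ (d + 1)) hsq
      have hψ : Function.Injective ψ := by
        refine (injective_iff_map_eq_zero _).2 fun y hy => ?_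
        rw [← TrivSqZeroExt.inl_fst_add_inr_snd_eq y, map_add, dualTo_inl, dualTo_inr, AlgHom.comp_apply,
          AlgHom.comp_apply, ← map_pow, ← map_mul, ← map_add] at hy
        have hy' := Polynomial.X_pow_dvd_iff.1 (Ideal.mem_span_singleton.1 (Ideal.Quotient.eq_zero_iff_mem.1 hy))
        have e0 := hy' 0 (by omega)
        have e1 := hy' (d + 1) (by omega)
        simp [ι₀, t] at e0 e1
        exact TrivSqZeroExt.ext e0 e1
      have h5 : pe a p (fun k => (inr (δ k) : DualNumber A)) = 1 := by
        refine ext_of_injective ψ hψ ?_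
        rw [aM_pe, MonObj.comp_one, ← hee]
        congr 1
        funext k
        exact dualTo_inr _ _ _ _
      have h6 := congrFun (indep a hv hinj h5) k₀
      simp only [δ, heq, if_true, Pi.zero_apply, sub_eq_zero] at h6
      exact h6
  funext k
  exact key _ k le_rfl

end SplitCell

end
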