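import Groth.Agent.SplitCellLib.Cell
import Groth.Agent.SplitCellLib.Dim
import Groth.Agent.FibDimLib.SchemeInv
import Groth.Agent.FibDimLib.Comps
import Groth.Agent.Unram17Lib.EtaleRank

/-!
# The big cell is open
-/

set_option autoImplicit false
set_option linter.style.haveILetI false
set_option backward.isDefEq.respectTransparency false
set_option maxHeartbeats 1000000

universe u

open CategoryTheory CategoryTheory.Limits MonoidalCategory CartesianMonoidalCategory AlgebraicGeometry
open scoped MonObj

noncomputable section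

namespace SplitCell

variable {S : Scheme.{u}}

theorem smoothRel_tensor {X Y : Over S} (m n : ℕ) [SmoothOfRelativeDimension m X.hom]
    [SmoothOfRelativeDimension n Y.hom] : SmoothOfRelativeDimension (n + m) (X ⊗ Y).hom := by
  haveI := AlgebraicGeometry.smoothOfRelativeDimension_isStableUnderBaseChange n
  haveI : SmoothOfRelativeDimension n (pullback.fst X.hom Y.hom) :=
    MorphismProperty.pullback_fst (P := @SmoothOfRelativeDimension n) _ _ inferInstance
  show SmoothOfRelativeDimension (n + m) (pullback.fst X.hom Y.hom ≫ X.hom)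
  infer_instance

theorem smoothRel_pow : ∀ n : ℕ, SmoothOfRelativeDimension n (RedSub.pow (Red.Ga S) n).hom
  | 0 => inferInstanceAs (SmoothOfRelativeDimension 0 (𝟙 S))
  | n + 1 => by
    haveI := smoothRel_pow n
    haveI := smoothRel_Ga S
    exact smoothRel_tensor (X := Red.Ga S) (Y := RedSub.pow (Red.Ga S) n) 1 n

variable {G : Over S} [GrpObj G] (D : Red.SplitRed G) (b : Sides D.P)

theorem smoothRel_T : SmoothOfRelativeDimension (Module.finrank ℤ D.M) D.T.hom := by
  let e : D.T ≅ Red.DS S D.M :=
    ⟨D.split.hom.hom.hom, D.split.inv.hom.hom, by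
      change (D.split.hom ≫ D.split.inv).hom.hom = _
      rw [D.split.hom_inv_id]; rfl, by
      change (D.split.inv ≫ D.split.hom).hom.hom = _
      rw [D.split.inv_hom_id]; rfl⟩
  haveI := smoothRel_DS S D.M
  haveI : IsIso e.hom.left := ((Over.forget S).mapIso e).isIso_hom
  rw [← Over.w e.hom]
  have h := (inferInstance : SmoothOfRelativeDimension (0 + Module.finrank ℤ D.M) (e.hom.left ≫ (Red.DS S D.M).hom))
  rwa [Nat.zero_add] at h

theorem smoothRel_cell (n m : ℕ) : SmoothOfRelativeDimension (m + Module.finrank ℤ D.M + n)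
    (RedSub.pow (Red.Ga S) n ⊗ (D.T ⊗ RedSub.pow (Red.Ga S) m)).hom := by
  haveI := smoothRel_pow (S := S) n
  haveI := smoothRel_pow (S := S) m
  haveI := smoothRel_T D
  haveI := smoothRel_tensor (X := D.T) (Y := RedSub.pow (Red.Ga S) m) (Module.finrank ℤ D.M) m
  exact smoothRel_tensor n (m + Module.finrank ℤ D.M)

theorem fibreDimAt_field {K : Type u} [Field K] {X : Scheme.{u}} (f : X ⟶ Spec (CommRingCat.of K))
    [LocallyOfFiniteType f] [IrreducibleSpace X] (x : X) : FlatMor.fibreDimAt f x = topologicalKrullDim X := by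
  have hx : f.base ⁻¹' {f.base x} = Set.univ := Set.eq_univ_of_forall fun z =>
    Subsingleton.elim (α := PrimeSpectrum K) _ _
  have h : Topology.IsOpenEmbedding (f.fiberι (f.base x)).base :=
    ⟨(f.fiberι _).isEmbedding, by rw [f.range_fiberι, hx]; exact isOpen_univ⟩
  rw [FlatMor.fibreDimAt, ← FibDimLib.localDim_eq_of_isOpenEmbedding h]
  exact FibDimLib.localDim_of_irreducible f _

theorem fibreDimAt_split (x : G.left) :
    FlatMor.fibreDimAt G.hom x = ((Module.finrank ℤ D.M + Fintype.card D.idx : ℕ) : WithBot ℕ∞) := by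
  haveI : Smooth G.hom := D.reductive.2.1
  let s := G.hom x
  obtain ⟨z, hz⟩ : ∃ z, Red.geomPt s z = s := by
    obtain ⟨z⟩ : Nonempty (Spec (CommRingCat.of (AlgebraicClosure (S.residueField s))) : Scheme.{u}) := inferInstance
    exact ⟨z, (Scheme.Hom.comp_apply _ _ _).trans (Scheme.fromSpecResidueField_apply _ _)⟩
  obtain ⟨x', hx', -⟩ := Scheme.Pullback.exists_preimage_pullback (f := G.hom) (g := Red.geomPt s) x z hz.symm
  haveI : IrreducibleSpace ↥(pullback G.hom (Red.geomPt s)) :=
    (Groth.Agent.BigCell.conn_of_isReductive D.reductive).irreducible (Red.geomPt s)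
  haveI : LocallyOfFiniteType (pullback.snd G.hom (Red.geomPt s)) := inferInstance
  have h := FibDimLib.fibreDimAt_baseChange (IsPullback.of_hasPullback G.hom (Red.geomPt s)) x'
  rw [fibreDimAt_field] at h
  rw [← hx', ← h]
  exact D.dim_fibre s

theorem card_idx {n m : ℕ} {eneg : Fin n → D.idx} {epos : Fin m → D.idx}
    (hneg : RedSub.Enumerates b.neg eneg) (hpos : RedSub.Enumerates b.pos epos) :
    n + m = Fintype.card D.idx := by
  classical
  have hbij : Function.Bijective (Sum.elim eneg epos) := by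
    refine ⟨Function.Injective.sumElim hneg.1 hpos.1 fun i j h => ?_, fun k => ?_⟩
    · exact b.notMem_neg (hpos.2 ▸ ⟨j, rfl⟩ : epos j ∈ b.pos)
        (h ▸ (hneg.2 ▸ ⟨i, rfl⟩ : eneg i ∈ b.neg))
    · rcases b.total k with hk | hk
      · obtain ⟨j, rfl⟩ := hpos.2.symm ▸ hk
        exact ⟨Sum.inr j, rfl⟩
      · obtain ⟨j, rfl⟩ := hneg.2.symm ▸ hk
        exact ⟨Sum.inl j, rfl⟩
  rw [← Fintype.card_of_bijective hbij]
  simp

/-- **The big cell is an open subscheme.** -/
theorem isOpenImmersion_cellMap {n m : ℕ} {eneg : Fin n → D.idx} {epos : Fin m → D.idx}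
    (hneg : RedSub.Enumerates b.neg eneg) (hpos : RedSub.Enumerates b.pos epos) :
    IsOpenImmersion (RedSub.cellMap D eneg epos).left := by
  haveI : Smooth G.hom := D.reductive.2.1
  haveI := mono_cellMap D b hneg hpos
  haveI := smoothRel_cell D n m
  let g := (RedSub.cellMap D eneg epos).left
  have hw : g ≫ G.hom = _ := Over.w (RedSub.cellMap D eneg epos)
  haveI : Smooth (g ≫ G.hom) := by
    rw [hw]
    exact SmoothOfRelativeDimension.smooth (m + Module.finrank ℤ D.M + n) _
  refine (Unram17Lib.isOpenImmersion_iff_mono G.hom g).2 ⟨Over.mono_left_of_mono (RedSub.cellMap D eneg epos), fun x => ?_⟩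
  rw [fibreDimAt_split]
  haveI : SmoothOfRelativeDimension (m + Module.finrank ℤ D.M + n) (g ≫ G.hom) := hw ▸ inferInstance
  rw [FibDimLib.fibreDimAt_smoothOfRelativeDimension (m + Module.finrank ℤ D.M + n) (g ≫ G.hom) x,
    ← card_idx D b hneg hpos]
  norm_cast
  omega

end SplitCell

end
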