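import Groth.Agent.BigCellLib.Cell
import Groth.Prelude

/-!
# Points of an affine group scheme with values in algebras over a fixed affine point of the base

Morphisms out of spectra are detected along jointly injective families of algebra maps, and a morphism over an
intersection of two algebras is given by a compatible pair.
-/

set_option autoImplicit false
set_option linter.style.haveILetI false
set_option backward.isDefEq.respectTransparency false
set_option maxHeartbeats 800000

universe u

open CategoryTheory CategoryTheory.Limits MonoidalCategory CartesianMonoidalCategory AlgebraicGeometry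
open Groth.Agent.GaPts
open Groth.Agent.RankOne (eq_ptOf ptOf_add comp_ptOf)
open scoped MonObj

noncomputable section

namespace SplitCell

open Groth.Agent.BigCell (rt rt_add rt_zero rt_neg comp_rt rt_eq)

variable {S : Scheme.{u}} {R : Type u} [CommRing R] (a : Spec (CommRingCat.of R) ⟶ S)

/-- The affine point given by an algebra over the fixed affine point. -/
abbrev aP (A : Type u) [CommRing A] [Algebra R A] : Over S :=
  Over.mk (Spec.map (CommRingCat.ofHom (algebraMap R A)) ≫ a)

variable {A A' : Type u} [CommRing A] [Algebra R A] [CommRing A'] [Algebra R A']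

/-- The morphism of affine points given by an algebra map. -/
def aM (φ : A →ₐ[R] A') : aP a A' ⟶ aP a A :=
  Over.homMk (Spec.map (CommRingCat.ofHom (φ : A →+* A'))) (by
    show Spec.map _ ≫ Spec.map _ ≫ a = Spec.map _ ≫ a
    rw [← Category.assoc, ← Spec.map_comp, ← CommRingCat.ofHom_comp, φ.comp_algebraMap])

theorem aM_id : aM a (AlgHom.id R A) = 𝟙 (aP a A) := Over.OverMorphism.ext (by
  show Spec.map (CommRingCat.ofHom (RingHom.id A)) = _
  rw [CommRingCat.ofHom_id, Spec.map_id]; rfl)

theorem aM_comp {A'' : Type u} [CommRing A''] [Algebra R A''] (φ : A →ₐ[R] A') (ψ : A' →ₐ[R] A'') :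
    aM a (ψ.comp φ) = aM a ψ ≫ aM a φ := Over.OverMorphism.ext (by
  show Spec.map (CommRingCat.ofHom ((ψ : A' →+* A'').comp (φ : A →+* A'))) = _
  rw [CommRingCat.ofHom_comp, Spec.map_comp]; rfl)

/-- The functions on an affine point. -/
def cst (A : Type u) [CommRing A] [Algebra R A] : A →+* Γ((aP a A).left, ⊤) :=
  (Scheme.ΓSpecIso (CommRingCat.of A)).inv.hom

theorem cst_bijective : Function.Bijective (cst a A) :=
  ConcreteCategory.bijective_of_isIso (Scheme.ΓSpecIso (CommRingCat.of A)).inv

theorem aM_cst (φ : A →ₐ[R] A') (r : A) : (aM a φ).left.appTop (cst a A r) = cst a A' (φ r) := by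
  change (Spec.map (CommRingCat.ofHom (φ : A →+* A'))).appTop ((Scheme.ΓSpecIso (CommRingCat.of A)).inv r) = _
  exact congr($((Scheme.ΓSpecIso_inv_naturality (CommRingCat.ofHom (φ : A →+* A'))).symm) r)

section Detect

variable {a} {G : Over S} [IsAffineHom G.hom]

/-- The ring map attached to a point. -/
def toB (x : aP a A ⟶ G) : Γ(pullback G.hom a, ⊤) →+* A :=
  ((pullback.lift x.left (Spec.map (CommRingCat.ofHom (algebraMap R A))) (Over.w x)).appTop ≫
    (Scheme.ΓSpecIso (CommRingCat.of A)).hom).hom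

theorem toB_comp (φ : A →ₐ[R] A') (x : aP a A ⟶ G) : toB (aM a φ ≫ x) = (φ : A →+* A').comp (toB x) := by
  have e : pullback.lift (aM a φ ≫ x).left (Spec.map (CommRingCat.ofHom (algebraMap R A'))) (Over.w (aM a φ ≫ x)) =
      Spec.map (CommRingCat.ofHom (φ : A →+* A')) ≫
        pullback.lift x.left (Spec.map (CommRingCat.ofHom (algebraMap R A))) (Over.w x) := by
    refine pullback.hom_ext ?_ ?_
    · rw [Category.assoc, pullback.lift_fst, pullback.lift_fst]; rfl
    · rw [Category.assoc, pullback.lift_snd, pullback.lift_snd, ← Spec.map_comp, ← CommRingCat.ofHom_comp,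
        φ.comp_algebraMap]
  rw [toB, e, Scheme.Hom.comp_appTop, Category.assoc, Scheme.ΓSpecIso_naturality]
  rfl

theorem toB_injective : Function.Injective (toB (a := a) (A := A) (G := G)) := by
  intro x y h
  haveI : IsAffineHom (pullback.snd G.hom a) := MorphismProperty.pullback_snd _ _ inferInstance
  haveI : IsAffine (pullback G.hom a) := isAffine_of_isAffineHom (pullback.snd G.hom a)
  have h' := CommRingCat.hom_ext h
  rw [Iso.cancel_iso_hom_right] at h'
  refine Over.OverMorphism.ext ?_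
  have := congrArg (fun f => f ≫ pullback.fst G.hom a) (ext_of_isAffine h')
  simpa only [pullback.lift_fst] using this

/-- Points are detected by a jointly injective family. -/
theorem ext_of_jointly_injective {J : Type*} {B : J → Type u} [∀ j, CommRing (B j)] [∀ j, Algebra R (B j)]
    (φ : ∀ j, A →ₐ[R] B j) (hφ : ∀ r r' : A, (∀ j, φ j r = φ j r') → r = r')
    {x y : aP a A ⟶ G} (h : ∀ j, aM a (φ j) ≫ x = aM a (φ j) ≫ y) : x = y := by
  refine toB_injective (RingHom.ext fun b => hφ _ _ fun j => ?_)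
  have := congrArg toB (h j)
  rw [toB_comp, toB_comp] at this
  exact RingHom.congr_fun this b

theorem ext_of_injective (φ : A →ₐ[R] A') (hφ : Function.Injective φ) {x y : aP a A ⟶ G}
    (h : aM a φ ≫ x = aM a φ ≫ y) : x = y :=
  ext_of_jointly_injective (fun _ : Unit => φ) (fun r r' e => hφ (e ())) fun _ => h

/-- A point over two algebras meeting in `A` comes from `A`. -/
theorem exists_of_inter {B₁ B₂ B : Type u} [CommRing B₁] [Algebra R B₁] [CommRing B₂] [Algebra R B₂] [CommRing B]
    [Algebra R B] (i₁ : A →ₐ[R] B₁) (φ₁ : B₁ →ₐ[R] B) (φ₂ : B₂ →ₐ[R] B)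
    (hφ₁ : Function.Injective φ₁) (hi : ∀ r₁ r₂, φ₁ r₁ = φ₂ r₂ → ∃ r, i₁ r = r₁) (hi₁ : Function.Injective i₁)
    {x₁ : aP a B₁ ⟶ G} {x₂ : aP a B₂ ⟶ G} (h : aM a φ₁ ≫ x₁ = aM a φ₂ ≫ x₂) :
    ∃ x : aP a A ⟶ G, aM a i₁ ≫ x = x₁ := by
  haveI : IsAffineHom (pullback.snd G.hom a) := MorphismProperty.pullback_snd _ _ inferInstance
  haveI : IsAffine (pullback G.hom a) := isAffine_of_isAffineHom (pullback.snd G.hom a)
  have hb := congrArg toB h
  rw [toB_comp, toB_comp] at hb
  have hmem : ∀ b, toB x₁ b ∈ i₁.toRingHom.range := fun b => hi _ _ (RingHom.congr_fun hb b)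
  let χ : Γ(pullback G.hom a, ⊤) →+* A :=
    (RingEquiv.ofBijective i₁.toRingHom.rangeRestrict
      ⟨fun r r' e => hi₁ (congrArg Subtype.val e), RingHom.rangeRestrict_surjective _⟩).symm.toRingHom.comp
      ((toB x₁).codRestrict _ hmem)
  have hχ : (i₁ : A →+* B₁).comp χ = toB x₁ := RingHom.ext fun b => by
    have e := (RingEquiv.ofBijective i₁.toRingHom.rangeRestrict
      ⟨fun r r' e => hi₁ (congrArg Subtype.val e), RingHom.rangeRestrict_surjective _⟩).apply_symm_apply
      ((toB x₁).codRestrict _ hmem b)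
    exact congrArg Subtype.val e
  -- the point
  let p : Spec (CommRingCat.of A) ⟶ pullback G.hom a :=
    Spec.map (CommRingCat.ofHom χ) ≫ (pullback G.hom a).isoSpec.inv
  have hp : Spec.map (CommRingCat.ofHom (i₁ : A →+* B₁)) ≫ p =
      pullback.lift x₁.left (Spec.map (CommRingCat.ofHom (algebraMap R B₁))) (Over.w x₁) := by
    refine ext_of_isAffine ?_
    rw [← cancel_mono (Scheme.ΓSpecIso (CommRingCat.of B₁)).hom]
    simp only [p, Scheme.Hom.comp_appTop, Category.assoc, Groth.Agent.BigCell.isoSpec_inv_appTop,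
      Scheme.ΓSpecIso_naturality, Scheme.ΓSpecIso_naturality_assoc, Iso.inv_hom_id_assoc]
    refine Eq.trans ?_ (CommRingCat.hom_ext hχ : CommRingCat.ofHom ((i₁ : A →+* B₁).comp χ) = CommRingCat.ofHom (toB x₁))
    erw [Iso.inv_hom_id_assoc]
    rfl
  have hs : p ≫ pullback.snd G.hom a = Spec.map (CommRingCat.ofHom (algebraMap R A)) := by
    have h2 : Spec.map (CommRingCat.ofHom (i₁ : A →+* B₁)) ≫ p ≫ pullback.snd G.hom a =
        Spec.map (CommRingCat.ofHom (i₁ : A →+* B₁)) ≫ Spec.map (CommRingCat.ofHom (algebraMap R A)) := by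
      rw [← Category.assoc, hp, pullback.lift_snd, ← Spec.map_comp, ← CommRingCat.ofHom_comp, i₁.comp_algebraMap]
    obtain ⟨g, hg⟩ := Spec.map_surjective (p ≫ pullback.snd G.hom a)
    rw [← hg] at h2 ⊢
    rw [← Spec.map_comp, ← Spec.map_comp] at h2
    congr 1
    refine CommRingCat.hom_ext (RingHom.ext fun r => hi₁ ?_)
    exact congr($(Spec.map_injective h2) r)
  refine ⟨Over.homMk (p ≫ pullback.fst G.hom a) ?_, ?_⟩
  · show (p ≫ pullback.fst G.hom a) ≫ G.hom = Spec.map _ ≫ a
    rw [Category.assoc, pullback.condition, ← Category.assoc, hs]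
  · refine Over.OverMorphism.ext ?_
    show Spec.map _ ≫ p ≫ pullback.fst G.hom a = _
    rw [← Category.assoc, hp, pullback.lift_fst]

end Detect

/-! ## Values of homomorphisms from `𝔾_a` and `𝔾_m` -/

section Values

variable {G : Over S} [GrpObj G]

/-- The value of `p` at an element. -/
def el (p : Red.Ga S ⟶ G) (r : A) : aP a A ⟶ G := rt p (cst a A r)

theorem aM_el (φ : A →ₐ[R] A') (p : Red.Ga S ⟶ G) (r : A) : aM a φ ≫ el a p r = el a p (φ r) := by
  rw [el, comp_rt, aM_cst, el]

theorem el_add (p : Red.Ga S ⟶ G) [IsMonHom p] (r s : A) : el a p (r + s) = el a p r * el a p s := by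
  rw [el, map_add, rt_add]; rfl

theorem el_zero (p : Red.Ga S ⟶ G) [IsMonHom p] : el a p (0 : A) = 1 := by
  rw [el, map_zero, rt_zero]

theorem el_neg (p : Red.Ga S ⟶ G) [IsMonHom p] (r : A) : el a p (-r) = (el a p r)⁻¹ := by
  rw [el, map_neg, rt_neg]; rfl

theorem el_injective (p : Red.Ga S ⟶ G) [Mono p] : Function.Injective (el a p : A → (aP a A ⟶ G)) := by
  intro r s h
  have h' := congrArg Red.gaFn ((cancel_mono p).1 (show ptOf (cst a A r) ≫ p = ptOf (cst a A s) ≫ p from h))
  rw [gaFn_ptOf, gaFn_ptOf] at h'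
  exact (cst_bijective a).1 h'

/-- The value of `γ` at a unit. -/
def gel (γ₀ : Red.Gm S ⟶ G) (z : Aˣ) : aP a A ⟶ G :=
  (GmPts.ptOfUnit (Units.map (cst a A).toMonoidHom z) : aP a A ⟶ Red.Gm S) ≫ γ₀

theorem aM_gel (φ : A →ₐ[R] A') (γ₀ : Red.Gm S ⟶ G) (z : Aˣ) :
    aM a φ ≫ gel a γ₀ z = gel a γ₀ (Units.map φ.toRingHom.toMonoidHom z) := by
  rw [gel, ← Category.assoc, gel]
  congr 1
  refine Groth.Agent.RankOne.eq_ptOfUnit _ ?_
  rw [GmPts.gmFn_comp, ← GmPts.val_unitOfPt, GmPts.unitOfPt_ptOfUnit]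
  exact aM_cst a φ z

end Values

end SplitCell

end
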