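import Groth.Prelude
import Mathlib.LinearAlgebra.Basis.VectorSpace
import Mathlib.RingTheory.Localization.Module
import Mathlib.Algebra.Polynomial.Roots

/-!
# Functionals separating roots

A base of a root datum on a free lattice is detected by a functional, and finitely many vectors are separated by one.
-/

set_option autoImplicit false

noncomputable section

namespace SplitCell

open RootPairing

variable {M : Type} [AddCommGroup M] [Module.Free ℤ M] [Module.Finite ℤ M]

/-- A functional positive on linearly independent vectors. -/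
theorem exists_pos_functional {J : Type} [Finite J] (v : J → M) (hv : LinearIndependent ℤ v) :
    ∃ g : M →ₗ[ℤ] ℤ, ∀ j, 0 < g (v j) := by
  classical
  let B := Module.Free.chooseBasis ℤ M
  let K := Module.Free.ChooseBasisIndex ℤ M
  let φ : M →ₗ[ℤ] (K → ℚ) :=
    (LinearMap.pi fun k => (Algebra.linearMap ℤ ℚ).comp (LinearMap.proj k)).comp B.equivFun.toLinearMap
  have hφ : LinearMap.ker φ = ⊥ := LinearMap.ker_eq_bot.2 fun x y h => by
    refine B.equivFun.injective (funext fun k => ?_)
    exact Int.cast_injective (α := ℚ) (by simpa [φ] using congrFun h k)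
  have hq : LinearIndependent ℚ (φ ∘ v) :=
    (LinearIndependent.iff_fractionRing ℤ ℚ).1 (hv.map' φ hφ)
  let Bq := Module.Basis.sumExtend hq
  let f : (K → ℚ) →ₗ[ℚ] ℚ := Bq.constr ℚ fun _ => (1 : ℚ)
  have hf : ∀ j, f (φ (v j)) = 1 := fun j => by
    have e : Bq (Sum.inl j) = φ (v j) := by simp [Bq, Module.Basis.sumExtend]; rfl
    rw [← e]
    simp [f]
  let d : ℕ := ∏ k : K, (f (Pi.single k (1 : ℚ))).den
  have hd : (0 : ℚ) < d := by
    have : 0 < d := Finset.prod_pos fun k _ => (f (Pi.single k (1 : ℚ))).den_pos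
    exact_mod_cast this
  have hint : ∀ k : K, ∃ z : ℤ, (d : ℚ) * f (Pi.single k (1 : ℚ)) = z := fun k => by
    obtain ⟨c, hc⟩ : (f (Pi.single k (1 : ℚ))).den ∣ d := Finset.dvd_prod_of_mem _ (Finset.mem_univ k)
    refine ⟨c * (f (Pi.single k (1 : ℚ))).num, ?_⟩
    rw [hc]
    push_cast
    have := Rat.mul_den_eq_num (f (Pi.single k (1 : ℚ)))
    linear_combination (c : ℚ) * this
  choose z hz using hint
  refine ⟨B.constr ℤ z, fun j => ?_⟩
  have key : ∀ m : M, ((B.constr ℤ z m : ℤ) : ℚ) = d * f (φ m) := by
    have h1 : (Algebra.linearMap ℤ ℚ).comp (B.constr ℤ z) = (d : ℚ) • ((f.restrictScalars ℤ).comp φ) := B.ext fun k => by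
      simp only [LinearMap.comp_apply, B.constr_basis, Algebra.linearMap_apply, LinearMap.smul_apply,
        LinearMap.restrictScalars_apply, smul_eq_mul]
      rw [eq_intCast, ← hz k]
      congr 2
      funext l
      simp [φ, Pi.single_apply, Finsupp.single_apply, eq_comm]
    exact fun m => by simpa using LinearMap.congr_fun h1 m
  have h2 := key (v j)
  rw [hf] at h2
  exact_mod_cast (show (0 : ℚ) < (B.constr ℤ z (v j) : ℤ) by rw [h2]; linarith)

/-- A functional separating finitely many vectors. -/
theorem exists_injective_functional {J : Type} [Finite J] (v : J → M) (hv : Function.Injective v) :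
    ∃ g : M →ₗ[ℤ] ℤ, Function.Injective (g ∘ v) := by
  classical
  haveI := Fintype.ofFinite J
  let B := Module.Free.chooseBasis ℤ M
  let K := Module.Free.ChooseBasisIndex ℤ M
  let e := Fintype.equivFin K
  let P : M →ₗ[ℤ] Polynomial ℤ := B.constr ℤ fun k => Polynomial.X ^ (e k : ℕ)
  have hP : Function.Injective P := by
    refine (injective_iff_map_eq_zero _).2 fun m hm => B.equivFun.injective ?_
    rw [map_zero]
    funext k
    have h1 : (Polynomial.lcoeff ℤ (e k : ℕ)).comp P = B.coord k := B.ext fun l => by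
      simp [P, Finsupp.single_apply, Polynomial.coeff_X_pow, Fin.val_inj, e.injective.eq_iff, eq_comm]
    have h := LinearMap.congr_fun h1 m
    rw [LinearMap.comp_apply, hm, map_zero] at h
    simpa using h.symm
  let T : Polynomial ℤ := ∏ q ∈ (Finset.univ.filter fun q : J × J => q.1 ≠ q.2), (P (v q.1) - P (v q.2))
  have hT : T ≠ 0 := Finset.prod_ne_zero_iff.2 fun q hq =>
    sub_ne_zero.2 fun h => (Finset.mem_filter.1 hq).2 (hv (hP h))
  obtain ⟨N, hN⟩ : ∃ N : ℤ, T.eval N ≠ 0 := by
    by_contra h
    push_neg at h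
    exact hT (Polynomial.zero_of_eval_zero T h)
  refine ⟨(Polynomial.aeval (R := ℤ) N).toLinearMap.comp P, fun i j h => by_contra fun hij => ?_⟩
  rw [Polynomial.eval_prod, Finset.prod_ne_zero_iff] at hN
  refine hN (i, j) (Finset.mem_filter.2 ⟨Finset.mem_univ _, hij⟩) ?_
  simpa [sub_eq_zero, Polynomial.coe_aeval_eq_eval] using h

variable {idx N : Type} [AddCommGroup N] (P : RootPairing idx ℤ M N) (b : P.Base)

omit [Module.Free ℤ M] [Module.Finite ℤ M] in
theorem pos_or_neg (i : idx) : i ∈ RedSub.posRoots P b ∨ i ∈ RedSub.negRoots P b := b.root_mem_or_neg_mem i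

variable [Finite idx]

/-- A functional positive on the positive roots and negative on the negative ones. -/
theorem exists_regular_functional :
    ∃ g : M →ₗ[ℤ] ℤ, (∀ i ∈ RedSub.posRoots P b, 0 < g (P.root i)) ∧ ∀ i ∈ RedSub.negRoots P b, g (P.root i) < 0 := by
  obtain ⟨g, hg⟩ := exists_pos_functional (fun j : b.support => P.root j) b.linearIndepOn_root
  have key : ∀ x ∈ AddSubmonoid.closure (P.root '' (b.support : Set idx)), x = 0 ∨ 0 < g x := by
    intro x hx
    induction hx using AddSubmonoid.closure_induction with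
    | mem x hx => obtain ⟨j, hj, rfl⟩ := hx; exact Or.inr (hg ⟨j, hj⟩)
    | zero => exact Or.inl rfl
    | add x y _ _ hx hy =>
      rcases hx with rfl | hx
      · simpa using hy
      rcases hy with rfl | hy
      · simpa using Or.inr hx
      exact Or.inr (by rw [map_add]; omega)
  refine ⟨g, fun i hi => ?_, fun i hi => ?_⟩
  · exact (key _ hi).resolve_left (P.ne_zero i)
  · have h := (key _ hi).resolve_left (neg_ne_zero.2 (P.ne_zero i))
    rw [map_neg] at h
    omega

theorem notMem_neg_of_pos {i : idx} (h : i ∈ RedSub.posRoots P b) : i ∉ RedSub.negRoots P b := fun h' => by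
  obtain ⟨g, h1, h2⟩ := exists_regular_functional P b
  have := h1 i h
  have := h2 i h'
  omega

omit [Module.Free ℤ M] [Module.Finite ℤ M] [Finite idx] in
/-- A division of the roots in two sides by a functional. -/
structure Sides (P : RootPairing idx ℤ M N) where
  /-- the positive side -/
  pos : Set idx
  /-- the negative side -/
  neg : Set idx
  regular : ∃ g : M →ₗ[ℤ] ℤ, (∀ i ∈ pos, 0 < g (P.root i)) ∧ ∀ i ∈ neg, g (P.root i) < 0
  total : ∀ i, i ∈ pos ∨ i ∈ neg

/-- The two sides given by a base. -/
def sidesOfBase : Sides P :=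
  ⟨RedSub.posRoots P b, RedSub.negRoots P b, exists_regular_functional P b, pos_or_neg P b⟩

/-- Every root datum has two sides. -/
theorem exists_sides : Nonempty (Sides P) := by
  classical
  obtain ⟨g, hg⟩ := exists_injective_functional (fun i : Option idx => i.elim (0 : M) P.root) (by
    rintro (_ | i) (_ | j) h
    · rfl
    · exact absurd (h : (0 : M) = P.root j).symm (P.ne_zero j)
    · exact absurd (h : P.root i = (0 : M)) (P.ne_zero i)
    · exact congrArg some (P.root.injective h))
  have hne : ∀ i, g (P.root i) ≠ 0 := fun i h => by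
    have := @hg (some i) none (by simpa using h)
    cases this
  exact ⟨⟨{i | 0 < g (P.root i)}, {i | g (P.root i) < 0}, ⟨g, fun _ h => h, fun _ h => h⟩,
    fun i => (lt_or_gt_of_ne (hne i)).symm⟩⟩

variable {P}

omit [Module.Free ℤ M] [Module.Finite ℤ M] [Finite idx] in
theorem Sides.notMem_neg (σ : Sides P) {i : idx} (h : i ∈ σ.pos) : i ∉ σ.neg := fun h' => by
  obtain ⟨g, h1, h2⟩ := σ.regular
  have := h1 i h
  have := h2 i h'
  omega

end SplitCell

end
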