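import Groth.Agent.SplitCellLib.Limit
import Groth.Agent.SplitCellLib.Roots
import Groth.Agent.MultSubLib.Chars
import Groth.Agent.KummerExactLib.Basic

/-!
# Cocharacters of a splitting and points of products of root groups
-/

set_option autoImplicit false
set_option linter.style.haveILetI false
set_option backward.isDefEq.respectTransparency false
set_option maxHeartbeats 800000

universe u

open CategoryTheory CategoryTheory.Limits MonoidalCategory CartesianMonoidalCategory AlgebraicGeometry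
open Groth.Agent.GaPts
open scoped MonObj

noncomputable section

namespace SplitCell

open Groth.Agent.BigCell (rt rt_eq comp_rt)

variable {S : Scheme.{u}}

/-! ## Characters -/

attribute [local instance] DSPtsLib.algTop

theorem appTop_toSpecΓ_map {X : Scheme.{u}} {A : Type u} [CommRing A] (f : A →+* Γ(X, ⊤)) (s : A) :
    (X.toSpecΓ ≫ Spec.map (CommRingCat.ofHom f)).appTop ((Scheme.ΓSpecIso (CommRingCat.of A)).inv s) = f s := by
  rw [← ConcreteCategory.comp_apply, Scheme.Hom.comp_appTop, Scheme.toSpecΓ_appTop,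
    ← Scheme.ΓSpecIso_inv_naturality_assoc, Iso.inv_hom_id, Category.comp_id]
  rfl

theorem gmFn_dsPt {Y : Over S} (χ : Multiplicative ℤ →* Γ(Y.left, ⊤)) :
    Red.gmFn (DSPtsLib.dsPt χ : Y ⟶ Red.Gm S) = χ (Multiplicative.ofAdd 1) := by
  have h1 : (DSPtsLib.dsPt χ : Y ⟶ Red.Gm S).left ≫ pullback.fst _ _ =
      Y.left.toSpecΓ ≫ Spec.map (CommRingCat.ofHom
        (MonoidAlgebra.lift DSPtsLib.Z0.{u} Γ(Y.left, ⊤) (Multiplicative ℤ) χ).toRingHom) :=
    congrArg Over.Hom.left ((Adjunction.homEquiv_counit _ _ _ _).symm.trans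
      (((Over.mapPullbackAdj (DSPtsLib.toZ S)).homEquiv Y (Red.diag DSPtsLib.Z0.{u} ℤ)).symm_apply_apply _))
  rw [Red.gmFn, h1, Red.gmCoord]
  refine (appTop_toSpecΓ_map _ _).trans ?_
  exact (MonoidAlgebra.lift_single _ _ _).trans (one_smul _ _)

theorem chars_gm {Y : Over S} (h : Y ⟶ Red.Gm S) (k : ℤ) :
    MultSubLib.chars h (Multiplicative.ofAdd k) = ((GmPts.unitOfPt h ^ k : (Γ(Y.left, ⊤))ˣ) : Γ(Y.left, ⊤)) := by
  have h1 : (MultSubLib.chars h).toHomUnits = zpowersHom _ (GmPts.unitOfPt h) := by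
    refine MonoidHom.ext_mint (Units.ext ?_)
    rw [MonoidHom.coe_toHomUnits, zpowersHom_apply, toAdd_ofAdd, zpow_one, GmPts.val_unitOfPt]
    conv_rhs => rw [← MultSubLib.dsPt_chars h, gmFn_dsPt]
  have h2 := congrArg (fun F => ((F (Multiplicative.ofAdd k) : (Γ(Y.left, ⊤))ˣ) : Γ(Y.left, ⊤))) h1
  simpa using h2

theorem gmFn_chi {M : Type} [AddCommGroup M] {Y : Over S} (h : Y ⟶ Red.DS S M) (m : M) :
    Red.gmFn (h ≫ Red.chi S m) = MultSubLib.chars h (Multiplicative.ofAdd m) := by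
  conv_lhs => rw [← MultSubLib.dsPt_chars h, Red.chi, KummerExactLib.dsPt_DSmap, gmFn_dsPt]
  simp

variable {G : Over S} [GrpObj G]

/-- The cocharacter attached to a functional. -/
def coch (D : Red.SplitRed G) (f : D.M →ₗ[ℤ] ℤ) : Red.Gm S ⟶ G :=
  MultSubLib.dd S f.toAddMonoidHom.toMultiplicative ≫ D.split.inv.hom.hom ≫ D.i

variable (D : Red.SplitRed G)

/-- The value of the torus component. -/
def cochT (f : D.M →ₗ[ℤ] ℤ) {Y : Over S} (z : Y ⟶ Red.Gm S) : Y ⟶ D.T :=
  z ≫ MultSubLib.dd S f.toAddMonoidHom.toMultiplicative ≫ D.split.inv.hom.hom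

theorem cochT_comp (f : D.M →ₗ[ℤ] ℤ) {Y : Over S} (z : Y ⟶ Red.Gm S) : cochT D f z ≫ D.i = z ≫ coch D f := by
  simp [cochT, coch]

theorem gmFn_cochT (f : D.M →ₗ[ℤ] ℤ) {Y : Over S} (z : Y ⟶ Red.Gm S) (m : D.M) :
    Red.gmFn (cochT D f z ≫ D.split.hom.hom.hom ≫ Red.chi S m) =
      ((GmPts.unitOfPt z ^ f m : (Γ(Y.left, ⊤))ˣ) : Γ(Y.left, ⊤)) := by
  have e : D.split.inv.hom.hom ≫ D.split.hom.hom.hom = 𝟙 _ := by
    change (D.split.inv ≫ D.split.hom).hom.hom = _
    rw [D.split.inv_hom_id]; rfl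
  rw [cochT, Category.assoc, Category.assoc, reassoc_of% e, ← Category.assoc, gmFn_chi, MultSubLib.chars_comp_dd]
  exact chars_gm z (f m)

theorem isMonHom_u (k : D.idx) : IsMonHom (D.u k) := (D.rootHom k).1

theorem mono_u (k : D.idx) : Mono (D.u k) := by
  haveI := (D.rootHom k).2.1
  exact (Over.forget S).mono_of_mono_map (show Mono (D.u k).left from inferInstance)

theorem isMonHom_i : IsMonHom D.i := D.maximalTorus.1

theorem mono_i : Mono D.i := D.maximalTorus.2.1

/-- The torus acts on a root group through the root. -/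
theorem conj_torus (k : D.idx) {Y : Over S} (t : Y ⟶ D.T) (c : Γ(Y.left, ⊤)) :
    (t ≫ D.i) * rt (D.u k) c * (t ≫ D.i)⁻¹ =
      rt (D.u k) (Red.gmFn (t ≫ D.split.hom.hom.hom ≫ Red.chi S (D.P.root k)) * c) := by
  obtain ⟨y, hy, hy'⟩ := (D.rootHom k).2.2 Y t (ptOf c)
  rw [gaFn_ptOf] at hy'
  rw [← hy, rt_eq _ y hy']

theorem hasWeights_coch (f : D.M →ₗ[ℤ] ℤ) {n : ℕ} (e : Fin n → D.idx) :
    HasWeights (coch D f) (fun k => D.u (e k)) (fun k => f (D.P.root (e k))) := by
  intro j X z c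
  rw [← cochT_comp, conj_torus, gmFn_cochT, GmPts.unitOfPt_ptOfUnit]

theorem torus_comm {Y : Over S} (t t' : Y ⟶ D.T) : t * t' = t' * t := by
  haveI : Mono D.split.hom.hom.hom := by
    refine ⟨fun g h e => ?_⟩
    have e' := congrArg (fun x => x ≫ D.split.inv.hom.hom) e
    have e0 : D.split.hom.hom.hom ≫ D.split.inv.hom.hom = 𝟙 _ := by
      change (D.split.hom ≫ D.split.inv).hom.hom = _
      rw [D.split.hom_inv_id]; rfl
    simpa [Category.assoc, e0] using e'
  refine (cancel_mono D.split.hom.hom.hom).1 ?_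
  rw [MonObj.mul_comp, MonObj.mul_comp]
  refine MultSubLib.chars_injective ?_
  rw [MultSubLib.chars_mul, MultSubLib.chars_mul, mul_comm]

theorem commute_coch (f : D.M →ₗ[ℤ] ℤ) {Y : Over S} (z : Y ⟶ Red.Gm S) (t : Y ⟶ D.T) :
    Commute (z ≫ coch D f) (t ≫ D.i) := by
  haveI := isMonHom_i D
  rw [← cochT_comp]
  exact (MonObj.mul_comp _ _ _).symm.trans ((congrArg (· ≫ D.i) (torus_comm D _ _)).trans (MonObj.mul_comp _ _ _))

/-! ## Coordinates -/

section Coords

variable {R : Type u} [CommRing R] (a : Spec (CommRingCat.of R) ⟶ S) {A : Type u} [CommRing A] [Algebra R A]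

/-- The point of a power of `𝔾_a` with given coordinates. -/
def pw : {n : ℕ} → (Fin n → A) → (aP a A ⟶ RedSub.pow (Red.Ga S) n)
  | 0, _ => toUnit _
  | _ + 1, x => lift (ptOf (cst a A (x 0))) (pw fun k => x k.succ)

theorem pw_prodMap {n : ℕ} (p : Fin n → (Red.Ga S ⟶ G)) (x : Fin n → A) :
    pw a x ≫ RedSub.prodMap (Red.Ga S) n p = pe a p x := by
  induction n with
  | zero => exact MonObj.comp_one _
  | succ n ih =>
    rw [pe_succ, ← ih (fun k => p k.succ) fun k => x k.succ, pw, RedSub.prodMap, MonObj.comp_mul, lift_fst_assoc,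
      lift_snd_assoc]
    rfl

theorem exists_pw {n : ℕ} (x : aP a A ⟶ RedSub.pow (Red.Ga S) n) : ∃ v : Fin n → A, pw a v = x := by
  induction n with
  | zero => exact ⟨Fin.elim0, toUnit_unique _ _⟩
  | succ n ih =>
    obtain ⟨v, hv⟩ := ih (x ≫ snd _ _)
    obtain ⟨r, hr⟩ := (cst_bijective a).2 (Red.gaFn (x ≫ fst _ _))
    refine ⟨Fin.cons r v, ?_⟩
    rw [pw]
    simp only [Fin.cons_zero, Fin.cons_succ, hv, hr, ← Groth.Agent.RankOne.eq_ptOf _ rfl]
    exact (comp_lift x (fst _ _) (snd _ _)).symm.trans (by rw [lift_fst_snd]; exact Category.comp_id x)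

end Coords

end SplitCell

end
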