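import Groth.Agent.SplitCellLib.Comm
import Mathlib.Data.Fin.Tuple.Basic

/-!
# Weights of the coordinates of products of root elements with variable arguments
-/

set_option autoImplicit false
set_option linter.style.haveILetI false
set_option backward.isDefEq.respectTransparency false
set_option maxHeartbeats 1000000

universe u

open CategoryTheory CategoryTheory.Limits MonoidalCategory CartesianMonoidalCategory AlgebraicGeometry
open Groth.Agent.GaPts
open scoped MonObj LaurentPolynomial

noncomputable section

namespace SplitCell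

variable {S : Scheme.{u}} {G : Over S} [GrpObj G] (D : Red.SplitRed G) (b : Sides D.P)
  {R : Type u} [CommRing R] (a : Spec (CommRingCat.of R) ⟶ S) {A : Type u} [CommRing A] [Algebra R A]

theorem pe_append {l l' : ℕ} (p : Fin l → (Red.Ga S ⟶ G)) (q : Fin l' → (Red.Ga S ⟶ G)) (x : Fin l → A)
    (y : Fin l' → A) : pe a (Fin.append p q) (Fin.append x y) = pe a p x * pe a q y := by
  rw [pe, pe, pe, ← List.prod_append, ← List.ofFn_fin_append]
  congr 1
  congr 1
  funext k
  refine Fin.addCases (fun i => ?_) (fun i => ?_) k <;> simp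

/-- An injective family in a set starts an enumeration of it. -/
theorem exists_append_enum {idx : Type} [Finite idx] {s : Set idx} {l : ℕ} (e : Fin l → idx)
    (he : Function.Injective e) (hs : ∀ k, e k ∈ s) :
    ∃ (l' : ℕ) (e' : Fin l' → idx), RedSub.Enumerates s (Fin.append e e') ∧ ∀ k, e' k ∉ Set.range e := by
  classical
  haveI := Fintype.ofFinite idx
  let t : Set idx := s \ Set.range e
  refine ⟨Fintype.card t, fun k => ((Fintype.equivFin t).symm k).1, ⟨?_, ?_⟩,
    fun k => ((Fintype.equivFin t).symm k).2.2⟩
  · intro i j h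
    induction i using Fin.addCases with
    | left i =>
      induction j using Fin.addCases with
      | left j => simp only [Fin.append_left] at h; rw [he h]
      | right j =>
        simp only [Fin.append_left, Fin.append_right] at h
        exact absurd ⟨i, h⟩ ((Fintype.equivFin t).symm j).2.2
    | right i =>
      induction j using Fin.addCases with
      | left j =>
        simp only [Fin.append_left, Fin.append_right] at h
        exact absurd ⟨j, h.symm⟩ ((Fintype.equivFin t).symm i).2.2
      | right j =>
        simp only [Fin.append_right] at h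
        rw [(Fintype.equivFin t).symm.injective (Subtype.ext h)]
  · ext x
    constructor
    · rintro ⟨i, rfl⟩
      induction i using Fin.addCases with
      | left i => simpa using hs i
      | right i => simpa using ((Fintype.equivFin t).symm i).2.1
    · intro hx
      by_cases h : x ∈ Set.range e
      · obtain ⟨i, rfl⟩ := h
        exact ⟨Fin.castAdd _ i, by simp⟩
      · exact ⟨Fin.natAdd _ (Fintype.equivFin t ⟨x, hx, h⟩), by simp⟩

variable {I : Type} [Fintype I]

/-- Substitution of multiples of the variables. -/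
def scaleVar (z : I → ℤ) : MvPolynomial I R →ₐ[R] (MvPolynomial I R)[T;T⁻¹] :=
  MvPolynomial.aeval fun i => LaurentPolynomial.T (z i) * toT R (MvPolynomial I R) (cC R (MvPolynomial I R) (MvPolynomial.X i))

theorem scaleVar_monomial (z : I → ℤ) (d : I →₀ ℕ) (c : R) :
    scaleVar z (MvPolynomial.monomial d c) =
      AddMonoidAlgebra.single (∑ i, (d i : ℤ) * z i) (MvPolynomial.monomial d c) := by
  classical
  rw [MvPolynomial.monomial_eq, map_mul, Finsupp.prod_fintype _ _ (fun i => pow_zero _), map_prod]
  simp only [scaleVar, map_pow, MvPolynomial.aeval_X, MvPolynomial.aeval_C, toT_cC, LaurentPolynomial.T,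
    AddMonoidAlgebra.single_mul_single, AddMonoidAlgebra.single_pow, _root_.one_mul, add_zero]
  rw [show algebraMap R (MvPolynomial I R)[T;T⁻¹] c = AddMonoidAlgebra.single 0 (MvPolynomial.C c) from rfl]
  have h : ∀ t : Finset I, (∏ i ∈ t, AddMonoidAlgebra.single ((d i) • z i) ((MvPolynomial.X i : MvPolynomial I R) ^ d i)) =
      AddMonoidAlgebra.single (∑ i ∈ t, (d i : ℤ) * z i) (∏ i ∈ t, (MvPolynomial.X i : MvPolynomial I R) ^ d i) := by
    intro t
    induction t using Finset.induction with
    | empty =>
      rw [Finset.prod_empty, Finset.sum_empty, Finset.prod_empty]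
      rfl
    | insert i t hi ih =>
      rw [Finset.prod_insert hi, ih, AddMonoidAlgebra.single_mul_single, Finset.sum_insert hi, Finset.prod_insert hi]
      rw [nsmul_eq_mul]
  rw [h, AddMonoidAlgebra.single_mul_single, zero_add]

theorem coeff_scaleVar (z : I → ℤ) (p : MvPolynomial I R) (N : ℤ) (d : I →₀ ℕ) :
    ((scaleVar z p).coeff N).coeff d = if (∑ i, (d i : ℤ) * z i) = N then p.coeff d else 0 := by
  induction p using MvPolynomial.induction_on' with
  | monomial d' c =>
    classical
    rw [scaleVar_monomial, AddMonoidAlgebra.coeff_single, Finsupp.single_apply, MvPolynomial.coeff_monomial]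
    split_ifs with h1 h2 h3 h4 <;> try simp_all [MvPolynomial.coeff_monomial]
    rintro rfl
    exact absurd h1 h2
  | add p q hp hq =>
    rw [map_add, AddMonoidAlgebra.coeff_add, Finsupp.add_apply, MvPolynomial.coeff_add, hp, hq, MvPolynomial.coeff_add]
    split_ifs <;> simp

/-- **The coordinates are homogeneous.** -/
theorem coords_weight {n m : ℕ} {eneg : Fin n → D.idx} {epos : Fin m → D.idx}
    (hneg : RedSub.Enumerates b.neg eneg) (hpos : RedSub.Enumerates b.pos epos) (r : I → D.idx) {l : ℕ}
    (var : Fin l → I) (hr : ∀ k, r (var k) ∈ b.pos) (ε : Fin l → R) :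
    ∃ c : Fin m → MvPolynomial I R,
      pe a (fun k => D.u (r (var k))) (fun k => MvPolynomial.C (ε k) * MvPolynomial.X (var k)) =
        pe a (fun k => D.u (epos k)) c ∧
      ∀ (k : Fin m) (d : I →₀ ℕ), (c k).coeff d ≠ 0 → D.P.root (epos k) = ∑ i, (d i : ℤ) • D.P.root (r i) := by
  classical
  let P := MvPolynomial I R
  haveI := isAffineHom_hom D
  haveI : ∀ k, IsMonHom ((fun k => D.u (epos k)) k) := fun k => isMonHom_u D _
  haveI : ∀ k, Mono ((fun k => D.u (epos k)) k) := fun k => mono_u D _
  let e : Fin l → D.idx := fun k => r (var k)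
  let v : Fin l → P := fun k => MvPolynomial.C (ε k) * MvPolynomial.X (var k)
  obtain ⟨c, hc⟩ := factors_pos D b a hneg hpos e hr v
  obtain ⟨f, hf₁, -⟩ := b.regular
  obtain ⟨g, hg⟩ := exists_injective_functional (fun k => D.P.root k) D.P.root.injective
  have hfp : ∀ k, 0 < f (D.P.root (epos k)) := fun k => hf₁ _ (hpos.2 ▸ ⟨k, rfl⟩)
  refine ⟨c, hc, fun k d hd => sub_eq_zero.1 ((Module.forall_dual_apply_eq_zero_iff ℤ _).1 fun mu => ?_)⟩
  have hw : ∀ k, scaleVar (fun i => mu (D.P.root (r i))) (c k) =
      ((unitT P ^ mu (D.P.root (epos k)) : (P[T;T⁻¹])ˣ) : P[T;T⁻¹]) * toT R P (cC R P (c k)) := by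
    refine congrFun (pe_injective a (hasWeights_coch D f epos) hfp (hasWeights_coch D g epos) (hg.comp hpos.1) ?_)
    rw [← aM_pe, ← hc, ← conj_pe a (hasWeights_coch D mu epos),
      show (fun k => toT R P (cC R P (c k))) = fun k => ((toT R P).comp (cC R P)) (c k) from rfl, ← aM_pe, ← hc, aM_pe,
      aM_pe, conj_pe a (hasWeights_coch D mu e)]
    congr 1
    funext j
    simp only [v, e, P, scaleVar, map_mul, MvPolynomial.aeval_X, MvPolynomial.aeval_C, unitT_zpow, AlgHom.comp_apply,
      toT_cC]
    rw [show algebraMap R (MvPolynomial I R)[T;T⁻¹] (ε j) = AddMonoidAlgebra.single 0 (MvPolynomial.C (ε j)) from rfl,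
      mul_left_comm]
  have h1 := congrArg (fun F : P[T;T⁻¹] => (F.coeff (mu (D.P.root (epos k)))).coeff d) (hw k)
  simp only [unitT_zpow, toT_cC, LaurentPolynomial.T, AddMonoidAlgebra.single_mul_single, _root_.one_mul, add_zero,
    AddMonoidAlgebra.coeff_single, Finsupp.single_eq_same] at h1
  replace h1 := (coeff_scaleVar _ _ _ _).symm.trans h1
  rw [map_sub, map_sum, sub_eq_zero]
  split_ifs at h1 with h2
  · simpa using h2.symm
  · exact absurd h1.symm hd

end SplitCell

end
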